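import Cfsg.Agent.Lib.GeomClasses.TensorMaximal
import Cfsg.Agent.Lib.GeomClasses.UnitQr
import Cfsg.Agent.Lib.GeomClasses.Tensor

/-!
The tensor product of two unitary spaces: contractions adjoint to the pure embeddings, elements of the two
factors, root elements.
-/

set_option autoImplicit false
set_option linter.unusedSectionVars false
set_option linter.unusedSimpArgs false

namespace CfsgLib.GeomClasses.UnitTensor

open Matrix Module TensorMax
open scoped Kronecker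

variable {F : Type*} [Field F] [Fintype F] {a b : ℕ}

attribute [-simp] Matrix.coe_units_inv

/-- The tensor form. -/
def hV (σ : F ≃+* F) (f₁ : (Fin a → F) → (Fin a → F) → F) (f₂ : (Fin b → F) → (Fin b → F) → F) :
    V2 F a b → V2 F a b → F :=
  Cfsg.Geo.formOfGram (σ : F → F) (Cfsg.Geo.gramMatrix f₁ ⊗ₖ Cfsg.Geo.gramMatrix f₂)

/-- Contraction adjoint to `pl w`. -/
def Cv (f₂ : (Fin b → F) → (Fin b → F) → F) (w : Fin b → F) : V2 F a b →ₗ[F] (Fin a → F) := C (fVec f₂ w)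

/-- The action on the left factor. -/
def lft (A : GL (Fin a) F) : GL (Fin a × Fin b) F where
  val := (A : Matrix (Fin a) (Fin a) F) ⊗ₖ (1 : Matrix (Fin b) (Fin b) F)
  inv := ((A⁻¹ : GL (Fin a) F) : Matrix (Fin a) (Fin a) F) ⊗ₖ (1 : Matrix (Fin b) (Fin b) F)
  val_inv := by rw [← Matrix.mul_kronecker_mul, one_mul, ← Units.val_mul, mul_inv_cancel, Units.val_one,
    Matrix.one_kronecker_one]
  inv_val := by rw [← Matrix.mul_kronecker_mul, one_mul, ← Units.val_mul, inv_mul_cancel, Units.val_one,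
    Matrix.one_kronecker_one]

/-- The action on the right factor. -/
def rgt (B : GL (Fin b) F) : GL (Fin a × Fin b) F where
  val := (1 : Matrix (Fin a) (Fin a) F) ⊗ₖ (B : Matrix (Fin b) (Fin b) F)
  inv := (1 : Matrix (Fin a) (Fin a) F) ⊗ₖ ((B⁻¹ : GL (Fin b) F) : Matrix (Fin b) (Fin b) F)
  val_inv := by rw [← Matrix.mul_kronecker_mul, one_mul, ← Units.val_mul, mul_inv_cancel, Units.val_one,
    Matrix.one_kronecker_one]
  inv_val := by rw [← Matrix.mul_kronecker_mul, one_mul, ← Units.val_mul, inv_mul_cancel, Units.val_one,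
    Matrix.one_kronecker_one]

theorem lft_inv (A : GL (Fin a) F) : (lft A : GL (Fin a × Fin b) F)⁻¹ = lft A⁻¹ := Units.ext rfl

theorem rgt_inv (B : GL (Fin b) F) : (rgt B : GL (Fin a × Fin b) F)⁻¹ = rgt B⁻¹ := Units.ext rfl

theorem lft_pl (A : GL (Fin a) F) (z : Fin b → F) (u : Fin a → F) :
    ((lft A : GL (Fin a × Fin b) F) : M2 F a b) *ᵥ pl z u = pl z ((A : Matrix (Fin a) (Fin a) F) *ᵥ u) := by
  show ((A : Matrix (Fin a) (Fin a) F) ⊗ₖ (1 : Matrix (Fin b) (Fin b) F)) *ᵥ pl z u = _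
  rw [kronecker_mulVec_pl, one_mulVec]

theorem rgt_pl (B : GL (Fin b) F) (z : Fin b → F) (u : Fin a → F) :
    ((rgt B : GL (Fin a × Fin b) F) : M2 F a b) *ᵥ pl z u = pl ((B : Matrix (Fin b) (Fin b) F) *ᵥ z) u := by
  show ((1 : Matrix (Fin a) (Fin a) F) ⊗ₖ (B : Matrix (Fin b) (Fin b) F)) *ᵥ pl z u = _
  rw [kronecker_mulVec_pl, one_mulVec]

theorem pl_add' (z z' : Fin b → F) (u : Fin a → F) : pl (z + z') u = pl z u + pl z' u := by
  ext; simp [pl, mul_add]

theorem pl_smul' (c : F) (z : Fin b → F) (u : Fin a → F) : pl (c • z) u = c • pl z u := by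
  ext; simp [pl]; ring

theorem pl_sub' (z z' : Fin b → F) (u : Fin a → F) : pl (z - z') u = pl z u - pl z' u := by
  ext; simp [pl, mul_sub]

theorem pl_zero' (u : Fin a → F) : pl (0 : Fin b → F) u = 0 := by ext; simp [pl]

/-- Two unitary factors. -/
structure Forms (σ : F ≃+* F) (f₁ : (Fin a → F) → (Fin a → F) → F) (f₂ : (Fin b → F) → (Fin b → F) → F) :
    Prop where
  u₁ : Cfsg.Geo.IsUnitaryForm σ f₁
  u₂ : Cfsg.Geo.IsUnitaryForm σ f₂

variable {σ : F ≃+* F} {f₁ : (Fin a → F) → (Fin a → F) → F} {f₂ : (Fin b → F) → (Fin b → F) → F}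

theorem Cv_lft (A : GL (Fin a) F) (w : Fin b → F) (x : V2 F a b) :
    Cv f₂ w (((lft A : GL (Fin a × Fin b) F) : M2 F a b) *ᵥ x) =
      (A : Matrix (Fin a) (Fin a) F) *ᵥ Cv f₂ w x :=
  LinearMap.congr_fun (ext_pl (f := Cv f₂ w ∘ₗ Matrix.mulVecLin ((lft A : GL (Fin a × Fin b) F) : M2 F a b))
    (g := Matrix.mulVecLin (A : Matrix (Fin a) (Fin a) F) ∘ₗ Cv f₂ w) fun u z => by
      simp [Cv, lft_pl, C_pl, mulVec_smul]) x

theorem hV_sesq (f₁ : (Fin a → F) → (Fin a → F) → F) (f₂ : (Fin b → F) → (Fin b → F) → F) :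
    IsSesq (σ : F →+* F) (hV σ f₁ f₂) := by
  refine ⟨fun x y v => ?_, fun c x v => ?_, fun v x y => ?_, fun c v x => ?_⟩
  · simp [hV, Cfsg.Geo.formOfGram, add_mul, Finset.sum_add_distrib]
  · simp [hV, Cfsg.Geo.formOfGram, Finset.mul_sum, mul_assoc]
  · simp [hV, Cfsg.Geo.formOfGram, mul_add, Finset.sum_add_distrib]
  · simp only [hV, Cfsg.Geo.formOfGram, Pi.smul_apply, smul_eq_mul, map_mul, Finset.mul_sum]
    refine Finset.sum_congr rfl fun i _ => Finset.sum_congr rfl fun j _ => ?_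
    show _ = σ c * _
    ring

theorem hV_pl (hF : Forms σ f₁ f₂) (w w' : Fin b → F) (u u' : Fin a → F) :
    hV σ f₁ f₂ (pl w u) (pl w' u') = f₁ u u' * f₂ w w' := by
  rw [Tensor.sesq_expand (Unit.sesq hF.u₁) u u', Tensor.sesq_expand (Unit.sesq hF.u₂) w w', Finset.sum_mul_sum]
  simp only [hV, Cfsg.Geo.formOfGram, pl, LinearMap.coe_mk, AddHom.coe_mk, map_mul, Fintype.sum_prod_type,
    Matrix.kroneckerMap_apply, Finset.sum_mul_sum]
  refine Finset.sum_congr rfl fun i _ => Finset.sum_congr rfl fun i' _ =>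
    Finset.sum_congr rfl fun j _ => Finset.sum_congr rfl fun j' _ => ?_
  simp only [RingEquiv.coe_toRingHom, RingHom.coe_coe]
  ring

namespace Forms

variable (hF : Forms σ f₁ f₂)
include hF

theorem Cv_pl (w z : Fin b → F) (u : Fin a → F) : Cv f₂ w (pl z u) = f₂ z w • u := by
  rw [Cv, C_pl, (Unit.sesq hF.u₂).fVec_dot]

theorem Cv_add (w w' : Fin b → F) (x : V2 F a b) : Cv f₂ (w + w') x = Cv f₂ w x + Cv f₂ w' x := by
  rw [Cv, Cv, Cv, (Unit.sesq hF.u₂).fVec_add, C_add]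

theorem Cv_smul (t : F) (w : Fin b → F) (x : V2 F a b) : Cv f₂ (t • w) x = σ t • Cv f₂ w x := by
  rw [Cv, Cv, (Unit.sesq hF.u₂).fVec_smul, C_smul]
  rfl

theorem Cv_sub (w w' : Fin b → F) (x : V2 F a b) : Cv f₂ (w - w') x = Cv f₂ w x - Cv f₂ w' x :=
  eq_sub_of_add_eq (by rw [← hF.Cv_add, sub_add_cancel])

theorem Cv_zero (x : V2 F a b) : Cv f₂ 0 x = 0 := by
  simpa using hF.Cv_smul 0 0 x

theorem eq_zero_of_Cv {x : V2 F a b} (h : ∀ w, Cv f₂ w x = 0) : x = 0 := by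
  refine eq_zero_of_C fun φ => ?_
  have := (Unit.sesq hF.u₂).span_fVec hF.u₂.nondegenerate (S :=
    LinearMap.ker ({ toFun := fun φ => C φ x, map_add' := fun φ ψ => C_add φ ψ x,
                     map_smul' := fun t φ => C_smul t φ x } : (Fin b → F) →ₗ[F] (Fin a → F))) (fun w => h w)
  have h1 : φ ∈ (⊤ : Submodule F (Fin b → F)) := Submodule.mem_top
  rw [← this] at h1
  exact h1

theorem eq_of_left {u v : Fin a → F} (h : ∀ u', f₁ u u' = f₁ v u') : u = v := by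
  by_contra hne
  obtain ⟨y, hy⟩ := (hF.u₁.nondegenerate _ (sub_ne_zero.2 hne)).2
  exact hy (by rw [Unit.sub_left hF.u₁, h, sub_self])

theorem adj (x : V2 F a b) (w : Fin b → F) (u : Fin a → F) :
    hV σ f₁ f₂ x (pl w u) = f₁ (Cv f₂ w x) u := by
  refine LinearMap.congr_fun (ext_pl
    (f := ({ toFun := fun x => hV σ f₁ f₂ x (pl w u)
             map_add' := fun x y => (hV_sesq f₁ f₂).add_left x y _
             map_smul' := fun c x => (hV_sesq f₁ f₂).smul_left c x _ } : V2 F a b →ₗ[F] F))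
    (g := ({ toFun := fun x => f₁ (Cv f₂ w x) u
             map_add' := fun x y => by rw [map_add, Unit.add_left hF.u₁]
             map_smul' := fun c x => by rw [map_smul, Unit.smul_left hF.u₁]; rfl } : V2 F a b →ₗ[F] F))
    fun p z => ?_) x
  show hV σ f₁ f₂ (pl z p) (pl w u) = f₁ (Cv f₂ w (pl z p)) u
  rw [hV_pl hF, hF.Cv_pl, Unit.smul_left hF.u₁, mul_comm]

theorem conj (x y : V2 F a b) : σ (hV σ f₁ f₂ x y) = hV σ f₁ f₂ y x := by
  have h0 : ∀ p z, σ (hV σ f₁ f₂ x (pl z p)) = hV σ f₁ f₂ (pl z p) x := fun p z => by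
    refine LinearMap.congr_fun (ext_pl
      (f := ({ toFun := fun x => hV σ f₁ f₂ x (pl z p)
               map_add' := fun x y => (hV_sesq f₁ f₂).add_left x y _
               map_smul' := fun c x => (hV_sesq f₁ f₂).smul_left c x _ } : V2 F a b →ₗ[F] F))
      (g := ({ toFun := fun x => σ (hV σ f₁ f₂ (pl z p) x)
               map_add' := fun x y => by rw [(hV_sesq f₁ f₂).add_right, map_add]
               map_smul' := fun c x => by
                 rw [(hV_sesq f₁ f₂).smul_right, map_mul]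
                 show σ (σ c) * _ = c * _
                 rw [hF.u₁.involutive] } : V2 F a b →ₗ[F] F))
      fun q r => ?_) x |> fun h => by
        have h' := congrArg σ h
        simpa [hF.u₁.involutive] using h'
    show hV σ f₁ f₂ (pl r q) (pl z p) = σ (hV σ f₁ f₂ (pl z p) (pl r q))
    rw [hV_pl hF, hV_pl hF, map_mul, ← hF.u₁.herm, ← hF.u₂.herm]
  refine (LinearMap.congr_fun (ext_pl
    (f := ({ toFun := fun y => hV σ f₁ f₂ y x
             map_add' := fun u y => (hV_sesq f₁ f₂).add_left u y _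
             map_smul' := fun c u => (hV_sesq f₁ f₂).smul_left c u _ } : V2 F a b →ₗ[F] F))
    (g := ({ toFun := fun y => σ (hV σ f₁ f₂ x y)
             map_add' := fun u y => by rw [(hV_sesq f₁ f₂).add_right, map_add]
             map_smul' := fun c u => by
               rw [(hV_sesq f₁ f₂).smul_right, map_mul]
               show σ (σ c) * _ = c * _
               rw [hF.u₁.involutive] } : V2 F a b →ₗ[F] F))
    fun p z => (h0 p z).symm) y).symm

theorem adj' (w : Fin b → F) (u : Fin a → F) (x : V2 F a b) :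
    hV σ f₁ f₂ (pl w u) x = f₁ u (Cv f₂ w x) := by
  rw [← hF.conj, hF.adj, Unit.conj_form hF.u₁]

/-! ### The orthogonal hyperplane of a vector -/

theorem finrank_perp1 {w : Fin b → F} (hw : w ≠ 0) :
    finrank F (Unit.perp hF.u₂ (Submodule.span F {w})) = b - 1 := by
  have := Unit.finrank_perp hF.u₂ (Submodule.span F {w})
  rw [finrank_span_singleton hw, Fintype.card_fin] at this
  omega

theorem mem_perp1 {w y : Fin b → F} : y ∈ Unit.perp hF.u₂ (Submodule.span F {w}) ↔ f₂ y w = 0 := by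
  rw [Unit.mem_perp hF.u₂]
  refine ⟨fun h => h w (Submodule.mem_span_singleton_self w), fun h z hz => ?_⟩
  obtain ⟨r, rfl⟩ := Submodule.mem_span_singleton.1 hz
  rw [Unit.smul_right hF.u₂, h, mul_zero]

theorem mem_line_of_perp {w y : Fin b → F} (hw : w ≠ 0) (h : ∀ z, f₂ z w = 0 → f₂ y z = 0) :
    ∃ c : F, y = c • w := by
  obtain ⟨c, hc⟩ := exists_smul_of_ker_le ((Unit.sesq hF.u₂).fVec_ne_zero hF.u₂.nondegenerate hw)
    (ψ := fVec f₂ y) fun z hz => by
      rw [(Unit.sesq hF.u₂).fVec_dot] at hz ⊢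
      exact Unit.eq_zero_comm hF.u₂ (h z hz)
  refine ⟨σ c, Unit.fVec_injective hF.u₂ ?_⟩
  rw [hc, (Unit.sesq hF.u₂).fVec_smul]
  show c • _ = σ (σ c) • _
  rw [hF.u₂.involutive]

theorem exists_one {w : Fin b → F} (hw : w ≠ 0) : ∃ w', f₂ w' w = 1 := by
  obtain ⟨y, hy⟩ := exists_dot_eq_one ((Unit.sesq hF.u₂).fVec_ne_zero hF.u₂.nondegenerate hw)
  exact ⟨y, by rw [← (Unit.sesq hF.u₂).fVec_dot, dotProduct_comm, hy]⟩

theorem exists_partner {w : Fin b → F} (hw : w ≠ 0) (hww : f₂ w w = 0) :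
    ∃ w', f₂ w' w' = 0 ∧ f₂ w' w = 1 := by
  obtain ⟨y, hy⟩ := hF.exists_one hw
  obtain ⟨c, hc⟩ := Unit.exists_isotropic_add hF.u₂ hww (x := y) (by rw [hy]; exact one_ne_zero)
  exact ⟨_, hc, by rw [Unit.add_left hF.u₂, Unit.smul_left hF.u₂, hy, hww, mul_zero, add_zero]⟩

end Forms

/-- An element from a map `P`, on a line. -/
noncomputable def eW (f₂ : (Fin b → F) → (Fin b → F) → F) (P : (Fin a → F) →ₗ[F] (Fin a → F)) (w : Fin b → F) :
    GL (Fin a × Fin b) F := el (ten P (fVec f₂ w) w)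

theorem eW_mulVec (hF : Forms σ f₁ f₂) (P : (Fin a → F) →ₗ[F] (Fin a → F)) {w : Fin b → F} (hw : f₂ w w = 0)
    (x : V2 F a b) : (eW f₂ P w : M2 F a b) *ᵥ x = x + pl w (P (Cv f₂ w x)) := by
  rw [eW, el_mulVec (ten_sq P (by rw [(Unit.sesq hF.u₂).fVec_dot, hw])), ten_apply]
  rfl

/-- An overgroup of the stabiliser of a tensor decomposition of a unitary space. -/
structure Setting (σ : F ≃+* F) (f₁ : (Fin a → F) → (Fin a → F) → F) (f₂ : (Fin b → F) → (Fin b → F) → F)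
    (H : Subgroup (GL (Fin a × Fin b) F)) : Prop extends Forms σ f₁ f₂ where
  two_le : 2 ≤ a
  lt : a < b
  three_le : 3 ≤ b
  small : ¬ (a = 2 ∧ ∀ t : F, σ t = t → t = 0 ∨ t = 1)
  sqrt : ∀ t : F, σ t = t → ∃ μ, μ * μ = t
  iso : ∀ g ∈ H, ∀ x y, hV σ f₁ f₂ ((g : M2 F a b) *ᵥ x) ((g : M2 F a b) *ᵥ y) = hV σ f₁ f₂ x y
  left : ∀ A : GL (Fin a) F, Symp.IsIsometry f₁ A → (A : Matrix (Fin a) (Fin a) F).det = 1 → lft A ∈ H
  right : ∀ B : GL (Fin b) F, Symp.IsIsometry f₂ B → (B : Matrix (Fin b) (Fin b) F).det = 1 → rgt B ∈ H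

namespace Setting

variable {H : Subgroup (GL (Fin a × Fin b) F)} (S : Setting σ f₁ f₂ H)
include S

/-- The embedding of a member. -/
noncomputable def xi (g : GL (Fin a × Fin b) F) (w : Fin b → F) : (Fin a → F) →ₗ[F] V2 F a b :=
  (fun _ => Matrix.mulVecLin (g : M2 F a b) ∘ₗ pl w) S

/-- The contraction of a member. -/
noncomputable def co (g : GL (Fin a × Fin b) F) (w : Fin b → F) : V2 F a b →ₗ[F] (Fin a → F) :=
  (fun _ => Cv f₂ w ∘ₗ Matrix.mulVecLin ((g⁻¹ : GL (Fin a × Fin b) F) : M2 F a b)) S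

theorem xi_apply (g : GL (Fin a × Fin b) F) (w : Fin b → F) (u : Fin a → F) :
    S.xi g w u = (g : M2 F a b) *ᵥ pl w u := rfl

theorem co_apply (g : GL (Fin a × Fin b) F) (w : Fin b → F) (x : V2 F a b) :
    S.co g w x = Cv f₂ w (((g⁻¹ : GL (Fin a × Fin b) F) : M2 F a b) *ᵥ x) := rfl

theorem adj_xi {g : GL (Fin a × Fin b) F} (hg : g ∈ H) (w : Fin b → F) (x : V2 F a b) (u : Fin a → F) :
    hV σ f₁ f₂ x (S.xi g w u) = f₁ (S.co g w x) u := by
  rw [co_apply, ← S.adj, xi_apply, ← S.iso g hg (((g⁻¹ : GL (Fin a × Fin b) F) : M2 F a b) *ᵥ x),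
    gl_mulVec_inv_mulVec]

theorem adj_xi' {g : GL (Fin a × Fin b) F} (hg : g ∈ H) (w : Fin b → F) (u : Fin a → F) (x : V2 F a b) :
    hV σ f₁ f₂ (S.xi g w u) x = f₁ u (S.co g w x) := by
  rw [← S.conj, S.adj_xi hg, Unit.conj_form S.u₁]

theorem co_xi (g : GL (Fin a × Fin b) F) {w : Fin b → F} (hw : f₂ w w = 0) (u : Fin a → F) :
    S.co g w (S.xi g w u) = 0 := by
  rw [co_apply, xi_apply, gl_inv_mulVec_mulVec, S.Cv_pl, hw, zero_smul]

theorem co_surjective (g : GL (Fin a × Fin b) F) {w : Fin b → F} (hw : w ≠ 0) :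
    Function.Surjective (S.co g w) := fun u => by
  obtain ⟨w', hw'⟩ := S.exists_one hw
  exact ⟨(g : M2 F a b) *ᵥ pl w' u, by rw [co_apply, gl_inv_mulVec_mulVec, S.Cv_pl, hw', one_smul]⟩

theorem xi_injective (g : GL (Fin a × Fin b) F) {w : Fin b → F} (hw : w ≠ 0) :
    Function.Injective (S.xi g w) := fun u u' h => by
  obtain ⟨θ, hθ⟩ := exists_dot_eq_one hw
  simpa [C_pl, hθ] using congrArg (C θ) (gl_mulVec_injective g h)

/-- A transvection group at `w` lies in `H`. -/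
theorem tW_mem {w : Fin b → F} (hw : f₂ w w = 0) {c : F} (hc : c + σ c = 0) :
    (eW f₂ (c • LinearMap.id) w : GL (Fin a × Fin b) F) ∈ H := by
  have h := S.right _ (Unit.formTv_isometry S.u₂ hw hc) (mem_specialLinear.1 (formTv_mem_specialLinear f₂ w c))
  convert h using 1
  refine gl_ext fun x => ?_
  rw [eW_mulVec S.toForms _ hw]
  refine LinearMap.congr_fun (ext_pl (f := LinearMap.id + pl w ∘ₗ (c • LinearMap.id) ∘ₗ Cv f₂ w)
    (g := Matrix.mulVecLin ((rgt (formTv f₂ w c) : GL (Fin a × Fin b) F) : M2 F a b)) fun u z => ?_) x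
  simp only [LinearMap.add_apply, LinearMap.id_apply, LinearMap.comp_apply, LinearMap.smul_apply, S.Cv_pl,
    Matrix.mulVecLin_apply, rgt_pl, Unit.formTv_mulVec S.u₂ hw, pl_add', pl_smul', map_smul, smul_smul]
  rw [mul_comm (f₂ z w) c]

/-- The Siegel element. -/
theorem exists_siegel {w y : Fin b → F} (hw : f₂ w w = 0) (hy : f₂ y w = 0) {c : F}
    (hc : c + σ c = - f₂ y y) :
    ∃ n ∈ H, ∀ x, (n : M2 F a b) *ᵥ x = x + pl y (Cv f₂ w x) + (c • pl w (Cv f₂ w x) - pl w (Cv f₂ y x)) := by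
  have hwy := Unit.eq_zero_comm S.u₂ hy
  refine ⟨rgt (UnitOrth.root f₂ w y c), S.right _ (UnitOrth.root_isometry S.u₂ hw hwy hc)
    (mem_specialLinear.1 (UnitCentres.root_det S.u₂)), fun x => ?_⟩
  refine LinearMap.congr_fun (ext_pl
    (g := LinearMap.id + pl y ∘ₗ Cv f₂ w + (c • (pl w ∘ₗ Cv f₂ w) - pl w ∘ₗ Cv f₂ y))
    (f := Matrix.mulVecLin ((rgt (UnitOrth.root f₂ w y c) : GL (Fin a × Fin b) F) : M2 F a b)) fun u z => ?_) x
  simp only [LinearMap.add_apply, LinearMap.sub_apply, LinearMap.id_apply, LinearMap.comp_apply,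
    LinearMap.smul_apply, S.Cv_pl, Matrix.mulVecLin_apply, rgt_pl, UnitOrth.root_mulVec S.u₂ hw hwy, pl_add',
    pl_smul', sub_smul, pl_sub', map_smul, smul_smul]

theorem root_mem {g : GL (Fin a × Fin b) F} (hg : g ∈ H) {w : Fin b → F} (hw : f₂ w w = 0) {c : F}
    (hc : c + σ c = 0) :
    ∃ t ∈ H, (∀ x, (t : M2 F a b) *ᵥ x = x + c • S.xi g w (S.co g w x)) ∧
      ∀ x, ((t⁻¹ : GL (Fin a × Fin b) F) : M2 F a b) *ᵥ x = x - c • S.xi g w (S.co g w x) := by
  refine ⟨g * eW f₂ (c • LinearMap.id) w * g⁻¹, H.mul_mem (H.mul_mem hg (S.tW_mem hw hc)) (H.inv_mem hg),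
    fun x => ?_, fun x => ?_⟩
  · rw [gl_mul_mulVec, gl_mul_mulVec, eW_mulVec S.toForms _ hw, mulVec_add, gl_mulVec_inv_mulVec,
      LinearMap.smul_apply, LinearMap.id_apply, map_smul, mulVec_smul]
    rfl
  · apply gl_mulVec_injective (g * eW f₂ (c • LinearMap.id) w * g⁻¹)
    beta_reduce
    rw [gl_mulVec_inv_mulVec, gl_mul_mulVec, gl_mul_mulVec, eW_mulVec S.toForms _ hw, mulVec_add,
      gl_mulVec_inv_mulVec, LinearMap.smul_apply, LinearMap.id_apply, map_smul, mulVec_smul, ← S.co_apply,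
      ← S.xi_apply, map_sub, map_smul, S.co_xi g hw, smul_zero, sub_zero, sub_add_cancel]

end Setting

end CfsgLib.GeomClasses.UnitTensor
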