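import Cfsg.Agent.Lib.GeomClasses.UnitTensor.Line

/-!
With an extra element every isotropic vector is the centre of a transvection group in the overgroup.
-/

set_option autoImplicit false
set_option linter.unusedSectionVars false
set_option linter.unusedSimpArgs false

namespace CfsgLib.GeomClasses.UnitTensor

open Matrix Module TensorMax
open scoped Kronecker

variable {F : Type*} [Field F] [Fintype F] {a b : ℕ} {σ : F ≃+* F}
  {f₁ : (Fin a → F) → (Fin a → F) → F} {f₂ : (Fin b → F) → (Fin b → F) → F}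

attribute [-simp] Matrix.coe_units_inv

section gen

variable {n : ℕ} {f : (Fin n → F) → (Fin n → F) → F} (hf : Cfsg.Geo.IsUnitaryForm σ f)

/-- The rank one map `u ↦ f(u, A) C`. -/
def rk (f : (Fin n → F) → (Fin n → F) → F) (A C : Fin n → F) : (Fin n → F) →ₗ[F] (Fin n → F) :=
  (dotProductBilin F F (fVec f A)).smulRight C

/-- The symmetrised rank two map. -/
def sy (f : (Fin n → F) → (Fin n → F) → F) (A C : Fin n → F) : (Fin n → F) →ₗ[F] (Fin n → F) :=
  rk f A C + rk f C A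

include hf

theorem rk_apply (A C u : Fin n → F) : rk f A C u = f u A • C := by
  show (fVec f A ⬝ᵥ u) • C = _
  rw [(Unit.sesq hf).fVec_dot]

theorem sy_apply (A C u : Fin n → F) : sy f A C u = f u A • C + f u C • A := by
  rw [sy, LinearMap.add_apply, rk_apply hf, rk_apply hf]

theorem top_nondeg : Cfsg.Geo.IsNondegenerateOn f (⊤ : Submodule F (Fin n → F)) := fun x _ hx =>
  let ⟨⟨y, hy⟩, ⟨z, hz⟩⟩ := hf.nondegenerate x hx
  ⟨⟨y, Submodule.mem_top, hy⟩, ⟨z, Submodule.mem_top, hz⟩⟩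

theorem exists_iso_pair (hn : 2 ≤ n) {u v : Fin n → F} (hu : u ≠ 0) (hv : v ≠ 0) :
    ∃ z, f z z = 0 ∧ f u z ≠ 0 ∧ f v z ≠ 0 := by
  obtain ⟨y, hy⟩ := (hf.nondegenerate u hu).2
  obtain ⟨y', hy'⟩ := (hf.nondegenerate v hv).2
  obtain ⟨z, -, h⟩ := UnitCentres.exists_iso_both hf (top_nondeg hf)
    (by rwa [finrank_top, Module.finrank_fintype_fun_eq_card, Fintype.card_fin])
    (x := u) (x' := v) ⟨y, Submodule.mem_top, hy⟩ ⟨y', Submodule.mem_top, hy'⟩
  exact ⟨z, h⟩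

theorem perp_line {p v : Fin n → F} (hp : p ≠ 0) (h : ∀ y, f y p = 0 → f v y = 0) : ∃ c : F, v = c • p := by
  obtain ⟨c, hc⟩ := exists_smul_of_ker_le ((Unit.sesq hf).fVec_ne_zero hf.nondegenerate hp)
    (ψ := fVec f v) fun y hy => by
      rw [(Unit.sesq hf).fVec_dot] at hy ⊢
      exact Unit.eq_zero_comm hf (h y hy)
  refine ⟨σ c, Unit.fVec_injective hf ?_⟩
  rw [hc, (Unit.sesq hf).fVec_smul]
  show c • _ = σ (σ c) • _
  rw [hf.involutive]

end gen

namespace Setting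

variable {H : Subgroup (GL (Fin a × Fin b) F)} (S : Setting σ f₁ f₂ H)
include S

/-- A map which lies in the overgroup on every isotropic line. -/
def Good (P : (Fin a → F) →ₗ[F] (Fin a → F)) : Prop :=
  (fun _ => ∀ w, f₂ w w = 0 → eW f₂ P w ∈ H) S

/-- A centre of a transvection group in the overgroup. -/
def Cen (x : V2 F a b) : Prop :=
  (fun _ => ∀ c, c + σ c = 0 → ∃ t ∈ H, ∀ z, (t : M2 F a b) *ᵥ z = z + (c * hV σ f₁ f₂ z x) • x) S

/-! ### Good maps -/

theorem eW_zero (P : (Fin a → F) →ₗ[F] (Fin a → F)) : eW f₂ P 0 = 1 :=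
  gl_ext fun x => by rw [eW_mulVec S.toForms _ (Unit.zero_left S.u₂ 0), pl_zero', add_zero]; simp

theorem good_move {P : (Fin a → F) →ₗ[F] (Fin a → F)} {w v : Fin b → F} (hw : f₂ w w = 0) (hv : f₂ v v = 0)
    (hwv : f₂ w v ≠ 0) (h : eW f₂ P w ∈ H) : eW f₂ P v ∈ H := by
  have h3 : 3 ≤ finrank F (⊤ : Submodule F (Fin b → F)) := by
    rw [finrank_top, Module.finrank_fintype_fun_eq_card, Fintype.card_fin]; have := S.three_le; omega
  obtain ⟨c, -, hc, hwc, hvc⟩ := UnitCentres.exists_bisector S.u₂ (top_nondeg S.u₂) h3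
    (Submodule.mem_top (x := w)) (Submodule.mem_top (x := v)) hw hv hwv
  obtain ⟨γ, hcy, hγ, hmove⟩ := UnitCentres.exists_root_move S.u₂ hc hw hv (hvc.trans hwc.symm)
    (by rw [hwc]; exact one_ne_zero)
  set B := UnitOrth.root f₂ c ((f₂ w c)⁻¹ • (v - w)) γ
  have hB : Symp.IsIsometry f₂ B := UnitOrth.root_isometry S.u₂ hc hcy hγ
  have hBH : rgt B ∈ H := S.right B hB (mem_specialLinear.1 (UnitCentres.root_det S.u₂))
  refine TensorMax.mem_of_conj hBH h (gl_ext fun x => ?_)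
  rw [gl_mul_mulVec, gl_mul_mulVec, eW_mulVec S.toForms _ hw, eW_mulVec S.toForms _ hv, mulVec_add, rgt_pl, hmove]
  congr 3
  refine LinearMap.congr_fun (ext_pl (f := Cv f₂ w)
    (g := Cv f₂ v ∘ₗ Matrix.mulVecLin ((rgt B : GL (Fin a × Fin b) F) : M2 F a b)) fun u z => ?_) x
  rw [LinearMap.comp_apply, Matrix.mulVecLin_apply, rgt_pl, S.Cv_pl, S.Cv_pl, ← hmove, hB]

theorem good_of_mem {P : (Fin a → F) →ₗ[F] (Fin a → F)} {w : Fin b → F} (hw0 : w ≠ 0) (hw : f₂ w w = 0)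
    (h : eW f₂ P w ∈ H) : S.Good P := fun v hv => by
  rcases eq_or_ne v 0 with rfl | hv0
  · rw [S.eW_zero]; exact H.one_mem
  obtain ⟨z, hz, hwz, hvz⟩ := exists_iso_pair S.u₂ (by have := S.three_le; omega) hw0 hv0
  exact S.good_move hz hv (Unit.ne_zero_comm S.u₂ hvz) (S.good_move hw hz hwz h)

theorem good_id {c : F} (hc : c + σ c = 0) : S.Good (c • LinearMap.id) := fun _ hw => S.tW_mem hw hc

theorem good_add {P Q : (Fin a → F) →ₗ[F] (Fin a → F)} (hP : S.Good P) (hQ : S.Good Q) : S.Good (P + Q) :=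
  fun w hw => by
    have e : eW f₂ (P + Q) w = eW f₂ P w * eW f₂ Q w := gl_ext fun x => by
      simp only [gl_mul_mulVec, eW_mulVec S.toForms _ hw, map_add, S.Cv_pl, hw, zero_smul, add_zero,
        LinearMap.add_apply, map_zero]
      abel
    rw [e]
    exact H.mul_mem (hP w hw) (hQ w hw)

theorem good_sub {P Q : (Fin a → F) →ₗ[F] (Fin a → F)} (hP : S.Good P) (hQ : S.Good Q) : S.Good (P - Q) :=
  fun w hw => by
    have e : eW f₂ (P - Q) w * eW f₂ Q w = eW f₂ P w := gl_ext fun x => by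
      simp only [gl_mul_mulVec, eW_mulVec S.toForms _ hw, map_add, S.Cv_pl, hw, zero_smul, add_zero,
        LinearMap.sub_apply, map_sub, map_zero]
      abel
    rw [eq_mul_inv_of_mul_eq e]
    exact H.mul_mem (hP w hw) (H.inv_mem (hQ w hw))

theorem good_norm {P : (Fin a → F) →ₗ[F] (Fin a → F)} (hP : S.Good P) {t : F} (ht : σ t = t) :
    S.Good (t • P) := fun w hw => by
  obtain ⟨l, hl⟩ := Unit.exists_norm S.u₂.ne_refl S.u₂.involutive ht
  have hlw : f₂ (l • w) (l • w) = 0 := by rw [Unit.smul_left S.u₂, Unit.smul_right S.u₂, hw, mul_zero, mul_zero]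
  have e : eW f₂ (t • P) w = eW f₂ P (l • w) := gl_ext fun x => by
    rw [eW_mulVec S.toForms _ hw, eW_mulVec S.toForms _ hlw, S.Cv_smul, pl_smul', map_smul, map_smul, smul_smul,
      LinearMap.smul_apply, map_smul, hl]
  rw [e]
  exact hP _ hlw

theorem good_conj {P Q : (Fin a → F) →ₗ[F] (Fin a → F)} {A : GL (Fin a) F} (hA : Symp.IsIsometry f₁ A)
    (hAd : (A : Matrix (Fin a) (Fin a) F).det = 1) (hP : S.Good P)
    (hQ : ∀ u, Q ((A : Matrix (Fin a) (Fin a) F) *ᵥ u) = (A : Matrix (Fin a) (Fin a) F) *ᵥ P u) : S.Good Q :=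
  fun w hw => TensorMax.mem_of_conj (S.left A hA hAd) (hP w hw) (gl_ext fun x => by
    rw [gl_mul_mulVec, gl_mul_mulVec, eW_mulVec S.toForms _ hw, eW_mulVec S.toForms _ hw, mulVec_add, lft_pl,
      Cv_lft, hQ])

theorem good_skew {P : (Fin a → F) →ₗ[F] (Fin a → F)} (hP : S.Good P) (u v : Fin a → F) :
    f₁ (P u) v + f₁ u (P v) = 0 := by
  obtain ⟨w, hw0, hw⟩ := Unit.exists_isotropic S.u₂ (by rw [Fintype.card_fin]; have := S.three_le; omega)
  obtain ⟨w', hw'w', hw'⟩ := S.exists_partner hw0 hw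
  have h := S.iso _ (hP w hw) (pl w' u) (pl w' v)
  rw [eW_mulVec S.toForms _ hw, eW_mulVec S.toForms _ hw, S.Cv_pl, S.Cv_pl, hw', one_smul, one_smul,
    (hV_sesq f₁ f₂).add_left, (hV_sesq f₁ f₂).add_right, (hV_sesq f₁ f₂).add_right, hV_pl S.toForms,
    hV_pl S.toForms, hV_pl S.toForms, hV_pl S.toForms, hw, hw', hw'w',
    show f₂ w w' = 1 by rw [← Unit.conj_form S.u₂, hw', map_one]] at h
  linear_combination h

theorem good_swap {w : Fin b → F} (hw : f₂ w w = 0) (hw0 : w ≠ 0) {g₁ g₂ : GL (Fin a × Fin b) F}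
    (hg₁ : g₁ ∈ H) (hg₂ : g₂ ∈ H) {ι₁ ι₂ : (Fin a → F) →ₗ[F] V2 F a b} {ρ₁ ρ₂ : V2 F a b →ₗ[F] (Fin a → F)}
    (h₁ : ∀ x, (g₁ : M2 F a b) *ᵥ x = x + ι₁ (Cv f₂ w x) + pl w (ρ₁ x))
    (h₂ : ∀ x, (g₂ : M2 F a b) *ᵥ x = x + ι₂ (Cv f₂ w x) + pl w (ρ₂ x))
    (c₁ : ∀ u, Cv f₂ w (ι₁ u) = 0) (c₂ : ∀ u, Cv f₂ w (ι₂ u) = 0)
    (r₁ : ∀ u, ρ₁ (pl w u) = 0) (r₂ : ∀ u, ρ₂ (pl w u) = 0) : S.Good (ρ₁ ∘ₗ ι₂ - ρ₂ ∘ₗ ι₁) := by
  refine S.good_of_mem hw0 hw (mem_of_swap hg₁ hg₂ (gl_ext fun x => ?_))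
  simp only [gl_mul_mulVec, h₁, h₂, eW_mulVec S.toForms _ hw, map_add, c₁, c₂, r₁, r₂, S.Cv_pl, hw, zero_smul,
    map_zero, add_zero, LinearMap.sub_apply, LinearMap.comp_apply, map_sub]
  abel

/-! ### A transvection from an extra element -/

theorem exists_eta {P : (Fin a → F) →ₗ[F] (Fin a → F)} (hP : S.Good P) (hns : NonScalar P) :
    ∃ p, f₁ p p = 0 ∧ f₁ (P p) p ≠ 0 := by
  by_contra hall
  push Not at hall
  obtain ⟨μ, hμ⟩ := scalar_of_eigen S.u₁ S.two_le (M := P) fun p hp => by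
    rcases eq_or_ne p 0 with rfl | hp0
    · exact ⟨0, by simp⟩
    obtain ⟨e, he0, he⟩ := Unit.exists_skew S.u₁.ne_refl S.u₁.involutive
    have hθ : ∀ r, f₁ r r = 0 → f₁ p r ≠ 0 → f₁ (P p) r / f₁ p r + σ (f₁ (P p) r / f₁ p r) = 0 := by
      intro r hr hpr
      have hrp := Unit.ne_zero_comm S.u₁ hpr
      have hskew : f₁ (P r) p = - σ (f₁ (P p) r) := by
        rw [Unit.conj_form S.u₁]
        linear_combination S.good_skew hP r p
      have hq : f₁ (p + (e / f₁ r p) • r) (p + (e / f₁ r p) • r) = 0 := by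
        rw [Unit.self_add_smul S.u₁, hp, hr, div_mul_cancel₀ _ hrp, he, mul_zero, add_zero, add_zero]
      have h1 := hall _ hq
      rw [map_add, map_smul, Unit.add_left S.u₁, Unit.add_right S.u₁, Unit.add_right S.u₁, Unit.smul_left S.u₁,
        Unit.smul_left S.u₁, Unit.smul_right S.u₁, Unit.smul_right S.u₁, hall p hp, hall r hr, hskew, map_div₀,
        Unit.conj_form S.u₁ r p, eq_neg_of_add_eq_zero_right he] at h1
      rw [map_div₀, Unit.conj_form S.u₁ p r]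
      have h2 : e * (f₁ (P p) r / f₁ p r + σ (f₁ (P p) r) / f₁ r p) = 0 := by linear_combination -h1
      exact (mul_eq_zero.1 h2).resolve_left he0
    obtain ⟨r, hr, hpr, -⟩ := exists_iso_pair S.u₁ S.two_le hp0 hp0
    have hMy : ∀ y, f₁ y p = 0 → f₁ (P p) y = 0 := by
      intro y hy
      by_contra hne
      obtain ⟨l, hl⟩ := Unit.exists_trace_ne_zero S.u₁.ne_refl
      set τ := σ (l * f₁ p r / f₁ (P p) y) with hτ
      have h1 : f₁ (r + τ • y) p = f₁ r p := by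
        rw [Unit.add_left S.u₁, Unit.smul_left S.u₁, hy, mul_zero, add_zero]
      obtain ⟨c, hc⟩ := Unit.exists_isotropic_add S.u₁ hp (x := r + τ • y)
        (by rw [h1]; exact Unit.ne_zero_comm S.u₁ hpr)
      have h2 : f₁ p (r + τ • y + c • p) = f₁ p r := by
        rw [Unit.add_right S.u₁, Unit.add_right S.u₁, Unit.smul_right S.u₁, Unit.smul_right S.u₁, hp,
          Unit.eq_zero_comm S.u₁ hy, mul_zero, mul_zero, add_zero, add_zero]
      have h3 := hθ _ hc (by rwa [h2])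
      have h4 : f₁ (P p) (r + τ • y + c • p) = f₁ (P p) r + l * f₁ p r := by
        rw [Unit.add_right S.u₁, Unit.add_right S.u₁, Unit.smul_right S.u₁, Unit.smul_right S.u₁, hall p hp,
          mul_zero, add_zero, hτ, S.u₁.involutive, div_mul_cancel₀ _ hne]
      rw [h2, h4, add_div, mul_div_cancel_right₀ _ hpr, map_add] at h3
      exact hl (by linear_combination h3 - hθ r hr hpr)
    exact perp_line S.u₁ hp0 hMy
  obtain ⟨q, hq⟩ := hns
  exact hq μ (hμ q)

theorem exists_trans {P : (Fin a → F) →ₗ[F] (Fin a → F)} (hP : S.Good P) {p : Fin a → F} (hp : f₁ p p = 0)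
    (hη : f₁ (P p) p ≠ 0) : ∀ c, c + σ c = 0 → S.Good (c • rk f₁ p p) := by
  set z := P p with hz
  set η := f₁ z p with hηdef
  have hpz : f₁ p z = -η := by linear_combination S.good_skew hP p p
  have hησ : σ η = -η := by rw [hηdef, Unit.conj_form S.u₁, hpz]
  suffices key : ∃ c₀, c₀ ≠ 0 ∧ c₀ + σ c₀ = 0 ∧ S.Good (c₀ • rk f₁ p p) by
    obtain ⟨c₀, h0, hc₀, hg⟩ := key
    intro c hc
    have := S.good_norm hg (t := c / c₀) (by
      rw [map_div₀, eq_neg_of_add_eq_zero_right hc, eq_neg_of_add_eq_zero_right hc₀, neg_div_neg_eq])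
    rwa [smul_smul, div_mul_cancel₀ _ h0] at this
  set D : F → ((Fin a → F) →ₗ[F] (Fin a → F)) := fun e => (-e) • sy f₁ z p - (e * e * η) • rk f₁ p p with hD
  have hDg : ∀ e, e + σ e = 0 → S.Good (D e) := by
    intro e he
    have h1 : S.Good (P + D e) := by
      refine S.good_conj (Unit.formTv_isometry S.u₁ hp he)
        (mem_specialLinear.1 (formTv_mem_specialLinear f₁ p e)) hP fun u => ?_
      rw [Unit.formTv_mulVec S.u₁ hp, Unit.formTv_mulVec S.u₁ hp, hD]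
      simp only [LinearMap.add_apply, LinearMap.sub_apply, LinearMap.smul_apply, map_add, map_smul,
        sy_apply S.u₁, rk_apply S.u₁, ← hz, hpz, hp]
      have hskew : f₁ (P u) p = - f₁ u z := by rw [hz]; linear_combination S.good_skew hP u p
      rw [hskew]
      module
    have h2 := S.good_sub h1 hP
    rwa [add_sub_cancel_left] at h2
  obtain ⟨e, he0, he⟩ := Unit.exists_skew S.u₁.ne_refl S.u₁.involutive
  have hse : σ e = -e := eq_neg_of_add_eq_zero_right he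
  rcases Nat.lt_or_ge a 3 with h3 | h3
  · obtain ⟨t, ht, ht0, ht1⟩ := S.small' (by have := S.two_le; omega)
    refine ⟨-(t * t - t) * (e * e * η), ?_, ?_, ?_⟩
    · refine mul_ne_zero (neg_ne_zero.2 ?_) (mul_ne_zero (mul_ne_zero he0 he0) hη)
      rw [show t * t - t = t * (t - 1) by ring]
      exact mul_ne_zero ht0 (sub_ne_zero.2 ht1)
    · simp only [map_mul, map_neg, map_sub, ht, hse, hησ]; ring
    · have h1 := S.good_sub (hDg (t * e) (by rw [map_mul, ht, hse]; ring)) (S.good_norm (hDg e he) ht)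
      convert h1 using 2
      simp only [hD]
      module
  · set L : (Fin a → F) → ((Fin a → F) →ₗ[F] (Fin a → F)) := fun v => e • sy f₁ v p with hL
    have hE : ∀ y γ, f₁ y p = 0 → γ + σ γ = - f₁ y y → S.Good (L (η • y + (γ * η - f₁ z y) • p)) := by
      intro y γ hy hγ
      have hpy := Unit.eq_zero_comm S.u₁ hy
      set ρ := UnitOrth.root f₁ p y γ
      have hρ : Symp.IsIsometry f₁ ρ := UnitOrth.root_isometry S.u₁ hp hpy hγ
      have hρp : (ρ : Matrix (Fin a) (Fin a) F) *ᵥ p = p := by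
        rw [UnitOrth.root_mulVec S.u₁ hp hpy, hp, hpy]; simp
      have hρz : (ρ : Matrix (Fin a) (Fin a) F) *ᵥ z = z + (η • y + (γ * η - f₁ z y) • p) := by
        rw [UnitOrth.root_mulVec S.u₁ hp hpy, add_assoc]
      have h1 : S.Good ((-e) • sy f₁ ((ρ : Matrix (Fin a) (Fin a) F) *ᵥ z) p - (e * e * η) • rk f₁ p p) := by
        refine S.good_conj hρ (mem_specialLinear.1 (UnitCentres.root_det S.u₁)) (hDg e he) fun u => ?_
        simp only [hD, LinearMap.sub_apply, LinearMap.smul_apply, sy_apply S.u₁, rk_apply S.u₁, hρ u z,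
          show f₁ ((ρ : Matrix (Fin a) (Fin a) F) *ᵥ u) p = f₁ u p by conv_lhs => rw [← hρp, hρ u p],
          mulVec_sub, mulVec_smul, mulVec_add, hρp]
      have h2 := S.good_sub (hDg e he) h1
      convert h2 using 1
      refine LinearMap.ext fun u => ?_
      simp only [hD, hL, hρz, LinearMap.sub_apply, LinearMap.smul_apply, sy_apply S.u₁, Unit.add_right S.u₁]
      module
    obtain ⟨ω, hω⟩ := Unit.exists_moved S.u₁.ne_refl
    obtain ⟨y₁, hy₁, hy₁p⟩ : ∃ y, f₁ y p = 0 ∧ ∀ c : F, y ≠ c • p := by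
      obtain ⟨θ, hθ, hθ'⟩ := exists_perp_notMem h3 (fVec f₁ p) p
      exact ⟨θ, by rw [← (Unit.sesq S.u₁).fVec_dot, dotProduct_comm]; exact hθ, hθ'⟩
    obtain ⟨y₂, hy₂, hy₂₁⟩ : ∃ y, f₁ y p = 0 ∧ f₁ y₁ y ≠ 0 := by
      by_contra hc
      push Not at hc
      obtain ⟨c, hc'⟩ := perp_line S.u₁ (fun h0 => hη (by rw [hηdef, h0, Unit.zero_right S.u₁])) hc
      exact hy₁p c hc'
    set y₂' := (ω / f₁ y₂ y₁) • y₂ with hy₂'
    have hy₂'p : f₁ y₂' p = 0 := by rw [hy₂', Unit.smul_left S.u₁, hy₂, mul_zero]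
    have h21 : f₁ y₂' y₁ = ω := by
      rw [hy₂', Unit.smul_left S.u₁, div_mul_cancel₀ _ (Unit.ne_zero_comm S.u₁ hy₂₁)]
    have h12 : f₁ y₁ y₂' = σ ω := by rw [← h21, Unit.conj_form S.u₁]
    obtain ⟨γ₁, hγ₁⟩ := Unit.exists_trace S.u₁.ne_refl S.u₁.involutive
      (show σ (- f₁ y₁ y₁) = - f₁ y₁ y₁ by rw [map_neg, Unit.self_fixed S.u₁])
    obtain ⟨γ₂, hγ₂⟩ := Unit.exists_trace S.u₁.ne_refl S.u₁.involutive
      (show σ (- f₁ y₂' y₂') = - f₁ y₂' y₂' by rw [map_neg, Unit.self_fixed S.u₁])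
    have h1 := hE (y₁ + y₂') (γ₁ + γ₂ - ω) (by rw [Unit.add_left S.u₁, hy₁, hy₂'p, add_zero]) (by
      rw [Unit.add_left S.u₁, Unit.add_right S.u₁, Unit.add_right S.u₁, h12, h21, map_sub, map_add]
      linear_combination hγ₁ + hγ₂)
    have h2 := S.good_sub (S.good_sub h1 (hE y₁ γ₁ hy₁ hγ₁)) (hE y₂' γ₂ hy₂'p hγ₂)
    refine ⟨e * η * (σ ω - ω), mul_ne_zero (mul_ne_zero he0 hη) (sub_ne_zero.2 hω), ?_, ?_⟩
    · simp only [map_mul, map_sub, S.u₁.involutive, hse, hησ]; ring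
    · convert h2 using 1
      refine LinearMap.ext fun u => ?_
      simp only [hL, LinearMap.sub_apply, LinearMap.smul_apply, sy_apply S.u₁, rk_apply S.u₁,
        Unit.add_right S.u₁, Unit.smul_right S.u₁, map_mul, map_sub, map_add, hησ]
      match_scalars <;> ring

theorem good_trans (hx : S.HasExtra) {p : Fin a → F} (hp : f₁ p p = 0) {c : F} (hc : c + σ c = 0) :
    S.Good (c • rk f₁ p p) := by
  obtain ⟨w, P, hw0, hw, hns, hmem⟩ := hx
  have hP := S.good_of_mem hw0 hw hmem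
  obtain ⟨p₀, hp₀, hη⟩ := S.exists_eta hP hns
  rcases eq_or_ne p 0 with rfl | hp0
  · intro v hv
    have : eW f₂ (c • rk f₁ (0 : Fin a → F) 0) v = 1 := gl_ext fun x => by
      rw [eW_mulVec S.toForms _ hv, LinearMap.smul_apply, rk_apply S.u₁, smul_zero, smul_zero, map_zero]; simp
    rw [this]
    exact H.one_mem
  have hp₀0 : p₀ ≠ 0 := fun h => hη (by rw [h, Unit.zero_right S.u₁])
  obtain ⟨r, hr, hr₀, hrp⟩ := exists_iso_pair S.u₁ S.two_le hp₀0 hp0
  obtain ⟨e, he0, he⟩ := Unit.exists_skew S.u₁.ne_refl S.u₁.involutive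
  have step : ∀ {p q : Fin a → F}, f₁ q q = 0 → f₁ q p ≠ 0 → S.Good (e • rk f₁ p p) →
      ∀ c, c + σ c = 0 → S.Good (c • rk f₁ q q) := fun {p q} hq hqp h => by
    refine S.exists_trans h hq ?_
    rw [LinearMap.smul_apply, rk_apply S.u₁, Unit.smul_left S.u₁, Unit.smul_left S.u₁]
    exact mul_ne_zero he0 (mul_ne_zero hqp (Unit.ne_zero_comm S.u₁ hqp))
  exact step hp hrp (step hr (Unit.ne_zero_comm S.u₁ hr₀) (S.exists_trans hP hp₀ hη e he) e he) c hc

/-! ### Centres -/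

theorem cen_map {g : GL (Fin a × Fin b) F} (hg : g ∈ H) {x : V2 F a b} (h : S.Cen ((g : M2 F a b) *ᵥ x)) :
    S.Cen x := fun c hc => by
  obtain ⟨t, ht, htz⟩ := h c hc
  refine ⟨g⁻¹ * t * g, H.mul_mem (H.mul_mem (H.inv_mem hg) ht) hg, fun z => ?_⟩
  rw [gl_mul_mulVec, gl_mul_mulVec, htz, S.iso g hg, mulVec_add, mulVec_smul, gl_inv_mulVec_mulVec,
    gl_inv_mulVec_mulVec]

theorem cen_zero : S.Cen 0 := fun c _ => ⟨1, H.one_mem, fun z => by simp⟩

theorem cen_pure (hx : S.HasExtra) {w : Fin b → F} (hw : f₂ w w = 0) {p : Fin a → F} (hp : f₁ p p = 0) :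
    S.Cen (pl w p) := fun c hc =>
  ⟨_, S.good_trans hx hp hc w hw, fun z => by
    rw [eW_mulVec S.toForms _ hw, LinearMap.smul_apply, rk_apply S.u₁, smul_smul, map_smul, S.adj]⟩

theorem cen_add {x₁ x₂ : V2 F a b} (h₁ : S.Cen x₁) (h₂ : S.Cen x₂) (hne : hV σ f₁ f₂ x₂ x₁ ≠ 0)
    (hsk : hV σ f₁ f₂ x₂ x₁ + σ (hV σ f₁ f₂ x₂ x₁) = 0) : S.Cen (x₂ + x₁) := by
  obtain ⟨t, ht, htz⟩ := h₁ (hV σ f₁ f₂ x₂ x₁)⁻¹ (by
    rw [map_inv₀, eq_neg_of_add_eq_zero_right hsk, inv_neg, add_neg_cancel])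
  refine S.cen_map (H.inv_mem ht) ?_
  rwa [show x₂ + x₁ = (t : M2 F a b) *ᵥ x₂ by rw [htz, inv_mul_cancel₀ hne, one_smul], gl_inv_mulVec_mulVec]

/-! ### All good maps -/

theorem good_pair (hb4 : 4 ≤ b) (hx : S.HasExtra) {B r : Fin a → F} (hB : f₁ B B = 0) (hr : f₁ r r = 0) (hBr : f₁ r B ≠ 0)
    {e : F} (he : e + σ e = 0) (he0 : e ≠ 0) (α β : F) : S.Good (e • sy f₁ (α • B + β • r) B) := by
  classical
  obtain ⟨s₁, hs₁0, hs₁⟩ := Unit.exists_isotropic S.u₂ (by rw [Fintype.card_fin]; have := S.three_le; omega)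
  obtain ⟨s', hs's', hs'⟩ := S.exists_partner hs₁0 hs₁
  set s₂ := (e / f₁ r B) • s' with hs₂def
  have hs₂ : f₂ s₂ s₂ = 0 := by rw [hs₂def, Unit.smul_left S.u₂, Unit.smul_right S.u₂, hs's', mul_zero, mul_zero]
  have h21 : f₂ s₂ s₁ = e / f₁ r B := by rw [hs₂def, Unit.smul_left S.u₂, hs', mul_one]
  have h21' : f₂ s₂ s₁ ≠ 0 := by rw [h21]; exact div_ne_zero he0 hBr
  have h12' := Unit.ne_zero_comm S.u₂ h21'
  clear_value s₂
  obtain ⟨w, hwmem, hw0, hw⟩ := UnitCentres.exists_iso_any S.u₂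
    (X := Unit.perp S.u₂ (Submodule.span F {s₁, s₂})) (by
      have h1 := Unit.finrank_perp S.u₂ (Submodule.span F {s₁, s₂})
      have h2 := finrank_span_finset_le_card (R := F) ({s₁, s₂} : Finset (Fin b → F))
      rw [Finset.coe_pair, Set.finrank] at h2
      have h4 : Finset.card ({s₁, s₂} : Finset (Fin b → F)) ≤ 2 := Finset.card_le_two
      rw [Fintype.card_fin] at h1
      omega)
  rw [Unit.mem_perp S.u₂] at hwmem
  have hws₁ : f₂ w s₁ = 0 := hwmem s₁ (Submodule.subset_span (by simp))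
  have hws₂ : f₂ w s₂ = 0 := hwmem s₂ (Submodule.subset_span (by simp))
  set x := pl s₂ r + pl s₁ B with hxdef
  have hh : hV σ f₁ f₂ (pl s₂ r) (pl s₁ B) = e := by rw [hV_pl S.toForms, h21, mul_div_cancel₀ _ hBr]
  obtain ⟨t, ht, htz⟩ := S.cen_add (S.cen_pure hx hs₁ hB) (S.cen_pure hx hs₂ hr) (by rwa [hh])
    (by rwa [hh]) e he
  rw [← hxdef] at htz
  have htinv : ∀ z, ((t⁻¹ : GL (Fin a × Fin b) F) : M2 F a b) *ᵥ z = z - (e * hV σ f₁ f₂ z x) • x := by
    intro z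
    apply gl_mulVec_injective t
    beta_reduce
    have hxx : hV σ f₁ f₂ x x = 0 := by
      rw [hxdef, (hV_sesq f₁ f₂).add_left, (hV_sesq f₁ f₂).add_right, (hV_sesq f₁ f₂).add_right,
        ← S.conj (pl s₂ r) (pl s₁ B), hh, hV_pl S.toForms, hV_pl S.toForms, hs₁, hs₂, mul_zero, mul_zero, zero_add,
        add_zero, he]
    rw [gl_mulVec_inv_mulVec, mulVec_sub, mulVec_smul, htz, htz, hxx, mul_zero, zero_smul, add_zero,
      add_sub_cancel_right]
  have hwx : ∀ u, hV σ f₁ f₂ (pl w u) x = 0 := fun u => by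
    rw [hxdef, (hV_sesq f₁ f₂).add_right, hV_pl S.toForms, hV_pl S.toForms, hws₁, hws₂]; simp
  have hfix : ∀ u, (t : M2 F a b) *ᵥ pl w u = pl w u := fun u => by rw [htz, hwx]; simp
  have hfix' := S.fix_inv hfix
  have key : ∀ y z, f₂ y w = 0 → f₂ z w = 0 → S.Good (e • sy f₁ (Cv f₂ y x) (Cv f₂ z x)) := by
    intro y z hy hz
    obtain ⟨c, hc⟩ := Unit.exists_trace S.u₂.ne_refl S.u₂.involutive
      (show σ (- f₂ y y) = - f₂ y y by rw [map_neg, Unit.self_fixed S.u₂])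
    obtain ⟨c', hc'⟩ := Unit.exists_trace S.u₂.ne_refl S.u₂.involutive
      (show σ (- f₂ z z) = - f₂ z z by rw [map_neg, Unit.self_fixed S.u₂])
    obtain ⟨n, hn, hnx⟩ := S.exists_siegel hw hy hc
    obtain ⟨n', hn', hnx'⟩ := S.exists_siegel hw hz hc'
    have hwy := Unit.eq_zero_comm S.u₂ hy
    have h1 := S.good_swap hw hw0 (H.mul_mem (H.mul_mem ht hn) (H.inv_mem ht)) hn'
      (ι₁ := Matrix.mulVecLin (t : M2 F a b) ∘ₗ pl y) (ι₂ := pl z)
      (ρ₁ := c • Cv f₂ w - Cv f₂ y ∘ₗ Matrix.mulVecLin ((t⁻¹ : GL (Fin a × Fin b) F) : M2 F a b))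
      (ρ₂ := c' • Cv f₂ w - Cv f₂ z)
      (fun x => by
        rw [gl_mul_mulVec, gl_mul_mulVec, hnx, mulVec_add, mulVec_add, mulVec_sub, mulVec_smul, hfix, hfix,
          gl_mulVec_inv_mulVec, S.Cv_fix (H.inv_mem ht) hfix']
        simp only [LinearMap.comp_apply, LinearMap.sub_apply, LinearMap.smul_apply, Matrix.mulVecLin_apply,
          map_sub, map_smul])
      (fun x => by simp only [hnx', LinearMap.sub_apply, LinearMap.smul_apply, map_sub, map_smul])
      (fun u => by simp [S.Cv_fix ht hfix, S.Cv_pl, hy])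
      (fun u => by simp [S.Cv_pl, hz])
      (fun u => by simp [S.Cv_pl, hw, hfix', hwy])
      (fun u => by simp [S.Cv_pl, hw, Unit.eq_zero_comm S.u₂ hz])
    have h2 := S.good_sub h1 (S.good_id (c := f₂ y z - f₂ z y) (by
      rw [map_sub, Unit.conj_form S.u₂, Unit.conj_form S.u₂]; ring))
    convert h2 using 1
    refine LinearMap.ext fun u => ?_
    simp only [LinearMap.sub_apply, LinearMap.comp_apply, LinearMap.smul_apply, LinearMap.id_apply,
      Matrix.mulVecLin_apply, htz, htinv, S.Cv_fix ht hfix, map_add, map_sub, map_smul, S.adj', S.Cv_pl, hy, hz,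
      hfix, sy_apply S.u₁]
    have hCw : Cv f₂ w x = 0 := by
      rw [hxdef, map_add, S.Cv_pl, S.Cv_pl, Unit.eq_zero_comm S.u₂ hws₁, Unit.eq_zero_comm S.u₂ hws₂]; simp
    simp only [hCw, smul_zero, zero_smul]
    module
  have hC : ∀ α β : F, ∃ y, f₂ y w = 0 ∧ Cv f₂ y x = α • B + β • r := fun α β => by
    refine ⟨σ (α / f₂ s₁ s₂) • s₂ + σ (β / f₂ s₂ s₁) • s₁, ?_, ?_⟩
    · rw [Unit.add_left S.u₂, Unit.smul_left S.u₂, Unit.smul_left S.u₂, Unit.eq_zero_comm S.u₂ hws₂,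
        Unit.eq_zero_comm S.u₂ hws₁, mul_zero, mul_zero, add_zero]
    · rw [hxdef, S.Cv_add, S.Cv_smul, S.Cv_smul, map_add, map_add, S.Cv_pl, S.Cv_pl, S.Cv_pl, S.Cv_pl, hs₁, hs₂,
        S.u₂.involutive, S.u₂.involutive, zero_smul, zero_smul, add_zero, zero_add, smul_smul, smul_smul,
        div_mul_cancel₀ _ h12', div_mul_cancel₀ _ h21', add_comm]
  obtain ⟨y, hy, hyx⟩ := hC α β
  obtain ⟨z, hz, hzx⟩ := hC 1 0
  have := key y z hy hz
  rwa [hyx, hzx, one_smul, zero_smul, add_zero] at this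

theorem exists_good_map (hb4 : 4 ≤ b) (hx : S.HasExtra) {u v : Fin a → F} (hu : u ≠ 0) (hv : f₁ v u + σ (f₁ v u) = 0) :
    ∃ P, S.Good P ∧ P u = v := by
  obtain ⟨B₀, hB₀, huB, -⟩ := exists_iso_pair S.u₁ S.two_le hu hu
  set B := σ (f₁ u B₀)⁻¹ • B₀ with hBdef
  have hB : f₁ B B = 0 := by rw [hBdef, Unit.smul_left S.u₁, Unit.smul_right S.u₁, hB₀, mul_zero, mul_zero]
  have hfB : f₁ u B = 1 := by rw [hBdef, Unit.smul_right S.u₁, S.u₁.involutive, inv_mul_cancel₀ huB]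
  have hB0 : B ≠ 0 := fun h => by rw [h, Unit.zero_right S.u₁] at hfB; exact zero_ne_one hfB
  obtain ⟨e, he0, he⟩ := Unit.exists_skew S.u₁.ne_refl S.u₁.involutive
  have hall : ∀ A, f₁ A B ≠ 0 → S.Good (e • sy f₁ A B) := fun A hA => by
    obtain ⟨c, hc⟩ := Unit.exists_isotropic_add S.u₁ hB hA
    have hrB : f₁ (A + c • B) B ≠ 0 := by
      rwa [Unit.add_left S.u₁, Unit.smul_left S.u₁, hB, mul_zero, add_zero]
    have := S.good_pair hb4 hx hB hc hrB he he0 (-c) 1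
    rwa [one_smul, neg_smul, show -(c • B) + (A + c • B) = A by abel] at this
  have hall' : ∀ A, S.Good (e • sy f₁ A B) := fun A => by
    by_cases hA : f₁ A B = 0
    · obtain ⟨y, hy⟩ := (S.u₁.nondegenerate B hB0).1
      have h1 := S.good_sub (hall (A + y) (by rwa [Unit.add_left S.u₁, hA, zero_add])) (hall y hy)
      convert h1 using 1
      refine LinearMap.ext fun p => ?_
      simp only [LinearMap.sub_apply, LinearMap.smul_apply, sy_apply S.u₁, Unit.add_right S.u₁]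
      module
    · exact hall A hA
  have hse : σ e = -e := eq_neg_of_add_eq_zero_right he
  obtain ⟨l, hl⟩ := Unit.exists_trace S.u₁.ne_refl S.u₁.involutive (b := f₁ u v / e) (by
    have h1 : σ (f₁ u v) = - f₁ u v := by
      rw [← Unit.conj_form S.u₁ v u, S.u₁.involutive]; linear_combination hv
    rw [map_div₀, h1, hse, neg_div_neg_eq])
  refine ⟨_, hall' (e⁻¹ • v + l • B), ?_⟩
  rw [LinearMap.smul_apply, sy_apply S.u₁, hfB, Unit.add_right S.u₁, Unit.smul_right S.u₁, Unit.smul_right S.u₁,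
    hfB, map_inv₀, hse, mul_one, one_smul, show (-e)⁻¹ * f₁ u v + σ l = - l by
      rw [div_eq_mul_inv, mul_comm] at hl
      rw [inv_neg]
      linear_combination hl]
  rw [neg_smul, show -(l • B) + (e⁻¹ • v + l • B) = e⁻¹ • v by abel, smul_inv_smul₀ he0]

/-! ### All isotropic vectors -/

theorem cen_step (hb4 : 4 ≤ b) (hx : S.HasExtra) {w w' : Fin b → F} (hw : f₂ w w = 0) (hw'w' : f₂ w' w' = 0)
    (hw' : f₂ w' w = 1) : ∀ (k : ℕ) (u v : Fin a → F) (R : V2 F a b), u ≠ 0 → Cv f₂ w R = 0 → Cv f₂ w' R = 0 →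
      finrank F (Submodule.span F (Set.range fun s => Cv f₂ s R)) ≤ k →
      hV σ f₁ f₂ (pl w' u + pl w v + R) (pl w' u + pl w v + R) = 0 → S.Cen (pl w' u + pl w v + R) := by
  have hww' : f₂ w w' = 1 := by rw [← Unit.conj_form S.u₂, hw', map_one]
  have move : ∀ (u v r : Fin a → F) (R : V2 F a b), u ≠ 0 → Cv f₂ w R = 0 → Cv f₂ w' R = 0 →
      (∀ c : F, r ≠ c • u) → ∃ v', ∃ g ∈ H, (g : M2 F a b) *ᵥ (pl w' u + pl w v + R) = pl w' r + pl w v' + R := by
    intro u v r R hu hR hR' hr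
    obtain ⟨θ₁, h1u, h1r⟩ := exists_perp_of_notMem hr
    obtain ⟨θ₂, h2r, h2u⟩ := exists_perp_of_notMem (indep_symm hu hr)
    obtain ⟨e, he0, he⟩ := Unit.exists_skew S.u₁.ne_refl S.u₁.involutive
    obtain ⟨v', hv'⟩ : ∃ v', fVec f₁ v' = σ (f₁ v u) • θ₂ + σ (f₁ v u + e) • θ₁ := by
      have htop := (Unit.sesq S.u₁).span_fVec S.u₁.nondegenerate (S := Submodule.span F (Set.range (fVec f₁)))
        fun z => Submodule.subset_span ⟨z, rfl⟩
      have h1 : σ (f₁ v u) • θ₂ + σ (f₁ v u + e) • θ₁ ∈ Submodule.span F (Set.range (fVec f₁)) :=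
        htop ▸ Submodule.mem_top
      refine Submodule.span_induction (p := fun φ _ => ∃ v', fVec f₁ v' = φ) ?_ ⟨0, ?_⟩ ?_ ?_ h1
      · rintro _ ⟨z, rfl⟩; exact ⟨z, rfl⟩
      · simpa using (Unit.sesq S.u₁).fVec_smul 0 (0 : Fin a → F)
      · rintro _ _ _ _ ⟨y, rfl⟩ ⟨z, rfl⟩; exact ⟨y + z, (Unit.sesq S.u₁).fVec_add y z⟩
      · rintro t _ _ ⟨z, rfl⟩
        exact ⟨σ t • z, by
          rw [(Unit.sesq S.u₁).fVec_smul]
          show σ (σ t) • _ = _
          rw [S.u₁.involutive]⟩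
    have hd : ∀ p, f₁ v' p = σ (fVec f₁ v' ⬝ᵥ p) := fun p => by
      rw [(Unit.sesq S.u₁).fVec_dot, Unit.conj_form S.u₁]
    have hvu : f₁ v' u = f₁ v u := by
      rw [hd, hv', add_dotProduct, smul_dotProduct, smul_dotProduct, h2u, h1u]; simp [S.u₁.involutive]
    have hvr : f₁ v' r = f₁ v u + e := by
      rw [hd, hv', add_dotProduct, smul_dotProduct, smul_dotProduct, h2r, h1r]
      simp [S.u₁.involutive, -map_add]
    obtain ⟨P, hP, hPu⟩ := S.exists_good_map hb4 hx hu (v := v' - v)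
      (by rw [Unit.sub_left S.u₁, hvu, sub_self, map_zero, add_zero])
    have hv'0 : v' ≠ 0 := fun h => he0 (by
      have := hvr.trans (congrArg (· + e) hvu.symm)
      rwa [h, Unit.zero_left S.u₁, Unit.zero_left S.u₁, zero_add, eq_comm] at this)
    obtain ⟨Q, hQ, hQv⟩ := S.exists_good_map hb4 hx hv'0 (v := r - u) (by
      rw [Unit.sub_left S.u₁, ← Unit.conj_form S.u₁ v' r, ← Unit.conj_form S.u₁ v' u, hvr, hvu, map_add,
        add_sub_cancel_left, S.u₁.involutive, add_comm, he])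
    refine ⟨v', eW f₂ Q w' * eW f₂ P w, H.mul_mem (hQ w' hw'w') (hP w hw), ?_⟩
    rw [gl_mul_mulVec, eW_mulVec S.toForms _ hw, eW_mulVec S.toForms _ hw'w']
    simp only [map_add, S.Cv_pl, hR, hR', hw, hw', hw'w', hww', zero_smul, one_smul, zero_add, add_zero, hPu,
      map_zero, map_sub, map_add, add_sub_cancel, hQv]
    abel
  intro k
  induction k with
  | zero =>
    intro u v R hu hR hR' hk hiso
    have hR0 : R = 0 := S.eq_zero_of_Cv fun s => by
      have h1 := Submodule.finrank_eq_zero.1 (Nat.le_zero.1 hk)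
      exact (Submodule.mem_bot F).1 (h1 ▸ Submodule.subset_span ⟨s, rfl⟩)
    subst hR0
    obtain ⟨r, hr0, hr⟩ := Unit.exists_isotropic S.u₁ (by rw [Fintype.card_fin]; exact S.two_le)
    obtain ⟨u', v', hu', hu'0, g, hg, hgx⟩ : ∃ u' v', f₁ u' u' = 0 ∧ u' ≠ 0 ∧ ∃ g ∈ H,
        (g : M2 F a b) *ᵥ (pl w' u + pl w v + 0) = pl w' u' + pl w v' + 0 := by
      by_cases hd : ∀ c : F, r ≠ c • u
      · obtain ⟨v', g, hg, hgx⟩ := move u v r 0 hu hR hR' hd
        exact ⟨r, v', hr, hr0, g, hg, hgx⟩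
      · push Not at hd
        obtain ⟨c, rfl⟩ := hd
        rw [Unit.smul_left S.u₁, Unit.smul_right S.u₁] at hr
        have hc : c ≠ 0 := fun h => hr0 (by rw [h, zero_smul])
        exact ⟨u, v, ((mul_eq_zero.1 hr).resolve_left hc |> fun h => (mul_eq_zero.1 h).resolve_left
          ((RingEquiv.map_ne_zero_iff σ).2 hc)), hu, 1, H.one_mem, by simp⟩
    have hiso' : hV σ f₁ f₂ (pl w' u' + pl w v' + 0) (pl w' u' + pl w v' + 0) = 0 := by
      rw [← hgx, S.iso g hg, hiso]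
    rw [add_zero, (hV_sesq f₁ f₂).add_left, (hV_sesq f₁ f₂).add_right, (hV_sesq f₁ f₂).add_right,
      hV_pl S.toForms, hV_pl S.toForms, hV_pl S.toForms, hV_pl S.toForms, hw, hw', hw'w', hww', mul_zero,
      mul_zero, mul_one, mul_one, zero_add, add_zero] at hiso'
    obtain ⟨P, hP, hPu⟩ := S.exists_good_map hb4 hx hu'0 (v := -v') (by
      rw [(Unit.sesq S.u₁).neg_left, map_neg, Unit.conj_form S.u₁]; linear_combination -hiso')
    refine S.cen_map (H.mul_mem (hP w hw) hg) ?_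
    rw [gl_mul_mulVec, hgx, eW_mulVec S.toForms _ hw]
    simp only [map_add, S.Cv_pl, hw, hw', one_smul, zero_smul, add_zero, hPu, map_neg, map_zero,
      add_neg_cancel_right]
    exact S.cen_pure hx hw'w' hu'
  | succ k ih =>
    intro u v R hu hR hR' hk hiso
    by_cases hR0 : Submodule.span F (Set.range fun s => Cv f₂ s R) = ⊥
    · exact ih u v R hu hR hR' (by rw [hR0, finrank_bot]; exact Nat.zero_le _) hiso
    obtain ⟨r, hrm, hr0⟩ := (Submodule.ne_bot_iff _).1 hR0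
    obtain ⟨u', v', hu'0, hu'm, g, hg, hgx⟩ : ∃ u' v', u' ≠ 0 ∧
        u' ∈ Submodule.span F (Set.range fun s => Cv f₂ s R) ∧ ∃ g ∈ H,
        (g : M2 F a b) *ᵥ (pl w' u + pl w v + R) = pl w' u' + pl w v' + R := by
      by_cases hd : ∀ c : F, r ≠ c • u
      · obtain ⟨v', g, hg, hgx⟩ := move u v r R hu hR hR' hd
        exact ⟨r, v', hr0, hrm, g, hg, hgx⟩
      · push Not at hd
        obtain ⟨c, rfl⟩ := hd
        refine ⟨u, v, hu, ?_, 1, H.one_mem, by simp⟩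
        exact (Submodule.smul_mem_iff _ (show c ≠ 0 from fun h => hr0 (by rw [h, zero_smul]))).1 hrm
    obtain ⟨θ, hθ⟩ := exists_dot_eq_one hu'0
    set y := - D θ R with hy
    have hys : ∀ s, f₂ y s = -(θ ⬝ᵥ Cv f₂ s R) := fun s => by
      rw [hy, (Unit.sesq S.u₂).neg_left, S.toForms.f₂_D]
    have hyw : f₂ y w = 0 := by rw [hys, hR, dotProduct_zero, neg_zero]
    have hyw' : f₂ y w' = 0 := by rw [hys, hR', dotProduct_zero, neg_zero]
    obtain ⟨c, hc⟩ := Unit.exists_trace S.u₂.ne_refl S.u₂.involutive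
      (show σ (- f₂ y y) = - f₂ y y by rw [map_neg, Unit.self_fixed S.u₂])
    obtain ⟨n, hn, hnx⟩ := S.exists_siegel hw hyw hc
    have hx' : (n : M2 F a b) *ᵥ (pl w' u' + pl w v' + R) =
        pl w' u' + pl w (v' + c • u' - Cv f₂ y R) + (R + pl y u') := by
      rw [hnx]
      simp only [map_add, S.Cv_pl, hR, hw, hw', Unit.eq_zero_comm S.u₂ hyw, Unit.eq_zero_comm S.u₂ hyw',
        zero_smul, one_smul, add_zero, zero_add, map_zero, map_sub, map_smul]
      abel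
    refine S.cen_map (H.mul_mem hn hg) ?_
    rw [gl_mul_mulVec, hgx, hx']
    refine ih u' _ _ hu'0 ?_ ?_ ?_ ?_
    · rw [map_add, hR, S.Cv_pl, hyw, zero_smul, add_zero]
    · rw [map_add, hR', S.Cv_pl, hyw', zero_smul, add_zero]
    · have hlt : Submodule.span F (Set.range fun s => Cv f₂ s (R + pl y u')) <
          Submodule.span F (Set.range fun s => Cv f₂ s R) := by
        have hle : Submodule.span F (Set.range fun s => Cv f₂ s (R + pl y u')) ≤
            Submodule.span F (Set.range fun s => Cv f₂ s R) ⊓ LinearMap.ker (dotProductBilin F F θ) := by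
          refine Submodule.span_le.2 ?_
          rintro _ ⟨s, rfl⟩
          refine ⟨?_, ?_⟩
          · show Cv f₂ s (R + pl y u') ∈ Submodule.span F (Set.range fun s => Cv f₂ s R)
            rw [map_add, S.Cv_pl]
            exact add_mem (Submodule.subset_span ⟨s, rfl⟩) (Submodule.smul_mem _ _ hu'm)
          · rw [SetLike.mem_coe, LinearMap.mem_ker]
            show θ ⬝ᵥ Cv f₂ s (R + pl y u') = 0
            rw [map_add, S.Cv_pl, dotProduct_add, dotProduct_smul, hθ, hys, smul_eq_mul, mul_one, add_neg_cancel]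
        refine lt_of_le_of_ne (hle.trans inf_le_left) fun heq => ?_
        have h1 : u' ∈ LinearMap.ker (dotProductBilin F F θ) := (hle.trans inf_le_right) (heq ▸ hu'm)
        rw [LinearMap.mem_ker] at h1
        exact one_ne_zero (hθ.symm.trans h1)
      have := Submodule.finrank_lt_finrank_of_lt hlt
      omega
    · rw [← hx', ← hgx, S.iso n hn, S.iso g hg, hiso]

/-- Every isotropic vector is a centre. -/
theorem cen_of_extra (hb4 : 4 ≤ b) (hx : S.HasExtra) {x : V2 F a b} (hxx : hV σ f₁ f₂ x x = 0) : S.Cen x := by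
  by_cases hx0 : x = 0
  · rw [hx0]; exact S.cen_zero
  obtain ⟨w, hw, hu⟩ : ∃ w, f₂ w w = 0 ∧ Cv f₂ w x ≠ 0 := by
    by_contra hc
    push Not at hc
    refine hx0 (S.eq_zero_of_Cv fun s => ?_)
    have htop := Unit.span_isotropic S.u₂ (by rw [Fintype.card_fin]; have := S.three_le; omega)
      (W := { carrier := {s | Cv f₂ s x = 0}
              add_mem' := fun {p q} hp hq => by
                show Cv f₂ (p + q) x = 0
                rw [S.Cv_add, show Cv f₂ p x = 0 from hp, show Cv f₂ q x = 0 from hq, add_zero]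
              zero_mem' := S.Cv_zero x
              smul_mem' := fun t p hp => by
                show Cv f₂ (t • p) x = 0
                rw [S.Cv_smul, show Cv f₂ p x = 0 from hp, smul_zero] }) hc
    exact show s ∈ _ from htop.symm ▸ Submodule.mem_top (x := s)
  have hw0 : w ≠ 0 := fun h => hu (by rw [h, S.Cv_zero])
  obtain ⟨w', hw'w', hw'⟩ := S.exists_partner hw0 hw
  have hww' : f₂ w w' = 1 := by rw [← Unit.conj_form S.u₂, hw', map_one]
  set R := x - pl w' (Cv f₂ w x) - pl w (Cv f₂ w' x) with hR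
  have hxe : x = pl w' (Cv f₂ w x) + pl w (Cv f₂ w' x) + R := by rw [hR]; abel
  rw [hxe] at hxx ⊢
  exact S.cen_step hb4 hx hw hw'w' hw' _ _ _ R hu
    (by rw [hR, map_sub, map_sub, S.Cv_pl, S.Cv_pl, hw, hw']; simp)
    (by rw [hR, map_sub, map_sub, S.Cv_pl, S.Cv_pl, hw'w', hww']; simp) le_rfl hxx

end Setting

end CfsgLib.GeomClasses.UnitTensor
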