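import Cfsg.Agent.Lib.GeomClasses.UnitTensor.Siegel

/-!
A member perpendicular to a line is a line; a root element of a member stabilising a line gives an extra
element.
-/

set_option autoImplicit false
set_option linter.unusedSectionVars false
set_option linter.unusedSimpArgs false

namespace CfsgLib.GeomClasses.UnitTensor

open Matrix Module TensorMax
open scoped Kronecker

variable {F : Type*} [Field F] [Fintype F] {a b : ℕ} {σ : F ≃+* F}
  {f₁ : (Fin a → F) → (Fin a → F) → F} {f₂ : (Fin b → F) → (Fin b → F) → F}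

attribute [-simp] Matrix.coe_units_inv

theorem det_unipotent {n : ℕ} {N : (Fin n → F) →ₗ[F] (Fin n → F)} (h : ∀ u, N (N u) = 0) :
    (LinearMap.toMatrix' (LinearMap.id + N)).det = 1 := by
  rw [LinearMap.det_toMatrix']
  set B : Module.End F (Fin n → F) := LinearMap.id + N
  have hB : IsNilpotent (B - 1) := ⟨2, LinearMap.ext fun u => by simp [B, pow_two, h]⟩
  have h1 := LinearMap.eval_charpoly (B - 1) (-1 : F)
  rw [IsNilpotent.charpoly_eq_X_pow_finrank hB, Polynomial.eval_pow, Polynomial.eval_X,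
    show algebraMap F (Module.End F (Fin n → F)) (-1) - (B - 1) = (-1 : F) • B from LinearMap.ext fun u => by simp [B]; module,
    LinearMap.det_smul] at h1
  exact (mul_left_cancel₀ (pow_ne_zero _ (neg_ne_zero.2 one_ne_zero)) (h1.symm.trans (mul_one _).symm))

/-- The isometry `1 + N` as an element of the general linear group. -/
noncomputable def unip {n : ℕ} {N : (Fin n → F) →ₗ[F] (Fin n → F)} (h : ∀ u, N (N u) = 0) : GL (Fin n) F :=
  Matrix.GeneralLinearGroup.mkOfDetNeZero (LinearMap.toMatrix' (LinearMap.id + N))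
    (by rw [det_unipotent h]; exact one_ne_zero)

theorem unip_mulVec {n : ℕ} {N : (Fin n → F) →ₗ[F] (Fin n → F)} (h : ∀ u, N (N u) = 0) (u : Fin n → F) :
    (unip h : Matrix (Fin n) (Fin n) F) *ᵥ u = u + N u := by
  show LinearMap.toMatrix' (LinearMap.id + N) *ᵥ u = _
  rw [LinearMap.toMatrix'_mulVec]
  rfl

theorem Forms.f₂_D (hF : Forms σ f₁ f₂) (q : Fin a → F) (x : V2 F a b) (z : Fin b → F) :
    f₂ (D q x) z = q ⬝ᵥ Cv f₂ z x := by
  refine LinearMap.congr_fun (ext_pl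
    (f := ({ toFun := fun x => f₂ (D q x) z
             map_add' := fun x y => by rw [map_add, Unit.add_left hF.u₂]
             map_smul' := fun c x => by rw [map_smul, Unit.smul_left hF.u₂]; rfl } : V2 F a b →ₗ[F] F))
    (g := ({ toFun := fun x => q ⬝ᵥ Cv f₂ z x
             map_add' := fun x y => by rw [map_add, dotProduct_add]
             map_smul' := fun c x => by rw [map_smul, dotProduct_smul]; rfl } : V2 F a b →ₗ[F] F))
    fun u r => ?_) x
  show f₂ (D q (pl r u)) z = q ⬝ᵥ Cv f₂ z (pl r u)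
  rw [D_pl, Unit.smul_left hF.u₂, hF.Cv_pl, dotProduct_smul, smul_eq_mul, mul_comm]

/-- A family of vectors whose contractions are scalars is pure. -/
theorem Forms.exists_pure (hF : Forms σ f₁ f₂) (ha : 0 < a) {η : (Fin a → F) →ₗ[F] V2 F a b}
    {A : (Fin b → F) → Prop} (h : ∀ s, A s → ∃ t : F, ∀ u, Cv f₂ s (η u) = t • u) :
    ∃ y, ∀ s, A s → ∀ u, Cv f₂ s (η u - pl y u) = 0 := by
  set e : Fin a → F := Pi.single ⟨0, ha⟩ 1
  obtain ⟨q, hq⟩ := exists_dot_eq_one (v := e) (by simp [e])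
  refine ⟨D q (η e), fun s hs u => ?_⟩
  obtain ⟨t, ht⟩ := h s hs
  rw [map_sub, ht, hF.Cv_pl, hF.f₂_D, ht, dotProduct_smul, hq, smul_eq_mul, mul_one, sub_self]

namespace Setting

variable {H : Subgroup (GL (Fin a × Fin b) F)} (S : Setting σ f₁ f₂ H)
include S

/-- A member which is a line. -/
def IsLine (g : GL (Fin a × Fin b) F) (v : Fin b → F) : Prop :=
  ∃ s, LinearMap.range (S.xi g v) = (L s : Submodule F (V2 F a b))

/-- The part of a member in a line. -/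
noncomputable def K1 (g : GL (Fin a × Fin b) F) (v w : Fin b → F) : Submodule F (Fin a → F) :=
  (L w).comap (S.xi g v)

theorem mem_K1 {g : GL (Fin a × Fin b) F} {v w : Fin b → F} {u : Fin a → F} :
    u ∈ S.K1 g v w ↔ S.xi g v u ∈ (L w : Submodule F (V2 F a b)) := Iff.rfl

theorem range_eq_of_le {g : GL (Fin a × Fin b) F} {v s : Fin b → F} (hv : v ≠ 0)
    (h : ∀ u, S.xi g v u ∈ (L s : Submodule F (V2 F a b))) :
    LinearMap.range (S.xi g v) = (L s : Submodule F (V2 F a b)) := by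
  refine Submodule.eq_of_le_of_finrank_le (fun x ⟨u, hu⟩ => hu ▸ h u) ?_
  rw [LinearMap.finrank_range_of_inj (S.xi_injective g hv), L]
  exact LinearMap.finrank_range_le _

theorem adjPQ {g : GL (Fin a × Fin b) F} (hg : g ∈ H) (v w : Fin b → F) (u u' : Fin a → F) :
    f₁ (Cv f₂ w (S.xi g v u)) u' = f₁ u (S.co g v (pl w u')) := by
  rw [← S.adj, S.adj_xi' hg]

theorem adjPQ' {g : GL (Fin a × Fin b) F} (hg : g ∈ H) (v w : Fin b → F) (u u' : Fin a → F) :
    f₁ (S.co g v (pl w u)) u' = f₁ u (Cv f₂ w (S.xi g v u')) := by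
  rw [← S.adj_xi hg, S.adj']

theorem line_of_prop {g : GL (Fin a × Fin b) F} {v : Fin b → F} (hv : v ≠ 0)
    {Ψ : (Fin a → F) →ₗ[F] (Fin a → F)} (hΨ : Function.Injective Ψ)
    (h : ∀ s, ∃ t : F, ∀ u, Cv f₂ s (S.xi g v u) = t • Ψ u) : S.IsLine g v := by
  let Ψe : (Fin a → F) ≃ₗ[F] (Fin a → F) := LinearEquiv.ofInjectiveEndo Ψ hΨ
  have hΨe : ∀ u, Ψ (Ψe.symm u) = u := fun u => Ψe.apply_symm_apply u
  obtain ⟨y, hy⟩ := S.exists_pure (by have := S.two_le; omega) (η := S.xi g v ∘ₗ Ψe.symm.toLinearMap)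
    (A := fun _ => True) fun s _ => by
      obtain ⟨t, ht⟩ := h s
      exact ⟨t, fun u => by rw [LinearMap.comp_apply, LinearEquiv.coe_coe, ht, hΨe]⟩
  refine ⟨y, S.range_eq_of_le hv fun u => ⟨Ψe u, ?_⟩⟩
  have e := sub_eq_zero.1 (S.eq_zero_of_Cv fun s => hy s trivial (Ψe u))
  rw [LinearMap.comp_apply, LinearEquiv.coe_coe, LinearEquiv.symm_apply_apply] at e
  exact e.symm

variable (hno : ¬ S.HasExtra)
include hno

/-- A root element of a member stabilising a line acts trivially on it. -/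
theorem stab_false {g : GL (Fin a × Fin b) F} (hg : g ∈ H) {v w : Fin b → F} (hv : f₂ v v = 0)
    (hw0 : w ≠ 0) (hw : f₂ w w = 0) {u₀ : Fin a → F} (hu₀ : S.co g v (pl w u₀) ≠ 0)
    (hst : ∀ u, S.xi g v (S.co g v (pl w u)) ∈ (L w : Submodule F (V2 F a b))) : False := by
  classical
  have hv0 : v ≠ 0 := fun h => hu₀ (by rw [co_apply, h, S.Cv_zero])
  obtain ⟨θ, hθ⟩ := exists_dot_eq_one hw0
  set Q₁ : (Fin a → F) →ₗ[F] (Fin a → F) := S.co g v ∘ₗ pl w with hQ₁
  set Q : (Fin a → F) →ₗ[F] (Fin a → F) := C θ ∘ₗ S.xi g v ∘ₗ Q₁ with hQ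
  have hwQ : ∀ u, S.xi g v (Q₁ u) = pl w (Q u) := fun u => by
    obtain ⟨y, hy⟩ := hst u
    simp [hQ, hQ₁, ← hy, C_pl, hθ]
  have hQ1Q : ∀ u, Q₁ (Q u) = 0 := fun u => by
    rw [hQ₁, LinearMap.comp_apply, ← hwQ, S.co_xi g hv]
  have hQQ : ∀ u, Q (Q u) = 0 := fun u => by
    rw [hQ, LinearMap.comp_apply, LinearMap.comp_apply, ← hQ, hQ1Q, map_zero, map_zero]
  have hQ0 : ∀ u, Q u = 0 → Q₁ u = 0 := fun u h => S.xi_injective g hv0 (by rw [hwQ, h, map_zero, map_zero])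
  have hQu₀ : Q u₀ ≠ 0 := fun h => hu₀ (hQ0 _ h)
  obtain ⟨c, hc0, hc⟩ := Unit.exists_skew S.u₂.ne_refl S.u₂.involutive
  obtain ⟨t, ht, htx, -⟩ := S.root_mem hg hv hc
  have htw : ∀ u, (t : M2 F a b) *ᵥ pl w u = pl w (u + c • Q u) := fun u => by
    rw [htx, show S.co g v (pl w u) = Q₁ u from rfl, hwQ, map_add, map_smul]
  -- the action on the line is unitary
  obtain ⟨w', -, hw'⟩ := S.exists_partner hw0 hw
  set B : (Fin a → F) →ₗ[F] (Fin a → F) :=
    Cv f₂ w ∘ₗ Matrix.mulVecLin ((t⁻¹ : GL (Fin a × Fin b) F) : M2 F a b) ∘ₗ pl w' with hB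
  have hBadj : ∀ u u', f₁ (B u) u' = f₁ u (u' + c • Q u') := fun u u' => by
    rw [hB, LinearMap.comp_apply, LinearMap.comp_apply, Matrix.mulVecLin_apply, ← S.adj,
      ← S.iso t ht, gl_mulVec_inv_mulVec, htw, S.adj, S.Cv_pl, hw', one_smul]
  have hCw : ∀ x, Cv f₂ w (((t⁻¹ : GL (Fin a × Fin b) F) : M2 F a b) *ᵥ x) = B (Cv f₂ w x) := fun x =>
    S.eq_of_left fun u' => by rw [hBadj, ← S.adj, ← S.iso t ht, gl_mulVec_inv_mulVec, htw, S.adj]
  obtain ⟨e, he0, he⟩ := Unit.exists_skew S.u₂.ne_refl S.u₂.involutive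
  set A : (Fin a → F) →ₗ[F] (Fin a → F) := LinearMap.id + c • Q with hA
  have hAu : ∀ u, A u = u + c • Q u := fun u => rfl
  obtain ⟨μ, hμ⟩ := S.scalar_of_mem hno hw0 hw (P := A ∘ₗ (e • B)) (by
    have h1 : t * eW f₂ (e • LinearMap.id) w * t⁻¹ = eW f₂ (A ∘ₗ (e • B)) w := gl_ext fun x => by
      rw [gl_mul_mulVec, gl_mul_mulVec, eW_mulVec S.toForms _ hw, eW_mulVec S.toForms _ hw, mulVec_add,
        gl_mulVec_inv_mulVec, hCw, htw, hA]
      simp only [LinearMap.comp_apply, LinearMap.add_apply, LinearMap.smul_apply, LinearMap.id_apply, map_add,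
        map_smul]
      module
    rw [← h1]
    exact H.mul_mem (H.mul_mem ht (S.tW_mem hw he)) (H.inv_mem ht))
  have hAB : ∀ u, A (B u) = (μ / e) • u := fun u => by
    have := hμ u
    rw [LinearMap.comp_apply, LinearMap.smul_apply, map_smul] at this
    rw [← inv_smul_smul₀ he0 (A (B u)), this, smul_smul, inv_mul_eq_div]
  have hBQ : ∀ u, B u = (μ / e) • (u - c • Q u) := fun u => by
    have h1 : A (B u) - c • Q (A (B u)) = B u := by
      simp only [hAu, map_add, map_smul, hQQ, smul_zero, add_zero]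
      abel
    rw [← h1, hAB, map_smul, smul_sub, smul_comm c]
  have hBB : ∀ u, B (B u - u) - (B u - u) = 0 := fun u => S.eq_of_left fun u' => by
    simp only [Unit.sub_left S.u₁, map_sub, hBadj, Unit.add_right S.u₁, Unit.zero_left S.u₁]
    simp only [map_add, map_smul, hQQ, smul_zero, add_zero, Unit.smul_right S.u₁]
    ring
  have hlam : μ / e = 1 := by
    have h1 := hBB (Q u₀)
    simp only [map_sub, hBQ, hQQ, smul_zero, sub_zero, map_smul, smul_smul] at h1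
    have h2 : ((μ / e - 1) * (μ / e - 1)) • Q u₀ = 0 := by
      rw [← h1]; module
    exact sub_eq_zero.1 (mul_self_eq_zero.1 ((smul_eq_zero.1 h2).resolve_right hQu₀))
  have hNsq : ∀ u, (-(c • Q)) ((-(c • Q)) u) = 0 := fun u => by simp [hQQ]
  set Ai : GL (Fin a) F := unip hNsq with hAi
  have hAiv : ∀ u, (Ai : Matrix (Fin a) (Fin a) F) *ᵥ u = u - c • Q u := fun u => by
    rw [hAi, unip_mulVec, sub_eq_add_neg]; rfl
  have hAiso : Symp.IsIsometry f₁ Ai := fun u u' => by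
    rw [hAiv, hAiv, ← one_smul F (u - c • Q u), ← hlam, ← hBQ, hBadj]
    simp [hQQ]
  have ht' : t * lft Ai ∈ H := H.mul_mem ht (S.left Ai hAiso (det_unipotent hNsq))
  -- the quotient
  have hquot : ∀ y z, f₂ y w = 0 → f₂ z w = 0 → ∀ u,
      c • Cv f₂ z (S.xi g v (S.co g v (pl y u))) = f₂ y z • c • Q u ∨
        Function.Injective (S.co g v ∘ₗ pl y) := by
    intro y z hy hz u
    obtain ⟨ν, hν⟩ := S.scalar_quotient hno hw0 hw ht' (fun u => by
      rw [gl_mul_mulVec, lft_pl, htw, hAiv]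
      simp [map_sub, hQQ]) hy hz
    have key : ∀ p, c • Cv f₂ z (S.xi g v (S.co g v (pl y p))) = (ν - f₂ y z) • p + (ν * c) • Q p := fun p => by
      have h1 := hν (p + c • Q p)
      rw [gl_mul_mulVec, lft_pl, hAiv, htx] at h1
      simp only [map_add, map_smul, hQQ, smul_zero, add_zero, add_sub_cancel_right, S.Cv_pl] at h1
      rw [sub_smul, mul_smul]
      rw [smul_add] at h1
      rw [← sub_eq_zero] at h1 ⊢
      rw [← h1]
      abel
    by_cases hν0 : ν = f₂ y z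
    · left
      rw [key, hν0, sub_self, zero_smul, zero_add, mul_smul]
    · right
      rw [← LinearMap.ker_eq_bot, Submodule.eq_bot_iff]
      intro p hp
      have h1 := key p
      rw [show S.co g v (pl y p) = 0 from hp, map_zero, map_zero, smul_zero] at h1
      have h2 := congrArg Q h1
      rw [map_zero, map_add, map_smul, map_smul, hQQ, smul_zero, add_zero, eq_comm, smul_eq_zero] at h2
      have h3 := h1
      rw [h2.resolve_left (sub_ne_zero.2 hν0), smul_zero, add_zero, eq_comm, smul_eq_zero] at h3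
      exact h3.resolve_left (sub_ne_zero.2 hν0)
  -- dimensions
  set Wp := Unit.perp S.u₂ (Submodule.span F {w}) with hWp
  set R := LinearMap.range Q₁ with hR
  set T := Unit.perp S.u₁ (S.K1 g v w) with hT
  have hRK : R ≤ S.K1 g v w := by rintro _ ⟨u, rfl⟩; exact hst u
  have hT' : ∀ y, f₂ y w = 0 → ∀ u, S.co g v (pl y u) ∈ T := fun y hy u => by
    rw [hT, Unit.mem_perp S.u₁]
    intro k hk
    obtain ⟨r, hr⟩ := S.mem_K1.1 hk
    rw [← S.adj_xi hg, ← hr, hV_pl S.toForms, hy, mul_zero]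
  have hRT : R ≤ T := by rintro _ ⟨u, rfl⟩; exact hT' w hw u
  have hR0 : R ≠ ⊥ := fun h => hu₀ (by
    have : Q₁ u₀ ∈ R := LinearMap.mem_range_self _ _
    rwa [h, Submodule.mem_bot] at this)
  have hTd : finrank F T + 1 ≤ a := by
    have h1 := Unit.finrank_perp S.u₁ (S.K1 g v w)
    rw [← hT, Fintype.card_fin] at h1
    have h2 := Submodule.finrank_mono hRK
    have h3 : 0 < finrank F R := Submodule.one_le_finrank_iff.2 hR0
    omega
  have hquot' : ∀ y z, f₂ y w = 0 → f₂ z w = 0 → ∀ u,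
      c • Cv f₂ z (S.xi g v (S.co g v (pl y u))) = f₂ y z • c • Q u := by
    intro y z hy hz u
    refine (hquot y z hy hz u).resolve_right fun hinj => ?_
    have h1 := LinearMap.finrank_range_of_inj hinj
    have h2 := Submodule.finrank_mono (show LinearMap.range (S.co g v ∘ₗ pl y) ≤ T by
      rintro _ ⟨p, rfl⟩; exact hT' y hy p)
    rw [h1, Module.finrank_fintype_fun_eq_card, Fintype.card_fin] at h2
    omega
  set Y : Wp →ₗ[F] (Fin a → F) := S.co g v ∘ₗ pr u₀ ∘ₗ Wp.subtype with hY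
  have hker : LinearMap.ker (R.mkQ ∘ₗ Y) ≤ (Submodule.span F {w}).comap Wp.subtype := by
    rintro ⟨y, hy⟩ hyk
    rw [LinearMap.mem_ker, LinearMap.comp_apply, Submodule.mkQ_apply, Submodule.Quotient.mk_eq_zero] at hyk
    obtain ⟨p, hp⟩ := hyk
    have hyw := S.mem_perp1.1 hy
    obtain ⟨r, hr⟩ := S.mem_line_of_perp hw0 (y := y) fun z hz => by
      have h1 := hquot' y z hyw hz u₀
      rw [show S.co g v (pl y u₀) = Q₁ p from hp.symm, hwQ, S.Cv_pl, Unit.eq_zero_comm S.u₂ hz, zero_smul,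
        smul_zero, eq_comm, smul_eq_zero, smul_eq_zero] at h1
      exact h1.resolve_right (fun h => h.elim hc0 hQu₀)
    rw [Submodule.mem_comap]
    exact Submodule.mem_span_singleton.2 ⟨r, hr.symm⟩
  have h1 := LinearMap.finrank_range_add_finrank_ker (R.mkQ ∘ₗ Y)
  have h2 : finrank F (LinearMap.ker (R.mkQ ∘ₗ Y)) ≤ 1 := by
    refine (Submodule.finrank_mono hker).trans ?_
    refine le_trans (LinearMap.finrank_le_finrank_of_injective
      (f := (Wp.subtype.restrict (q := Submodule.span F {w}) fun x hx => hx)) fun x y h => ?_) ?_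
    · exact Subtype.ext (Subtype.ext (by simpa using congrArg Subtype.val h))
    · rw [finrank_span_singleton hw0]
  have h3 : LinearMap.range (R.mkQ ∘ₗ Y) ≤ LinearMap.range (R.mkQ.domRestrict T) := by
    rintro _ ⟨⟨y, hy⟩, rfl⟩
    exact ⟨⟨_, hT' y (S.mem_perp1.1 hy) u₀⟩, rfl⟩
  have h4 := LinearMap.finrank_range_add_finrank_ker (R.mkQ.domRestrict T)
  have h5 : 0 < finrank F (LinearMap.ker (R.mkQ.domRestrict T)) := by
    obtain ⟨r, hr, hr0⟩ := (Submodule.ne_bot_iff _).1 hR0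
    refine Submodule.one_le_finrank_iff.2 ((Submodule.ne_bot_iff _).2 ⟨⟨r, hRT hr⟩, ?_, fun h => hr0 ?_⟩)
    · rw [LinearMap.mem_ker]
      exact (Submodule.Quotient.mk_eq_zero R).2 hr
    · exact congrArg Subtype.val h
  have h6 := Submodule.finrank_mono h3
  have h7 := S.finrank_perp1 hw0
  rw [← hWp] at h7
  have := S.lt
  omega

/-- A member perpendicular to a line is a line. -/
theorem line_of_perp {g : GL (Fin a × Fin b) F} (hg : g ∈ H) {v w : Fin b → F} (hv0 : v ≠ 0)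
    (hv : f₂ v v = 0) (hw0 : w ≠ 0) (hw : f₂ w w = 0) (hP : ∀ u, Cv f₂ w (S.xi g v u) = 0) :
    S.IsLine g v := by
  classical
  have hQ₁ : ∀ u, S.co g v (pl w u) = 0 := fun u => S.eq_of_left fun u' => by
    rw [S.adjPQ' hg, hP, Unit.zero_right S.u₁, Unit.zero_left S.u₁]
  obtain ⟨w', -, hw'⟩ := S.exists_partner hw0 hw
  obtain ⟨c, hc0, hc⟩ := Unit.exists_skew S.u₂.ne_refl S.u₂.involutive
  obtain ⟨t, ht, htx, -⟩ := S.root_mem hg hv hc
  have hfix : ∀ u, (t : M2 F a b) *ᵥ pl w u = pl w u := fun u => by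
    rw [htx, hQ₁, map_zero, smul_zero, add_zero]
  have hν : ∀ y z, f₂ y w = 0 → f₂ z w = 0 → ∃ ν : F, ∀ u,
      Cv f₂ z (S.xi g v (S.co g v (pl y u))) = ν • u := fun y z hy hz => by
    obtain ⟨μ, hμ⟩ := S.scalar_quotient hno hw0 hw ht hfix hy hz
    refine ⟨(μ - f₂ y z) / c, fun u => ?_⟩
    have h1 := hμ u
    rw [htx, map_add, map_smul, S.Cv_pl] at h1
    rw [← inv_smul_smul₀ hc0 (Cv f₂ z _), eq_sub_of_add_eq' h1, ← sub_smul, smul_smul, inv_mul_eq_div]
  choose! ν hν using hν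
  have hdec : ∀ s, ∃ y, f₂ y w = 0 ∧ ∀ u : Fin a → F, pl s u = pl y u + f₂ s w • pl w' u := fun s =>
    ⟨s - f₂ s w • w', by rw [Unit.sub_left S.u₂, Unit.smul_left S.u₂, hw', mul_one, sub_self], fun u => by
      rw [pl_sub', pl_smul', sub_add_cancel]⟩
  by_cases hall : ∀ y z, f₂ y w = 0 → f₂ z w = 0 → ∀ u, Cv f₂ z (S.xi g v (S.co g v (pl y u))) = 0
  · -- trivial quotient
    refine ⟨w, S.range_eq_of_le hv0 fun u => ?_⟩
    have hz0 : ∀ z, f₂ z w = 0 → ∀ p, Cv f₂ z (S.xi g v p) = 0 := by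
      intro z hz
      obtain ⟨-, μ, hμ⟩ := S.scalar_radical hno hw0 hw hw' ht hfix (fun y z hy hz u => by
        rw [htx, map_add, map_smul, hall y z hy hz, smul_zero, add_zero, S.Cv_pl]) hz
      have hμ' : ∀ p, Cv f₂ z (S.xi g v (S.co g v (pl w' p))) = (μ / c) • p := fun p => by
        have h1 := hμ p
        rw [htx, add_sub_cancel_left, map_smul] at h1
        rw [← inv_smul_smul₀ hc0 (Cv f₂ z _), h1, smul_smul, inv_mul_eq_div]
      by_cases hμ0 : μ / c = 0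
      · intro p
        obtain ⟨x, rfl⟩ := S.co_surjective g hv0 p
        exact LinearMap.congr_fun (ext_pl (f := Cv f₂ z ∘ₗ S.xi g v ∘ₗ S.co g v) (g := 0) fun q s => by
          obtain ⟨y, hy, hs⟩ := hdec s
          simp [hs, hall y z hy hz, hμ', hμ0]) x
      · exfalso
        have hsur : Function.Surjective (Cv f₂ z ∘ₗ S.xi g v) := fun p =>
          ⟨S.co g v (pl w' ((μ / c)⁻¹ • p)), by
            rw [LinearMap.comp_apply, hμ', smul_smul, mul_inv_cancel₀ hμ0, one_smul]⟩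
        have hinj := LinearMap.injective_iff_surjective.2 hsur
        have hzero : ∀ p, S.co g v (pl z p) = 0 := fun p => hinj (by
          rw [LinearMap.comp_apply, hall z z hz hz, map_zero])
        have : ∀ p, Cv f₂ z (S.xi g v p) = 0 := fun p => S.eq_of_left fun u' => by
          rw [S.adjPQ hg, hzero, Unit.zero_right S.u₁, Unit.zero_left S.u₁]
        have ha := S.two_le
        obtain ⟨r, hr⟩ := hsur (Pi.single ⟨0, by omega⟩ 1)
        rw [LinearMap.comp_apply, this] at hr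
        simpa using congrFun hr ⟨0, by omega⟩
    exact ⟨_, (S.mem_line_of_Cv hw' fun z hz => hz0 z hz u).symm⟩
  -- a graph over a totally singular plane
  push Not at hall
  obtain ⟨y₀, z₀, hy₀, hz₀, u₁, hu₁⟩ := hall
  have hν0 : ν y₀ z₀ ≠ 0 := fun h => hu₁ (by rw [hν _ _ hy₀ hz₀, h, zero_smul])
  set Φ₀ : (Fin a → F) →ₗ[F] (Fin a → F) := S.co g v ∘ₗ pl y₀ with hΦ₀
  set Ψ : (Fin a → F) →ₗ[F] (Fin a → F) := Cv f₂ z₀ ∘ₗ S.xi g v with hΨ
  have hΦi : Function.Injective Φ₀ := fun p p' h => by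
    have e := hν _ _ hy₀ hz₀ p
    rw [show S.co g v (pl y₀ p) = Φ₀ p from rfl, h] at e
    exact smul_right_injective _ hν0 (e.symm.trans (hν _ _ hy₀ hz₀ p'))
  have hΦs := LinearMap.injective_iff_surjective.1 hΦi
  have hΨi : Function.Injective Ψ := LinearMap.injective_iff_surjective.2 fun p =>
    ⟨Φ₀ ((ν y₀ z₀)⁻¹ • p), by
      show Cv f₂ z₀ (S.xi g v (S.co g v (pl y₀ _))) = p
      rw [hν _ _ hy₀ hz₀, smul_smul, mul_inv_cancel₀ hν0, one_smul]⟩
  have hCz : ∀ z, f₂ z w = 0 → ∀ p, Cv f₂ z (S.xi g v p) = (ν y₀ z / ν y₀ z₀) • Ψ p := fun z hz p => by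
    obtain ⟨q, rfl⟩ := hΦs p
    show Cv f₂ z (S.xi g v (S.co g v (pl y₀ q))) = _ • Cv f₂ z₀ (S.xi g v (S.co g v (pl y₀ q)))
    rw [hν _ _ hy₀ hz, hν _ _ hy₀ hz₀, smul_smul, div_mul_cancel₀ _ hν0]
  let Ψe : (Fin a → F) ≃ₗ[F] (Fin a → F) := LinearEquiv.ofInjectiveEndo Ψ hΨi
  obtain ⟨y₁, hy₁⟩ := S.exists_pure (by have := S.two_le; omega) (η := S.xi g v ∘ₗ Ψe.symm.toLinearMap)
    (A := fun z => f₂ z w = 0) fun z hz => ⟨ν y₀ z / ν y₀ z₀, fun u => by
      rw [LinearMap.comp_apply, LinearEquiv.coe_coe, hCz z hz, show Ψ (Ψe.symm u) = u from Ψe.apply_symm_apply u]⟩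
  have hxi : ∀ p, ∃ q, S.xi g v p = pl y₁ (Ψ p) + pl w q := fun p => by
    refine ⟨Cv f₂ w' (S.xi g v p - pl y₁ (Ψ p)), ?_⟩
    rw [← S.mem_line_of_Cv hw' fun z hz => ?_, add_sub_cancel]
    have e1 := hy₁ z hz (Ψ p)
    rwa [LinearMap.comp_apply, LinearEquiv.coe_coe, show Ψe.symm (Ψ p) = p from Ψe.symm_apply_apply p] at e1
  have hy₁w : f₂ y₁ w = 0 := by
    have ha := S.two_le
    set e : Fin a → F := Pi.single ⟨0, by omega⟩ 1
    obtain ⟨p, hp⟩ := LinearMap.injective_iff_surjective.1 hΨi e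
    obtain ⟨q, hq⟩ := hxi p
    have h1 := hP p
    rw [hq, map_add, S.Cv_pl, S.Cv_pl, hw, zero_smul, add_zero, hp] at h1
    simpa [e] using congrFun h1 ⟨0, by omega⟩
  have hy₁y₁ : f₂ y₁ y₁ = 0 := by
    by_contra hne
    have ha := S.two_le
    set e : Fin a → F := Pi.single ⟨0, by omega⟩ 1 with he
    obtain ⟨u', hu'⟩ := (S.u₁.nondegenerate e (by simp [he])).2
    obtain ⟨p, hp⟩ := LinearMap.injective_iff_surjective.1 hΨi e
    obtain ⟨p', hp'⟩ := LinearMap.injective_iff_surjective.1 hΨi u'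
    obtain ⟨q, hq⟩ := hxi p
    obtain ⟨q', hq'⟩ := hxi p'
    have h1 : hV σ f₁ f₂ (S.xi g v p) (S.xi g v p') = 0 := by
      rw [S.adj_xi hg, S.co_xi g hv, Unit.zero_left S.u₁]
    rw [hq, hq', hp, hp', (hV_sesq f₁ f₂).add_left, (hV_sesq f₁ f₂).add_right, (hV_sesq f₁ f₂).add_right,
      hV_pl S.toForms, hV_pl S.toForms, hV_pl S.toForms, hV_pl S.toForms, hy₁w, hw, Unit.eq_zero_comm S.u₂ hy₁w,
      mul_zero, mul_zero, mul_zero, add_zero, add_zero, add_zero, mul_eq_zero] at h1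
    exact h1.elim hu' hne
  -- conjugates by the left factor
  have hcomm : ∀ A : GL (Fin a) F, Symp.IsIsometry f₁ A → (A : Matrix (Fin a) (Fin a) F).det = 1 →
      ∃ κ : F, ∀ u, (A : Matrix (Fin a) (Fin a) F) *ᵥ (Ψ ∘ₗ S.co g v ∘ₗ pl w') u -
        (Ψ ∘ₗ S.co g v ∘ₗ pl w') ((A : Matrix (Fin a) (Fin a) F) *ᵥ u) =
          κ • ((A : Matrix (Fin a) (Fin a) F) *ᵥ u) := by
    intro A hA hAd
    have hA' : lft A ∈ H := S.left A hA hAd
    have hg' : lft A * g ∈ H := H.mul_mem hA' hg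
    obtain ⟨t', ht', htx', -⟩ := S.root_mem hg' hv hc
    obtain ⟨ti, hti, htix, -⟩ := S.root_mem hg hv (c := -c) (by rw [map_neg]; linear_combination -hc)
    have hxi' : ∀ p, S.xi (lft A * g) v p = ((lft A : GL (Fin a × Fin b) F) : M2 F a b) *ᵥ S.xi g v p := fun p => by
      rw [xi_apply, xi_apply, gl_mul_mulVec]
    have hco' : ∀ x, S.co (lft A * g) v x =
        S.co g v (((lft A⁻¹ : GL (Fin a × Fin b) F) : M2 F a b) *ᵥ x) := fun x => by
      rw [co_apply, co_apply, _root_.mul_inv_rev, gl_mul_mulVec, lft_inv]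
    have horth : ∀ p p', hV σ f₁ f₂ (S.xi g v p) (S.xi (lft A * g) v p') = 0 := fun p p' => by
      obtain ⟨q, hq⟩ := hxi p
      obtain ⟨q', hq'⟩ := hxi p'
      rw [hq, hxi', hq', mulVec_add, lft_pl, lft_pl, (hV_sesq f₁ f₂).add_left, (hV_sesq f₁ f₂).add_right,
        (hV_sesq f₁ f₂).add_right, hV_pl S.toForms, hV_pl S.toForms, hV_pl S.toForms, hV_pl S.toForms, hy₁y₁,
        hy₁w, hw, Unit.eq_zero_comm S.u₂ hy₁w]
      simp
    have hcross : ∀ p, S.co (lft A * g) v (S.xi g v p) = 0 := fun p => S.eq_of_left fun u' => by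
      rw [← S.adj_xi hg', horth, Unit.zero_left S.u₁]
    have hte : ∀ x, ((t' * ti : GL (Fin a × Fin b) F) : M2 F a b) *ᵥ x =
        x + c • (((lft A : GL (Fin a × Fin b) F) : M2 F a b) *ᵥ
          S.xi g v (S.co g v (((lft A⁻¹ : GL (Fin a × Fin b) F) : M2 F a b) *ᵥ x))) -
            c • S.xi g v (S.co g v x) := fun x => by
      rw [gl_mul_mulVec, htix, htx', map_add (S.co _ _), map_smul (S.co _ _), hcross, smul_zero, add_zero,
        hxi', hco']
      module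
    have hAi : ∀ u, (A : Matrix (Fin a) (Fin a) F) *ᵥ (((A⁻¹ : GL (Fin a) F) : Matrix (Fin a) (Fin a) F) *ᵥ u) = u :=
      gl_mulVec_inv_mulVec A
    obtain ⟨-, μ, hμ⟩ := S.scalar_radical hno hw0 hw hw' (H.mul_mem ht' hti)
      (fun u => by rw [hte, lft_pl, hQ₁, hQ₁]; simp)
      (fun y z hy hz u => by
        rw [hte, lft_pl, map_sub, map_add, map_smul, map_smul, Cv_lft, hν y z hy hz, hν y z hy hz, mulVec_smul,
          hAi, S.Cv_pl, add_sub_cancel_right]) hz₀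
    refine ⟨μ / c, fun u => ?_⟩
    have h1 := hμ ((A : Matrix (Fin a) (Fin a) F) *ᵥ u)
    rw [hte, lft_pl, gl_inv_mulVec_mulVec, map_sub (Cv f₂ z₀), map_sub (Cv f₂ z₀), map_add (Cv f₂ z₀),
      map_smul (Cv f₂ z₀), map_smul (Cv f₂ z₀), Cv_lft] at h1
    rw [div_eq_inv_mul, mul_smul, ← h1]
    simp only [hΨ, LinearMap.comp_apply]
    rw [smul_sub (c⁻¹), smul_sub (c⁻¹), smul_add (c⁻¹), inv_smul_smul₀ hc0, inv_smul_smul₀ hc0]
    abel
  obtain ⟨m, hm⟩ := scalar_of_commute S.u₁ S.two_le S.small' hcomm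
  have hall' : ∀ s, ∃ γ : F, ∀ p, Ψ (S.co g v (pl s p)) = γ • p := fun s => by
    obtain ⟨y, hy, hs⟩ := hdec s
    refine ⟨ν y z₀ + f₂ s w * m, fun p => ?_⟩
    rw [hs, map_add, map_smul, map_add, map_smul, add_smul, mul_smul, ← hm p]
    exact congrArg₂ (· + ·) (hν y z₀ hy hz₀ p) rfl
  refine S.line_of_prop hv0 (Ψ := Cv f₂ y₀ ∘ₗ S.xi g v) (fun p p' h => ?_) fun s => ?_
  · refine sub_eq_zero.1 (S.eq_of_left fun u' => ?_)
    obtain ⟨q, rfl⟩ := hΦs u'
    rw [Unit.zero_left S.u₁, show Φ₀ q = S.co g v (pl y₀ q) from rfl, ← S.adjPQ hg, map_sub, map_sub,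
      show Cv f₂ y₀ (S.xi g v p) = Cv f₂ y₀ (S.xi g v p') from h, sub_self, Unit.zero_left S.u₁]
  · obtain ⟨γ, hγ⟩ := hall' s
    refine ⟨σ (γ / ν y₀ z₀), fun u => S.eq_of_left fun p => ?_⟩
    rw [Unit.smul_left S.u₁, LinearMap.comp_apply, S.adjPQ hg, S.adjPQ hg, ← Unit.smul_right S.u₁]
    congr 1
    apply hΨi
    rw [map_smul, hγ, show Ψ (S.co g v (pl y₀ p)) = ν y₀ z₀ • p from hν _ _ hy₀ hz₀ p, smul_smul,
      div_mul_cancel₀ _ hν0]

end Setting

end CfsgLib.GeomClasses.UnitTensor
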