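import Cfsg.Agent.Lib.GeomClasses.UnitTensor.SmallBasic

/-!
With an extra element every isotropic vector of `2 ⊗ 3` is a centre of a transvection group in the overgroup.
-/

set_option autoImplicit false
set_option linter.unusedSectionVars false
set_option linter.unusedSimpArgs false

namespace CfsgLib.GeomClasses.UnitTensor

open Matrix Module TensorMax
open scoped Kronecker

variable {F : Type*} [Field F] [Fintype F] {a b : ℕ} {σ : F ≃+* F}
  {f₁ : (Fin a → F) → (Fin a → F) → F} {f₂ : (Fin b → F) → (Fin b → F) → F}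

attribute [-simp] Matrix.coe_units_inv

namespace Setting

variable {H : Subgroup (GL (Fin a × Fin b) F)} (S : Setting σ f₁ f₂ H) (hx : S.HasExtra) (hb3 : b = 3) (ha2 : a = 2)
include S hx hb3 ha2

/-- Every vector of `p ⊗ W` is a centre. -/
theorem cen_left {p p' : Fin a → F} (P : Pair f₁ p p') (z : Fin b → F) : S.Cen (pl z p) := by
  classical
  by_cases hz : f₂ z z = 0
  · exact S.cen_pure hx hz P.pp
  set η := f₂ z z with hη
  have hz0 : z ≠ 0 := fun h => hz (by rw [hη, h, Unit.zero_left S.u₂])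
  obtain ⟨q, hqq, hzq, -⟩ := exists_iso_pair S.u₂ (by omega) hz0 hz0
  have hqz := Unit.ne_zero_comm S.u₂ hzq
  obtain ⟨l, hl⟩ := Unit.exists_trace S.u₂.ne_refl S.u₂.involutive (b := η) (Unit.self_fixed S.u₂ z)
  have hl0 : l ≠ 0 := fun h => hz (by rw [← hl, h, map_zero, add_zero])
  set w := (l / f₂ q z) • q with hwdef
  have hww : f₂ w w = 0 := by rw [hwdef, Unit.smul_left S.u₂, Unit.smul_right S.u₂, hqq, mul_zero, mul_zero]
  have hwz : f₂ w z = l := by rw [hwdef, Unit.smul_left S.u₂, div_mul_cancel₀ _ hqz]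
  have hw0 : w ≠ 0 := fun h => hl0 (by rw [← hwz, h, Unit.zero_left S.u₂])
  clear_value w
  set w'' := z - w with hw''
  have hw''w'' : f₂ w'' w'' = 0 := by
    rw [hw'', Unit.sub_left S.u₂, Unit.sub_right S.u₂, Unit.sub_right S.u₂, hwz, hww, ← Unit.conj_form S.u₂ w z,
      hwz, ← hη]
    linear_combination -hl
  have hww'' : f₂ w w'' = l := by rw [hw'', Unit.sub_right S.u₂, hwz, hww, sub_zero]
  have hw''w : f₂ w'' w = σ l := by rw [← Unit.conj_form S.u₂ w w'', hww'']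
  -- a vector orthogonal to the plane
  obtain ⟨w₁, n, Fr⟩ := S.toForms.exists_frame hb3 hw0 hww
  set n₀ := n - (f₂ n w'' / l) • w with hn₀
  have hn₀w : f₂ n₀ w = 0 := by rw [hn₀, Unit.sub_left S.u₂, Unit.smul_left S.u₂, Fr.zw, hww]; ring
  have hn₀w'' : f₂ n₀ w'' = 0 := by
    rw [hn₀, Unit.sub_left S.u₂, Unit.smul_left S.u₂, hww'', div_mul_cancel₀ _ hl0, sub_self]
  have hn₀n₀ : f₂ n₀ n₀ ≠ 0 := by
    have : f₂ n₀ n₀ = f₂ n n := by
      rw [hn₀]
      simp [Unit.sub_left S.u₂, Unit.sub_right S.u₂, Unit.smul_left S.u₂, Unit.smul_right S.u₂, hww, Fr.zw, Fr.wz]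
    rw [this]
    exact Fr.zz
  -- an isotropic vector with given pairings
  obtain ⟨s, hs, hs0, hs1⟩ := S.small' ha2
  set t := -s with ht
  have htfix : σ t = t := by rw [ht, map_neg, hs]
  have ht0 : t ≠ 0 := neg_ne_zero.2 hs0
  have ht1 : 1 + t ≠ 0 := by rw [ht, ← sub_eq_add_neg]; exact sub_ne_zero.2 (Ne.symm hs1)
  obtain ⟨e, he0, he⟩ := Unit.exists_skew S.u₂.ne_refl S.u₂.involutive
  have hσe : σ e = -e := eq_neg_of_add_eq_zero_right he
  clear_value t
  set u₀ := (σ (t * e) / l) • w + σ (e / l) • w'' with hu₀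
  have hwu₀ : f₂ w u₀ = e := by
    rw [hu₀, Unit.add_right S.u₂, Unit.smul_right S.u₂, Unit.smul_right S.u₂, hww, hww'', S.u₂.involutive,
      mul_zero, zero_add, div_mul_cancel₀ _ hl0]
  have hw''u₀ : f₂ w'' u₀ = t * e := by
    rw [hu₀, Unit.add_right S.u₂, Unit.smul_right S.u₂, Unit.smul_right S.u₂, hw''w, hw''w'', map_div₀,
      S.u₂.involutive, mul_zero, add_zero, div_mul_cancel₀ _ ((RingEquiv.map_ne_zero_iff σ).2 hl0)]
  obtain ⟨r, hr⟩ := Unit.exists_norm S.u₂.ne_refl S.u₂.involutive (b := -f₂ u₀ u₀ / f₂ n₀ n₀) (by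
    rw [map_div₀, map_neg, Unit.self_fixed S.u₂, Unit.self_fixed S.u₂])
  set u := u₀ + r • n₀ with hu
  have hn₀u₀ : f₂ n₀ u₀ = 0 := by
    rw [hu₀, Unit.add_right S.u₂, Unit.smul_right S.u₂, Unit.smul_right S.u₂, hn₀w, hn₀w'', mul_zero, mul_zero,
      add_zero]
  clear_value u₀
  have hwu : f₂ w u = e := by
    rw [hu, Unit.add_right S.u₂, Unit.smul_right S.u₂, Unit.eq_zero_comm S.u₂ hn₀w, hwu₀, mul_zero, add_zero]
  have hw''u : f₂ w'' u = t * e := by
    rw [hu, Unit.add_right S.u₂, Unit.smul_right S.u₂, Unit.eq_zero_comm S.u₂ hn₀w'', hw''u₀, mul_zero, add_zero]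
  have huu : f₂ u u = 0 := by
    rw [hu, Unit.add_left S.u₂, Unit.add_right S.u₂, Unit.add_right S.u₂, Unit.smul_left S.u₂, Unit.smul_left S.u₂,
      Unit.smul_right S.u₂, Unit.smul_right S.u₂, hn₀u₀, Unit.eq_zero_comm S.u₂ hn₀u₀]
    rw [eq_div_iff hn₀n₀] at hr
    linear_combination hr
  clear_value u
  have huw : f₂ u w = -e := by rw [← Unit.conj_form S.u₂ w u, hwu, hσe]
  have huw'' : f₂ u w'' = -(t * e) := by rw [← Unit.conj_form S.u₂ w'' u, hw''u, map_mul, htfix, hσe, mul_neg]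
  have hzu : f₂ z u = (1 + t) * e := by
    rw [show z = w + w'' by rw [hw'', add_sub_cancel], Unit.add_left S.u₂, hwu, hw''u]
    ring
  -- a centre with components `z` and `u`
  have h1 : S.Cen (pl u p' + pl w p) :=
    S.cen_add (S.cen_pure hx hww P.pp) (S.cen_pure hx huu P.p'p')
      (by rw [hV_pl S.toForms, P.p'p, huw, one_mul]; exact neg_ne_zero.2 he0)
      (by rw [hV_pl S.toForms, P.p'p, huw, one_mul, map_neg, hσe]; ring)
  obtain ⟨g₁, hg₁, hg₁x⟩ := S.cen_pure hx hw''w'' P.pp (-(t * e)⁻¹) (by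
    rw [map_neg, map_inv₀, map_mul, htfix, hσe, mul_neg, inv_neg]; ring)
  have h2 : S.Cen (pl z p + pl u p') := by
    refine S.cen_map (H.inv_mem hg₁) ?_
    rw [show pl z p + pl u p' = (g₁ : M2 F a b) *ᵥ (pl u p' + pl w p) by
      rw [hg₁x, (hV_sesq f₁ f₂).add_left, hV_pl S.toForms, hV_pl S.toForms, P.p'p, P.pp, huw'', one_mul, zero_mul,
        add_zero, neg_mul_neg, inv_mul_cancel₀ (mul_ne_zero ht0 he0), one_smul,
        show z = w + w'' by rw [hw'', add_sub_cancel], pl_add']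
      abel, gl_inv_mulVec_mulVec]
    exact h1
  obtain ⟨g₂, hg₂, hg₂x⟩ := S.cen_pure hx huu P.p'p' (-((1 + t) * e)⁻¹) (by
    rw [map_neg, map_inv₀, map_mul, map_add, map_one, htfix, hσe, mul_neg, inv_neg]; ring)
  refine S.cen_map (H.inv_mem hg₂) ?_
  rw [show pl z p = (g₂ : M2 F a b) *ᵥ (pl z p + pl u p') by
    rw [hg₂x, (hV_sesq f₁ f₂).add_left, hV_pl S.toForms, hV_pl S.toForms, P.pp', P.p'p', hzu, one_mul, zero_mul,
      add_zero, neg_mul, inv_mul_cancel₀ (mul_ne_zero ht1 he0), neg_one_smul, add_neg_cancel_right],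
    gl_inv_mulVec_mulVec]
  exact h2

/-- Every isotropic vector is a centre. -/
theorem cen_of_extra_two_three {x : V2 F a b} (hxx : hV σ f₁ f₂ x x = 0) : S.Cen x := by
  classical
  obtain ⟨p, hp0, hp⟩ := Unit.exists_isotropic S.u₁ (by rw [Fintype.card_fin]; omega)
  obtain ⟨p', P⟩ := S.toForms.exists_pair hp0 hp
  set y := E f₁ p x with hy
  set A₀ := E f₁ p' x with hA₀
  have hsplit : x = pl A₀ p + pl y p' := S.toForms.split P ha2 x
  by_cases hy0 : y = 0
  · rw [hsplit, hy0, pl_zero', add_zero]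
    exact S.cen_left hx hb3 ha2 P _
  obtain ⟨B, hB⟩ := S.exists_one hy0
  have hyB : f₂ y B = 1 := by rw [← Unit.conj_form S.u₂, hB, map_one]
  obtain ⟨e, he0, he⟩ := Unit.exists_skew S.u₂.ne_refl S.u₂.involutive
  have hσe : σ e = -e := eq_neg_of_add_eq_zero_right he
  have hiso : f₂ A₀ y + f₂ y A₀ = 0 := by rwa [S.toForms.hV_split P ha2] at hxx
  obtain ⟨l, hl⟩ := Unit.exists_trace S.u₂.ne_refl S.u₂.involutive (b := f₂ y (-A₀) / e) (by
    rw [map_div₀, hσe, ← neg_one_smul F A₀, Unit.smul_right S.u₂, map_mul, Unit.conj_form S.u₂, S.u₂.involutive,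
      map_neg, map_one, eq_neg_of_add_eq_zero_left hiso]
    field_simp)
  set A := e⁻¹ • (-A₀) + l • B with hA
  have hT : ∀ (v : Fin b → F) (c : F), c + σ c = 0 → ∃ t ∈ H, ∀ z, (t : M2 F a b) *ᵥ z =
      z + (c * f₂ (E f₁ p z) v) • pl v p := fun v c hc => by
    obtain ⟨t, ht, htz⟩ := S.cen_left hx hb3 ha2 P v c hc
    exact ⟨t, ht, fun z => by rw [htz, S.toForms.hV_E']⟩
  clear_value A
  obtain ⟨t₁, ht₁, h₁⟩ := hT (A + B) e he
  obtain ⟨t₂, ht₂, h₂⟩ := hT A (-e) (by rw [map_neg]; linear_combination -he)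
  obtain ⟨t₃, ht₃, h₃⟩ := hT B (-e) (by rw [map_neg]; linear_combination -he)
  refine S.cen_map (H.mul_mem (H.mul_mem ht₁ ht₂) ht₃) ?_
  have hEp : ∀ (z : V2 F a b) (r : F) (v : Fin b → F), E f₁ p (z + r • pl v p) = E f₁ p z := fun z r v => by
    rw [map_add, map_smul, S.toForms.E_pl, P.pp, zero_smul, smul_zero, add_zero]
  rw [show ((t₁ * t₂ * t₃ : GL (Fin a × Fin b) F) : M2 F a b) *ᵥ x = pl y p' by
    rw [gl_mul_mulVec, gl_mul_mulVec, h₃, h₂, hEp, h₁, hEp, hEp, ← hy]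
    have hyA : f₂ y A = σ e⁻¹ * f₂ y (-A₀) + σ l := by
      rw [hA, Unit.add_right S.u₂, Unit.smul_right S.u₂, Unit.smul_right S.u₂, hyB, mul_one]
    rw [Unit.add_right S.u₂, hyB, hyA, map_inv₀, hσe, pl_add']
    nth_rw 1 [hsplit]
    rw [hA, pl_add', pl_smul', pl_smul', show -A₀ = (-1 : F) • A₀ by module, pl_smul']
    rw [eq_div_iff he0, show -A₀ = (-1 : F) • A₀ by module] at hl
    match_scalars <;> field_simp <;> first | linear_combination hl | ring1]
  exact S.cen_left hx hb3 ha2 P.symm _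

end Setting

end CfsgLib.GeomClasses.UnitTensor
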