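import Cfsg.Agent.Lib.GeomClasses.UnitTensor.SmallPair
import Cfsg.Agent.Lib.GeomClasses.UnitQr

/-!
Without an extra element every element respects the decomposition `2 ⊗ 3`: the image of `p ⊗ W` meets `p ⊗ W`
trivially or is equal to it.
-/

set_option autoImplicit false
set_option linter.unusedSectionVars false
set_option linter.unusedSimpArgs false

namespace CfsgLib.GeomClasses.UnitTensor

open Matrix Module TensorMax
open scoped Kronecker

variable {F : Type*} [Field F] [Fintype F] {a b : ℕ} {σ : F ≃+* F}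
  {f₁ : (Fin a → F) → (Fin a → F) → F} {f₂ : (Fin b → F) → (Fin b → F) → F}

attribute [-simp] Matrix.coe_units_inv

/-- The projection of the image of `p ⊗ W` to the partner of `p`. -/
noncomputable def phX (f₁ : (Fin a → F) → (Fin a → F) → F) (g : GL (Fin a × Fin b) F) (p : Fin a → F) :
    (Fin b → F) →ₗ[F] (Fin b → F) :=
  E f₁ p ∘ₗ Matrix.mulVecLin (g : M2 F a b) ∘ₗ pr p

theorem phX_apply (g : GL (Fin a × Fin b) F) (p : Fin a → F) (v : Fin b → F) :
    phX f₁ g p v = E f₁ p ((g : M2 F a b) *ᵥ pl v p) := rfl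

namespace Setting

variable {H : Subgroup (GL (Fin a × Fin b) F)} (S : Setting σ f₁ f₂ H)
include S

theorem lftT_pl (p : Fin a → F) (hp : f₁ p p = 0) (c : F) (u : Fin a → F) (v : Fin b → F) :
    ((lft (formTv f₁ p c) : GL (Fin a × Fin b) F) : M2 F a b) *ᵥ pl v u = pl v u + (c * f₁ u p) • pl v p := by
  rw [lft_pl, Unit.formTv_mulVec S.u₁ hp, map_add, map_smul]

theorem lftT_mem {p : Fin a → F} (hp : f₁ p p = 0) {c : F} (hc : c + σ c = 0) :
    (lft (formTv f₁ p c) : GL (Fin a × Fin b) F) ∈ H :=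
  S.left _ (Unit.formTv_isometry S.u₁ hp hc) (mem_specialLinear.1 (formTv_mem_specialLinear f₁ p c))

theorem rgtT_mem {w : Fin b → F} (hw : f₂ w w = 0) {c : F} (hc : c + σ c = 0) :
    (rgt (formTv f₂ w c) : GL (Fin a × Fin b) F) ∈ H :=
  S.right _ (Unit.formTv_isometry S.u₂ hw hc) (mem_specialLinear.1 (formTv_mem_specialLinear f₂ w c))

theorem frame_of_perp {z0 w : Fin b → F} (hz0 : f₂ z0 z0 ≠ 0) (hw0 : w ≠ 0) (hw : f₂ w w = 0)
    (hwz : f₂ w z0 = 0) : ∃ w', Frame f₂ w w' z0 := by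
  obtain ⟨w'', -, hw''⟩ := S.exists_partner hw0 hw
  have hzw := Unit.eq_zero_comm S.u₂ hwz
  set w1 := w'' - (f₂ w'' z0 / f₂ z0 z0) • z0 with hw1
  have h1 : f₂ w1 w = 1 := by rw [hw1, Unit.sub_left S.u₂, Unit.smul_left S.u₂, hzw, mul_zero, sub_zero, hw'']
  have h2 : f₂ w1 z0 = 0 := by
    rw [hw1, Unit.sub_left S.u₂, Unit.smul_left S.u₂, div_mul_cancel₀ _ hz0, sub_self]
  obtain ⟨c, hc⟩ := Unit.exists_isotropic_add S.u₂ hw (x := w1) (by rw [h1]; exact one_ne_zero)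
  have h3 : f₂ (w1 + c • w) w = 1 := by
    rw [Unit.add_left S.u₂, Unit.smul_left S.u₂, hw, h1, mul_zero, add_zero]
  have h4 : f₂ (w1 + c • w) z0 = 0 := by
    rw [Unit.add_left S.u₂, Unit.smul_left S.u₂, hwz, h2, mul_zero, add_zero]
  exact ⟨w1 + c • w, hw, hc, by rw [← Unit.conj_form S.u₂, h3, map_one], h3, hzw, Unit.eq_zero_comm S.u₂ h4, hwz,
    h4, hz0⟩

variable (hb3 : b = 3) (ha2 : a = 2) {p p' : Fin a → F} (P : Pair f₁ p p')
include hb3 ha2 P

theorem phX_perp {g : GL (Fin a × Fin b) F} (hg : g ∈ H) {v : Fin b → F} (hv : v ∈ KX g p) (u : Fin b → F) :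
    f₂ (phX f₁ g p u) v = 0 := by
  rw [phX_apply, ← S.toForms.hV_E', S.LX_perp hg P.pp (mem_LX.2 ⟨u, rfl⟩) (mem_KX.1 hv)]

theorem phX_ker (g : GL (Fin a × Fin b) F) :
    finrank F (LinearMap.ker (phX f₁ g p)) ≤ finrank F (KX g p) := by
  set ψ : (Fin b → F) →ₗ[F] (Fin b → F) := E f₁ p' ∘ₗ Matrix.mulVecLin (g : M2 F a b) ∘ₗ pr p with hψ
  have hψv : ∀ v ∈ LinearMap.ker (phX f₁ g p), (g : M2 F a b) *ᵥ pl v p = pl (ψ v) p := fun v hv => by
    rw [LinearMap.mem_ker, phX_apply] at hv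
    conv_lhs => rw [S.toForms.split P ha2 ((g : M2 F a b) *ᵥ pl v p), hv, pl_zero', add_zero]
    rfl
  refine LinearMap.finrank_le_finrank_of_injective
    (f := ψ.restrict fun v hv => mem_KX.2 (mem_LX.2 ⟨v, hψv v hv⟩)) fun v v' h => ?_
  have h' : ψ (v : Fin b → F) = ψ v' := congrArg Subtype.val h
  have h3 := congrArg (E f₁ p') (gl_mulVec_injective g
    (((hψv _ v.2).trans (by rw [h'])).trans (hψv _ v'.2).symm))
  simp only [S.toForms.E_pl, P.pp', one_smul] at h3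
  exact Subtype.ext h3

theorem stab_of_top {g h : GL (Fin a × Fin b) F} (htop : KX (g⁻¹ * h * g) p = ⊤) {x : V2 F a b}
    (hx : x ∈ LX g p) : (h : M2 F a b) *ᵥ x ∈ LX g p := by
  obtain ⟨v, rfl⟩ := hx
  set k := g⁻¹ * h * g with hk
  let ψ : (Fin b → F) →ₗ[F] (Fin b → F) :=
    E f₁ p' ∘ₗ Matrix.mulVecLin ((k⁻¹ : GL (Fin a × Fin b) F) : M2 F a b) ∘ₗ pr p
  have hψ : ∀ u, ((k⁻¹ : GL (Fin a × Fin b) F) : M2 F a b) *ᵥ pl u p = pl (ψ u) p := fun u => by
    obtain ⟨u', hu'⟩ := mem_LX.1 (mem_KX.1 (show u ∈ KX k p from htop ▸ Submodule.mem_top))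
    have e : ((k⁻¹ : GL (Fin a × Fin b) F) : M2 F a b) *ᵥ pl u p = pl u' p := by
      rw [← hu', gl_inv_mulVec_mulVec]
    simp [ψ, pr_eq, e, S.toForms.E_pl, P.pp']
  obtain ⟨u, hu⟩ := LinearMap.injective_iff_surjective.1 (fun u u' h => by
    have h3 := congrArg (E f₁ p') (gl_mulVec_injective k⁻¹ (((hψ u).trans (by rw [h])).trans (hψ u').symm))
    simpa [S.toForms.E_pl, P.pp'] using h3 : Function.Injective ψ) v
  refine mem_LX.2 ⟨u, ?_⟩
  have h4 : pl u p = (k : M2 F a b) *ᵥ pl v p := by rw [← hu, ← hψ, gl_mulVec_inv_mulVec]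
  rw [h4, hk, gl_mul_mulVec, gl_mul_mulVec, gl_mulVec_inv_mulVec]
  rfl

theorem mem_KX_conj {g h : GL (Fin a × Fin b) F} {x : V2 F a b} (hx : x ∈ LX g p)
    (hhx : (h : M2 F a b) *ᵥ x ∈ LX g p) :
    ∃ v ∈ KX (g⁻¹ * h * g) p, (h : M2 F a b) *ᵥ x = (g : M2 F a b) *ᵥ pl v p := by
  obtain ⟨v, rfl⟩ := hx
  obtain ⟨v', hv'⟩ := mem_LX.1 hhx
  refine ⟨v', mem_KX.2 (mem_LX.2 ⟨v, ?_⟩), hv'.symm⟩
  rw [gl_mul_mulVec, gl_mul_mulVec]
  rw [LinearMap.comp_apply, Matrix.mulVecLin_apply, pr_eq] at hv'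
  rw [← hv', gl_inv_mulVec_mulVec]

variable (hno : ¬ S.HasExtra)
include hno

theorem top_of_two {g : GL (Fin a × Fin b) F} (hg : g ∈ H) {v₁ v₂ : Fin b → F} (h₁ : v₁ ∈ KX g p)
    (h₂ : v₂ ∈ KX g p) (hne : v₁ ≠ 0) (hind : ∀ c : F, v₂ ≠ c • v₁) : KX g p = ⊤ := by
  have hlt : Submodule.span F {v₁} < KX g p := by
    refine lt_of_le_of_ne (Submodule.span_le.2 (by simpa using h₁)) fun heq => ?_
    obtain ⟨c, hc⟩ := Submodule.mem_span_singleton.1 (heq.symm ▸ h₂ : v₂ ∈ Submodule.span F {v₁})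
    exact hind c hc.symm
  have h3 := Submodule.finrank_lt_finrank_of_lt hlt
  rw [finrank_span_singleton hne] at h3
  have h4 : finrank F (KX g p) ≠ 2 := S.pair_false hno ha2 hb3 P hg
  have h5 := Submodule.finrank_le (KX g p)
  rw [Module.finrank_fintype_fun_eq_card, Fintype.card_fin] at h5
  exact Submodule.eq_top_of_finrank_eq (by rw [Module.finrank_fintype_fun_eq_card, Fintype.card_fin]; omega)

/-- An element mapping two vectors of an image into it stabilises it. -/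
theorem stab_of_two {g h : GL (Fin a × Fin b) F} (hg : g ∈ H) (hh : h ∈ H) {x₁ x₂ : V2 F a b}
    (h₁ : x₁ ∈ LX g p) (h₂ : x₂ ∈ LX g p) (hne : x₁ ≠ 0) (hind : ∀ c : F, x₂ ≠ c • x₁)
    (hh₁ : (h : M2 F a b) *ᵥ x₁ ∈ LX g p) (hh₂ : (h : M2 F a b) *ᵥ x₂ ∈ LX g p) {x : V2 F a b}
    (hx : x ∈ LX g p) : (h : M2 F a b) *ᵥ x ∈ LX g p := by
  obtain ⟨v₁, hv₁, e₁⟩ := S.mem_KX_conj hb3 ha2 P h₁ hh₁
  obtain ⟨v₂, hv₂, e₂⟩ := S.mem_KX_conj hb3 ha2 P h₂ hh₂
  refine S.stab_of_top hb3 ha2 P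
    (S.top_of_two hb3 ha2 P hno (H.mul_mem (H.mul_mem (H.inv_mem hg) hh) hg) hv₁ hv₂ (fun h0 => hne ?_)
      fun c hc => hind c ?_) hx
  · exact gl_mulVec_injective h (by beta_reduce; rw [e₁, h0, pl_zero', mulVec_zero, mulVec_zero])
  · exact gl_mulVec_injective h (by beta_reduce; rw [e₂, hc, pl_smul', mulVec_smul, mulVec_smul, e₁])

/-- No image of `p ⊗ W` meets it in a line. -/
theorem line_meet_false {g : GL (Fin a × Fin b) F} (hg : g ∈ H) (hk : finrank F (KX g p) = 1) : False := by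
  classical
  obtain ⟨y0, hy0m, hy00⟩ := Submodule.exists_mem_ne_zero_of_ne_bot (p := KX g p) (fun h => by
    rw [h, finrank_bot] at hk; omega)
  have hKeq : Submodule.span F {y0} = KX g p := Submodule.eq_of_le_of_finrank_le
    (Submodule.span_le.2 (by simpa using hy0m)) (by rw [finrank_span_singleton hy00, hk])
  have hK : ∀ v, v ∈ KX g p → ∃ c : F, v = c • y0 := fun v hv => by
    obtain ⟨c, hc⟩ := Submodule.mem_span_singleton.1 (hKeq.symm ▸ hv : v ∈ Submodule.span F {y0})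
    exact ⟨c, hc.symm⟩
  have hperp : ∀ u, f₂ (phX f₁ g p u) y0 = 0 := S.phX_perp hb3 ha2 P hg hy0m
  have hrange : LinearMap.range (phX f₁ g p) = Unit.perp S.u₂ (Submodule.span F {y0}) := by
    refine Submodule.eq_of_le_of_finrank_le ?_ ?_
    · rintro _ ⟨u, rfl⟩
      exact S.mem_perp1.2 (hperp u)
    · have h1 := LinearMap.finrank_range_add_finrank_ker (phX f₁ g p)
      have h2 := S.phX_ker hb3 ha2 P g
      rw [Module.finrank_fintype_fun_eq_card, Fintype.card_fin] at h1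
      rw [S.finrank_perp1 hy00]
      omega
  have hsur : ∀ y, f₂ y y0 = 0 → ∃ u, phX f₁ g p u = y := fun y hy =>
    LinearMap.mem_range.1 (hrange ▸ S.mem_perp1.2 hy)
  have hp0 : pl y0 p ≠ 0 := fun h => hy00 (by
    have := congrArg (E f₁ p') h
    rwa [S.toForms.E_pl, P.pp', one_smul, map_zero] at this)
  obtain ⟨e, he0, he⟩ := Unit.exists_skew S.u₁.ne_refl S.u₁.involutive
  by_cases hy0 : f₂ y0 y0 = 0
  · -- the line is isotropic
    obtain ⟨u₀, hu₀⟩ := hsur y0 hy0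
    set x₂ := (g : M2 F a b) *ᵥ pl u₀ p with hx₂
    have hx₂X : x₂ ∈ LX g p := mem_LX.2 ⟨u₀, rfl⟩
    have hT : ∀ x, ((lft (formTv f₁ p e) : GL (Fin a × Fin b) F) : M2 F a b) *ᵥ x = x + e • pl (E f₁ p x) p :=
      S.toForms.lftT_mulVec P.pp e
    have hstab : ∀ x ∈ LX g p, ((lft (formTv f₁ p e) : GL (Fin a × Fin b) F) : M2 F a b) *ᵥ x ∈ LX g p :=
      fun x hx => by
      refine S.stab_of_two hb3 ha2 P hno hg (S.lftT_mem P.pp he) (mem_KX.1 hy0m) hx₂X hp0 (fun c hc => ?_) ?_ ?_ hx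
      · have := congrArg (E f₁ p) hc
        rw [map_smul, S.toForms.E_pl, P.pp, zero_smul, smul_zero] at this
        exact hy00 (hu₀ ▸ this)
      · rw [hT, S.toForms.E_pl, P.pp, zero_smul, pl_zero', smul_zero, add_zero]
        exact mem_KX.1 hy0m
      · rw [hT, show E f₁ p x₂ = y0 from hu₀]
        exact Submodule.add_mem _ hx₂X (Submodule.smul_mem _ _ (mem_KX.1 hy0m))
    have hle : Unit.perp S.u₂ (Submodule.span F {y0}) ≤ KX g p := fun y hy => by
      obtain ⟨u, rfl⟩ := hsur y (S.mem_perp1.1 hy)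
      have h1 := hstab _ (mem_LX.2 ⟨u, rfl⟩)
      rw [hT, Submodule.add_mem_iff_right _ (mem_LX.2 ⟨u, rfl⟩), Submodule.smul_mem_iff _ he0] at h1
      exact mem_KX.2 h1
    have := Submodule.finrank_mono hle
    rw [S.finrank_perp1 hy00, hk] at this
    omega
  -- the line is anisotropic
  set η0 := f₂ y0 y0 with hη0
  set π : (Fin b → F) →ₗ[F] (Fin b → F) :=
    LinearMap.id - (η0⁻¹ • dotProductBilin F F (fVec f₂ y0)).smulRight y0 with hπ
  have hπv : ∀ v, π v = v - (η0⁻¹ * f₂ v y0) • y0 := fun v => by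
    simp [hπ, (Unit.sesq S.u₂).fVec_dot]
  have hπZ : ∀ v, f₂ (π v) y0 = 0 := fun v => by
    rw [hπv, Unit.sub_left S.u₂, Unit.smul_left S.u₂, ← hη0]
    field_simp
    ring
  have hπid : ∀ v, f₂ v y0 = 0 → π v = v := fun v hv => by rw [hπv, hv, mul_zero, zero_smul, sub_zero]
  obtain ⟨s, hs⟩ := LinearMap.exists_rightInverse_of_surjective (phX f₁ g p).rangeRestrict
    (LinearMap.range_rangeRestrict _)
  set s' : (Fin b → F) →ₗ[F] (Fin b → F) :=
    s ∘ₗ π.codRestrict (LinearMap.range (phX f₁ g p)) (fun v => hrange ▸ S.mem_perp1.2 (hπZ v)) with hs'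
  have hφs : ∀ v, phX f₁ g p (s' v) = π v := fun v =>
    congrArg Subtype.val (LinearMap.congr_fun hs (π.codRestrict _ _ v))
  set M : (Fin b → F) →ₗ[F] (Fin b → F) :=
    π ∘ₗ E f₁ p' ∘ₗ Matrix.mulVecLin (g : M2 F a b) ∘ₗ pr p ∘ₗ s' with hM
  have hMZ : ∀ y, f₂ (M y) y0 = 0 := fun y => hπZ _
  have helt : ∀ y, f₂ y y0 = 0 → pl y p' + pl (M y) p ∈ LX g p := fun y hy => by
    set x := (g : M2 F a b) *ᵥ pl (s' y) p with hx
    have h1 : E f₁ p x = y := (hφs y).trans (hπid y hy)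
    have h2 : x = pl (E f₁ p' x) p + pl y p' := by
      conv_lhs => rw [S.toForms.split P ha2 x, h1]
    have h3 : M y = E f₁ p' x - (η0⁻¹ * f₂ (E f₁ p' x) y0) • y0 := hπv _
    have h4 : pl y p' + pl (M y) p = x - (η0⁻¹ * f₂ (E f₁ p' x) y0) • pl y0 p := by
      rw [h3, pl_sub', pl_smul']
      conv_rhs => rw [h2]
      simp only [map_add, map_sub, map_smul, S.toForms.E_pl, P.pp', P.p'p', one_smul, zero_smul, add_zero]
      abel
    rw [h4]
    exact Submodule.sub_mem _ (mem_LX.2 ⟨_, rfl⟩) (Submodule.smul_mem _ _ (mem_KX.1 hy0m))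
  have huniq : ∀ y n, f₂ y y0 = 0 → f₂ n y0 = 0 → pl y p' + pl n p ∈ LX g p → n = M y := fun y n hy hn hx => by
    have h1 : n - M y ∈ KX g p := mem_KX.2 (by
      have := Submodule.sub_mem _ hx (helt y hy)
      rwa [show pl y p' + pl n p - (pl y p' + pl (M y) p) = pl (n - M y) p by rw [pl_sub']; abel] at this)
    obtain ⟨c, hc⟩ := hK _ h1
    have h2 := congrArg (fun v => f₂ v y0) hc
    simp only [Unit.sub_left S.u₂, Unit.smul_left S.u₂, hn, hMZ, sub_zero, ← hη0] at h2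
    rcases mul_eq_zero.1 h2.symm with h3 | h3
    · rwa [h3, zero_smul, sub_eq_zero] at hc
    · exact absurd h3 hy0
  have hskew : ∀ y y', f₂ y y0 = 0 → f₂ y' y0 = 0 → f₂ (M y) y' + f₂ y (M y') = 0 := fun y y' hy hy' => by
    have h := S.LX_perp hg P.pp (helt y hy) (helt y' hy')
    rw [S.toForms.hV_split P ha2] at h
    simpa only [map_add, S.toForms.E_pl, P.pp, P.p'p', P.pp', P.p'p, one_smul, zero_smul, zero_add, add_zero]
      using h
  clear_value M
  have core : ∀ (B : GL (Fin b) F) (β c : F) (y₁ : Fin b → F), rgt B ∈ H →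
      (B : Matrix (Fin b) (Fin b) F) *ᵥ y0 = β • y0 →
      (∀ y, f₂ y y0 = 0 → f₂ ((B : Matrix (Fin b) (Fin b) F) *ᵥ y) y0 = 0) → c + σ c = 0 → y₁ ≠ 0 →
      f₂ y₁ y0 = 0 →
      M ((B : Matrix (Fin b) (Fin b) F) *ᵥ y₁) =
        (B : Matrix (Fin b) (Fin b) F) *ᵥ M y₁ + c • ((B : Matrix (Fin b) (Fin b) F) *ᵥ y₁) →
      ∀ y, f₂ y y0 = 0 → M ((B : Matrix (Fin b) (Fin b) F) *ᵥ y) =
        (B : Matrix (Fin b) (Fin b) F) *ᵥ M y + c • ((B : Matrix (Fin b) (Fin b) F) *ᵥ y) := by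
    intro B β c y₁ hB hBy0 hBZ hc hy₁0 hy₁ hyeq y hy
    set h := (lft (formTv f₁ p c) : GL (Fin a × Fin b) F) * rgt B with hh
    have hhx : ∀ v n, (h : M2 F a b) *ᵥ (pl v p' + pl n p) = pl ((B : Matrix (Fin b) (Fin b) F) *ᵥ v) p' +
        pl ((B : Matrix (Fin b) (Fin b) F) *ᵥ n + c • ((B : Matrix (Fin b) (Fin b) F) *ᵥ v)) p := fun v n => by
      rw [hh, gl_mul_mulVec, mulVec_add, rgt_pl, rgt_pl, mulVec_add, S.lftT_pl p P.pp, S.lftT_pl p P.pp, P.p'p,
        P.pp, mul_one, mul_zero, zero_smul, add_zero, pl_add', pl_smul']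
      abel
    refine (huniq _ _ (hBZ y hy) ?_ ?_).symm
    · rw [Unit.add_left S.u₂, Unit.smul_left S.u₂, hBZ _ (hMZ y), hBZ y hy, mul_zero, add_zero]
    rw [← hhx]
    refine S.stab_of_two hb3 ha2 P hno hg (H.mul_mem (S.lftT_mem P.pp hc) hB) (mem_KX.1 hy0m) (helt y₁ hy₁) hp0
      (fun r hr => hy₁0 ?_) ?_ ?_ (helt y hy)
    · have := congrArg (E f₁ p) hr
      rwa [map_add, map_smul, S.toForms.E_pl, S.toForms.E_pl, S.toForms.E_pl, P.p'p, P.pp, one_smul, zero_smul,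
        zero_smul, smul_zero, add_zero] at this
    · rw [show pl y0 p = pl (0 : Fin b → F) p' + pl y0 p by rw [pl_zero', zero_add], hhx, mulVec_zero, pl_zero',
        smul_zero, add_zero, zero_add, hBy0, pl_smul']
      exact Submodule.smul_mem _ _ (mem_KX.1 hy0m)
    · rw [hhx, ← hyeq]
      exact helt _ (hBZ _ hy₁)
  -- an isotropic vector of the plane is not an eigenvector
  have heig : ∀ w, w ≠ 0 → f₂ w w = 0 → f₂ w y0 = 0 → ∀ μ : F, M w ≠ μ • w := by
    intro w hw0 hww hwy μ hμ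
    obtain ⟨w', Fr⟩ := S.frame_of_perp hy0 hw0 hww hwy
    have hBv : ∀ v, (formTv f₂ w e : Matrix (Fin b) (Fin b) F) *ᵥ v = v + (e * f₂ v w) • w := fun v =>
      Unit.formTv_mulVec S.u₂ hww e v
    have hMw' : f₂ (M w') w = -σ μ := by
      have := hskew w' w Fr.w'z hwy
      rw [hμ, Unit.smul_right S.u₂, Fr.w'w, mul_one] at this
      linear_combination this
    have h1 := core (formTv f₂ w e) 1 0 w (S.rgtT_mem hww he)
      (by rw [hBv, Fr.zw, mul_zero, zero_smul, add_zero, one_smul])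
      (fun y hy => by rw [hBv, Unit.add_left S.u₂, Unit.smul_left S.u₂, hwy, hy, mul_zero, add_zero])
      (by rw [map_zero, add_zero]) hw0 hwy
      (by simp only [hBv, hμ, hww, Unit.smul_left S.u₂, mul_zero, zero_smul, add_zero])
      w' Fr.w'z
    rw [hBv, hBv, hMw', Fr.w'w, mul_one, zero_smul, add_zero, map_add, map_smul, hμ, smul_smul] at h1
    have hμs : μ + σ μ = 0 := by
      have h2 := smul_left_injective F hw0 (add_left_cancel h1)
      exact (mul_eq_zero.1 (show e * (μ + σ μ) = 0 by linear_combination h2)).resolve_left he0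
    set g₁ := (lft (formTv f₁ p (-μ)) : GL (Fin a × Fin b) F) * g with hg₁
    have hμn : -μ + σ (-μ) = 0 := by rw [map_neg]; linear_combination -hμs
    have hg₁H : g₁ ∈ H := H.mul_mem (S.lftT_mem P.pp hμn) hg
    have hmap : ∀ x ∈ LX g p, ((lft (formTv f₁ p (-μ)) : GL (Fin a × Fin b) F) : M2 F a b) *ᵥ x ∈ LX g₁ p :=
      fun x hx => by rw [hg₁, LX_mul, gl_inv_mulVec_mulVec]; exact hx
    have hy0X : pl y0 p ∈ LX g₁ p := by
      have := hmap _ (mem_KX.1 hy0m)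
      rwa [S.lftT_pl p P.pp, P.pp, mul_zero, zero_smul, add_zero] at this
    have hX₁ : ∀ y, f₂ y y0 = 0 → pl y p' + pl (M y - μ • y) p ∈ LX g₁ p := fun y hy => by
      have := hmap _ (helt y hy)
      rwa [mulVec_add, S.lftT_pl p P.pp, S.lftT_pl p P.pp, P.p'p, P.pp, mul_one, mul_zero, zero_smul, add_zero,
        show pl y p' + (-μ) • pl y p + pl (M y) p = pl y p' + pl (M y - μ • y) p by
          rw [pl_sub', pl_smul']; module] at this
    have hw1 : pl w p' ∈ LX g₁ p := by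
      have := hX₁ w hwy
      rwa [hμ, sub_self, pl_zero', add_zero] at this
    set ν := f₂ (M w') w' with hν
    have hMw'2 : M w' - μ • w' = ν • w := by
      conv_lhs => rw [S.toForms.span_frame hb3 Fr (M w'), hMZ, hMw', zero_div, zero_smul, add_zero]
      rw [show -σ μ = μ by linear_combination -hμs]
      abel
    have hw2 : pl w' p' + ν • pl w p ∈ LX g₁ p := by
      have := hX₁ w' Fr.w'z
      rwa [hMw'2, pl_smul'] at this
    have hT' : ∀ x, ((lft (formTv f₁ p' e) : GL (Fin a × Fin b) F) : M2 F a b) *ᵥ x = x + e • pl (E f₁ p' x) p' :=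
      S.toForms.lftT_mulVec P.p'p' e
    have h3 := S.stab_of_two hb3 ha2 P hno hg₁H (S.lftT_mem P.p'p' he) hw1 hw2 (fun h => hw0 (by
        have := congrArg (E f₁ p) h
        rwa [S.toForms.E_pl, P.p'p, one_smul, map_zero] at this))
      (fun c hc => by
        have := congrArg (fun x => f₂ (E f₁ p x) w) hc
        simp only [map_add, map_smul, S.toForms.E_pl, P.p'p, P.pp, one_smul, zero_smul, smul_zero, add_zero,
          Fr.w'w, Unit.smul_left S.u₂, hww, mul_zero] at this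
        exact one_ne_zero this)
      (by rw [hT', S.toForms.E_pl, P.p'p', zero_smul, pl_zero', smul_zero, add_zero]; exact hw1)
      (by
        rw [hT', map_add, map_smul, S.toForms.E_pl, S.toForms.E_pl, P.p'p', P.pp', zero_smul, one_smul, zero_add,
          pl_smul']
        exact Submodule.add_mem _ hw2 (Submodule.smul_mem _ _ (Submodule.smul_mem _ _ hw1))) hy0X
    rw [hT', S.toForms.E_pl, P.pp', one_smul, Submodule.add_mem_iff_right _ hy0X,
      Submodule.smul_mem_iff _ he0] at h3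
    have h4 := S.LX_perp hg₁H P.pp hy0X h3
    rw [hV_pl S.toForms, P.pp', one_mul] at h4
    exact hy0 h4
  obtain ⟨w, hwm, hw0, hww⟩ := UnitCentres.exists_iso_any S.u₂ (X := Unit.perp S.u₂ (Submodule.span F {y0})) (by
    rw [S.finrank_perp1 hy00]; omega)
  have hwy : f₂ w y0 = 0 := S.mem_perp1.1 hwm
  obtain ⟨w', Fr⟩ := S.frame_of_perp hy0 hw0 hww hwy
  have hMexp : ∀ y, M y = f₂ (M y) w' • w + f₂ (M y) w • w' := fun y => by
    conv_lhs => rw [S.toForms.span_frame hb3 Fr (M y), hMZ, zero_div, zero_smul, add_zero]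
  set α := f₂ (M w) w' with hα
  set δ := f₂ (M w) w with hδ
  set β := f₂ (M w') w' with hβ
  set γ := f₂ (M w') w with hγ
  have hMw : M w = α • w + δ • w' := hMexp w
  have hMw' : M w' = β • w + γ • w' := hMexp w'
  have hγα : γ = -σ α := by
    have := hskew w' w Fr.w'z hwy
    rw [← Unit.conj_form S.u₂ (M w) w', ← hα, ← hγ] at this
    linear_combination this
  have hδs : δ + σ δ = 0 := by
    have := hskew w w hwy hwy
    rwa [← Unit.conj_form S.u₂ (M w) w, ← hδ] at this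
  have hβs : β + σ β = 0 := by
    have := hskew w' w' Fr.w'z Fr.w'z
    rwa [← Unit.conj_form S.u₂ (M w') w', ← hβ] at this
  have hδ0 : δ ≠ 0 := fun h => heig w hw0 hww hwy α (by rw [hMw, h, zero_smul, add_zero])
  by_cases h2 : (2 : F) = 0
  · -- characteristic two
    obtain ⟨t, ht, ht0, ht1⟩ := S.small' ha2
    obtain ⟨c, hc0, hc, hcne⟩ : ∃ c, c ≠ 0 ∧ c + σ c = 0 ∧ c * δ + (α + σ α) ≠ 0 := by
      by_cases h : e * δ + (α + σ α) = 0
      · refine ⟨t * e, mul_ne_zero ht0 he0, by rw [map_mul, ht]; linear_combination t * he, fun h' => ?_⟩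
        have h3 : (t - 1) * (e * δ) = 0 := by linear_combination h' - h
        exact mul_ne_zero (sub_ne_zero.2 ht1) (mul_ne_zero he0 hδ0) h3
      · exact ⟨e, he0, he, h⟩
    have hBv : ∀ v, (formTv f₂ w c : Matrix (Fin b) (Fin b) F) *ᵥ v = v + (c * f₂ v w) • w := fun v =>
      Unit.formTv_mulVec S.u₂ hww c v
    have h1 := core (formTv f₂ w c) 1 (-(c * δ)) w (S.rgtT_mem hww hc)
      (by rw [hBv, Fr.zw, mul_zero, zero_smul, add_zero, one_smul])
      (fun y hy => by rw [hBv, Unit.add_left S.u₂, Unit.smul_left S.u₂, hwy, hy, mul_zero, add_zero])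
      (by
        rw [map_neg, map_mul, eq_neg_of_add_eq_zero_right hc, eq_neg_of_add_eq_zero_right hδs]
        linear_combination -(c * δ) * h2)
      hw0 hwy (by rw [hBv, hBv, ← hδ, hww]; simp) w' Fr.w'z
    rw [hBv, hBv, map_add, map_smul, Fr.w'w, ← hγ, mul_one] at h1
    have h3 := congrArg (fun v => f₂ v w') h1
    simp only [Unit.add_left S.u₂, Unit.smul_left S.u₂, ← hα, ← hβ, Fr.w'w', Fr.ww', mul_one, zero_add] at h3
    have h4 : c * (c * δ + (α + σ α)) = 0 := by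
      rw [hγα] at h3
      linear_combination h3
    exact mul_ne_zero hc0 hcne h4
  -- odd characteristic
  have h4 : (4 : F) ≠ 0 := by
    rw [show (4 : F) = 2 * 2 by norm_num]
    exact mul_ne_zero h2 h2
  obtain ⟨r₀, hr₀⟩ := S.sqrt ((γ - α) * (γ - α) + 4 * δ * β) (by
    rw [hγα]
    simp only [map_add, map_mul, map_sub, map_neg, map_ofNat, S.u₁.involutive, eq_neg_of_add_eq_zero_right hδs,
      eq_neg_of_add_eq_zero_right hβs]
    ring)
  set x := (r₀ - (γ - α)) / (2 * δ) with hx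
  have hx2 : 2 * δ * x = r₀ - (γ - α) := by rw [hx]; exact mul_div_cancel₀ _ (mul_ne_zero h2 hδ0)
  have hquad : δ * x * x + (γ - α) * x - β = 0 := by
    refine (mul_eq_zero.1 (show 4 * δ * (δ * x * x + (γ - α) * x - β) = 0 from ?_)).resolve_left
      (mul_ne_zero h4 hδ0)
    linear_combination hr₀ + (2 * δ * x + (γ - α) + r₀) * hx2
  set v := x • w + w' with hv
  set μ := x * δ + γ with hμ
  have hMv : M v = μ • v := by
    rw [hv, map_add, map_smul, hMw, hMw', hμ]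
    have : x * α + β = (x * δ + γ) * x := by linear_combination -hquad
    match_scalars
    · linear_combination this
    · ring
  have hvy : f₂ v y0 = 0 := by rw [hv, Unit.add_left S.u₂, Unit.smul_left S.u₂, hwy, Fr.w'z, mul_zero, add_zero]
  have hv0 : v ≠ 0 := fun h => by
    have := congrArg (fun u => f₂ u w) h
    simp [hv, Unit.add_left S.u₂, Unit.smul_left S.u₂, hww, Fr.w'w, Unit.zero_left S.u₂] at this
  set η := f₂ v v with hη
  have hηx : η = x + σ x := by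
    simp [hη, hv, Unit.add_left S.u₂, Unit.add_right S.u₂, Unit.smul_left S.u₂, Unit.smul_right S.u₂, hww, Fr.ww',
      Fr.w'w, Fr.w'w']
  have hη0 : η ≠ 0 := fun h => heig v hv0 h hvy μ hMv
  have hμs : μ + σ μ = 0 := by
    have := hskew v v hvy hvy
    rw [hMv, Unit.smul_left S.u₂, Unit.smul_right S.u₂, ← hη, ← add_mul] at this
    exact (mul_eq_zero.1 this).resolve_right hη0
  set v₂ := σ x • w - w' with hv₂
  have hv₂y : f₂ v₂ y0 = 0 := by
    rw [hv₂, Unit.sub_left S.u₂, Unit.smul_left S.u₂, hwy, Fr.w'z, mul_zero, sub_zero]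
  have hvv₂ : f₂ v v₂ = 0 := by
    simp [hv, hv₂, Unit.add_left S.u₂, Unit.sub_right S.u₂, Unit.smul_left S.u₂, Unit.smul_right S.u₂, hww, Fr.ww',
      Fr.w'w, Fr.w'w', S.u₂.involutive]
  have hv₂v := Unit.eq_zero_comm S.u₂ hvv₂
  have hv₂v₂ : f₂ v₂ v₂ = -η := by
    simp [hv₂, hηx, Unit.sub_left S.u₂, Unit.sub_right S.u₂, Unit.smul_left S.u₂, Unit.smul_right S.u₂, hww,
      Fr.ww', Fr.w'w, Fr.w'w', S.u₂.involutive]
    ring
  set μ₂ := -f₂ (M v₂) w with hμ₂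
  have hMv₂ : M v₂ = μ₂ • v₂ := by
    have h1 := hskew v₂ v hv₂y hvy
    rw [hMv, Unit.smul_right S.u₂, hv₂v, mul_zero, add_zero, hv, Unit.add_right S.u₂, Unit.smul_right S.u₂] at h1
    conv_lhs => rw [hMexp v₂, show f₂ (M v₂) w' = -(σ x * f₂ (M v₂) w) by linear_combination h1]
    rw [hμ₂, hv₂]
    module
  have hμ₂s : μ₂ + σ μ₂ = 0 := by
    have := hskew v₂ v₂ hv₂y hv₂y
    rw [hMv₂, Unit.smul_left S.u₂, Unit.smul_right S.u₂, hv₂v₂, ← add_mul] at this
    exact (mul_eq_zero.1 this).resolve_right (neg_ne_zero.2 hη0)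
  have hμne : μ - μ₂ ≠ 0 := fun h => by
    rw [sub_eq_zero] at h
    refine heig w hw0 hww hwy μ (smul_right_injective _ hη0 ?_)
    show η • M w = η • μ • w
    rw [← map_smul, show η • w = v + v₂ by rw [hηx, hv, hv₂]; module, map_add, hMv, hMv₂, ← h, ← smul_add,
      show v + v₂ = η • w by rw [hηx, hv, hv₂]; module, smul_comm]
  obtain ⟨r, hr⟩ := Unit.exists_norm S.u₁.ne_refl S.u₁.involutive (b := (-1 : F)) (by rw [map_neg, map_one])
  have hr0 : r ≠ 0 := fun h => by rw [h, zero_mul, eq_comm, neg_eq_zero] at hr; exact one_ne_zero hr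
  set d := v - r • v₂ with hd
  have hdd : f₂ d d = 2 * η := by
    simp only [hd, Unit.sub_left S.u₂, Unit.sub_right S.u₂, Unit.smul_left S.u₂, Unit.smul_right S.u₂, hvv₂, hv₂v,
      hv₂v₂, ← hη]
    linear_combination -η * hr
  have hdd0 : f₂ d d ≠ 0 := by rw [hdd]; exact mul_ne_zero h2 hη0
  have hq : ∀ u, f₂ u u ≠ 0 → UnitQr.QCond σ f₂ (-2 / f₂ u u) u := fun u hu => by
    show -2 / f₂ u u + σ (-2 / f₂ u u) + -2 / f₂ u u * σ (-2 / f₂ u u) * f₂ u u = 0
    rw [map_div₀, Unit.self_fixed S.u₂, map_neg, map_ofNat]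
    field_simp
    ring
  set B := UnitQr.qr f₂ (-2 / f₂ d d) d * UnitQr.qr f₂ (-2 / η0) y0 with hB
  have hdy : f₂ d y0 = 0 := by rw [hd, Unit.sub_left S.u₂, Unit.smul_left S.u₂, hvy, hv₂y, mul_zero, sub_zero]
  have hBH : rgt B ∈ H := by
    refine S.right B (fun u u' => ?_) ?_
    · rw [hB, gl_mul_mulVec, gl_mul_mulVec]
      exact (UnitQr.qr_iso S.u₂ (hq d hdd0) _ _).trans (UnitQr.qr_iso S.u₂ (hq y0 hy0) u u')
    · rw [hB, Units.val_mul, Matrix.det_mul, UnitQr.qr_det S.u₂ (hq d hdd0), UnitQr.qr_det S.u₂ (hq y0 hy0),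
        div_mul_cancel₀ _ hdd0, div_mul_cancel₀ _ hy0]
      norm_num
  have hBy : ∀ y, f₂ y y0 = 0 → (B : Matrix (Fin b) (Fin b) F) *ᵥ y = y + (-2 / f₂ d d * f₂ y d) • d :=
    fun y hy => by rw [hB, gl_mul_mulVec, UnitQr.qr_fix S.u₂ (hq y0 hy0) hy, UnitQr.qr_mulVec S.u₂ (hq d hdd0)]
  have hBy0 : (B : Matrix (Fin b) (Fin b) F) *ᵥ y0 = (-1 : F) • y0 := by
    rw [hB, gl_mul_mulVec, UnitQr.qr_self S.u₂ (hq y0 hy0), mulVec_smul,
      UnitQr.qr_fix S.u₂ (hq d hdd0) (Unit.eq_zero_comm S.u₂ hdy), div_mul_cancel₀ _ hy0]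
    norm_num
  clear_value v v₂
  have hBv : (B : Matrix (Fin b) (Fin b) F) *ᵥ v = r • v₂ := by
    rw [hBy v hvy, hdd, show f₂ v d = η by simp [hd, Unit.sub_right S.u₂, Unit.smul_right S.u₂, hvv₂, hη],
      show -2 / (2 * η) * η = -1 by field_simp, hd]
    module
  have hBv₂ : (B : Matrix (Fin b) (Fin b) F) *ᵥ v₂ = r⁻¹ • v := by
    have hr' : r⁻¹ = -σ r := by
      field_simp
      linear_combination hr
    rw [hBy v₂ hv₂y, hdd,
      show f₂ v₂ d = σ r * η by simp [hd, Unit.sub_right S.u₂, Unit.smul_right S.u₂, hv₂v, hv₂v₂],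
      show -2 / (2 * η) * (σ r * η) = -σ r by field_simp, hd, hr']
    match_scalars
    · linear_combination hr
    · ring
  have hBZ : ∀ y, f₂ y y0 = 0 → f₂ ((B : Matrix (Fin b) (Fin b) F) *ᵥ y) y0 = 0 := fun y hy => by
    rw [hBy y hy, Unit.add_left S.u₂, Unit.smul_left S.u₂, hy, hdy, mul_zero, add_zero]
  have hv₂0 : v₂ ≠ 0 := fun h => hη0 (neg_eq_zero.1 (by rw [← hv₂v₂, h, Unit.zero_left S.u₂]))
  have h1 := core B (-1) (μ₂ - μ) v hBH hBy0 hBZ
    (by rw [map_sub]; linear_combination hμ₂s - hμs) hv0 hvy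
    (by rw [hBv, hMv, mulVec_smul, hBv, map_smul, hMv₂]; module) v₂ hv₂y
  rw [hBv₂, hMv₂, mulVec_smul, hBv₂, map_smul, hMv, smul_smul, smul_smul, smul_smul, ← add_smul] at h1
  have h3 := smul_left_injective F hv0 h1
  exact mul_ne_zero (mul_ne_zero h2 hμne) (inv_ne_zero hr0) (by linear_combination h3)

theorem top_of_ne_bot {g : GL (Fin a × Fin b) F} (hg : g ∈ H) {v : Fin b → F} (hv : v ∈ KX g p) (hv0 : v ≠ 0) :
    KX g p = ⊤ := by
  have h1 : finrank F (KX g p) ≠ 1 := S.line_meet_false hb3 ha2 P hno hg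
  have h2 : finrank F (KX g p) ≠ 2 := S.pair_false hno ha2 hb3 P hg
  have h3 := Submodule.finrank_le (KX g p)
  have h4 : finrank F (KX g p) ≠ 0 := fun h => by
    rw [Submodule.finrank_eq_zero.1 h, Submodule.mem_bot] at hv
    exact hv0 hv
  rw [Module.finrank_fintype_fun_eq_card, Fintype.card_fin] at h3
  exact Submodule.eq_top_of_finrank_eq (by rw [Module.finrank_fintype_fun_eq_card, Fintype.card_fin]; omega)

/-- An element mapping a vector of an image into it stabilises it. -/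
theorem stab_of_one {g h : GL (Fin a × Fin b) F} (hg : g ∈ H) (hh : h ∈ H) {x₁ : V2 F a b} (h₁ : x₁ ∈ LX g p)
    (hne : x₁ ≠ 0) (hh₁ : (h : M2 F a b) *ᵥ x₁ ∈ LX g p) {x : V2 F a b} (hx : x ∈ LX g p) :
    (h : M2 F a b) *ᵥ x ∈ LX g p := by
  obtain ⟨v₁, hv₁, e₁⟩ := S.mem_KX_conj hb3 ha2 P h₁ hh₁
  refine S.stab_of_top hb3 ha2 P
    (S.top_of_ne_bot hb3 ha2 P hno (H.mul_mem (H.mul_mem (H.inv_mem hg) hh) hg) hv₁ fun h0 => hne ?_) hx
  exact gl_mulVec_injective h (by beta_reduce; rw [e₁, h0, pl_zero', mulVec_zero, mulVec_zero])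

/-- Every image of `p ⊗ W` is some `q ⊗ W`. -/
theorem image_pure {g : GL (Fin a × Fin b) F} (hg : g ∈ H) :
    ∃ q, q ≠ 0 ∧ f₁ q q = 0 ∧ ∀ v, ∃ n, (g : M2 F a b) *ᵥ pl v p = pl n q := by
  classical
  have hp0 : p ≠ 0 := fun h0 => by have := P.pp'; rw [h0, Unit.zero_left S.u₁] at this; exact zero_ne_one this
  by_cases hbot : KX g p = ⊥
  swap
  · obtain ⟨v₀, hv₀, hv₀0⟩ := (Submodule.ne_bot_iff _).1 hbot
    have htop := S.top_of_ne_bot hb3 ha2 P hno hg hv₀ hv₀0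
    refine ⟨p, hp0, P.pp, fun v => ⟨E f₁ p' ((g : M2 F a b) *ᵥ pl v p), ?_⟩⟩
    have h1 : phX f₁ g p v = 0 := by
      by_contra hne
      obtain ⟨y, hy⟩ := (S.u₂.nondegenerate _ hne).2
      exact hy (S.phX_perp hb3 ha2 P hg (htop ▸ Submodule.mem_top) v)
    conv_lhs => rw [S.toForms.split P ha2 ((g : M2 F a b) *ᵥ pl v p), ← phX_apply, h1, pl_zero', add_zero]
  have hinj : Function.Injective (phX f₁ g p) := by
    rw [← LinearMap.ker_eq_bot, ← Submodule.finrank_eq_zero]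
    have := S.phX_ker hb3 ha2 P g
    rw [hbot, finrank_bot] at this
    omega
  let Φ := LinearEquiv.ofInjectiveEndo (phX f₁ g p) hinj
  have hΦ : ∀ y, phX f₁ g p (Φ.symm y) = y := fun y => Φ.apply_symm_apply y
  set M : (Fin b → F) →ₗ[F] (Fin b → F) :=
    E f₁ p' ∘ₗ Matrix.mulVecLin (g : M2 F a b) ∘ₗ pr p ∘ₗ Φ.symm.toLinearMap with hM
  have helt : ∀ y, (g : M2 F a b) *ᵥ pl (Φ.symm y) p = pl y p' + pl (M y) p := fun y => by
    conv_lhs => rw [S.toForms.split P ha2 ((g : M2 F a b) *ᵥ pl (Φ.symm y) p), ← phX_apply, hΦ, add_comm]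
    rfl
  have hmem : ∀ y, pl y p' + pl (M y) p ∈ LX g p := fun y => mem_LX.2 ⟨_, helt y⟩
  have huniq : ∀ y n, pl y p' + pl n p ∈ LX g p → n = M y := fun y n hx => by
    have h1 : n - M y ∈ KX g p := mem_KX.2 (by
      have := Submodule.sub_mem _ hx (hmem y)
      rwa [show pl y p' + pl n p - (pl y p' + pl (M y) p) = pl (n - M y) p by rw [pl_sub']; abel] at this)
    rwa [hbot, Submodule.mem_bot, sub_eq_zero] at h1
  obtain ⟨e, he0, he⟩ := Unit.exists_skew S.u₁.ne_refl S.u₁.involutive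
  clear_value M
  obtain ⟨μ, hμ⟩ := scalar_of_eigen S.u₂ (by omega) (M := M) fun w hww => by
    rcases eq_or_ne w 0 with rfl | hw0
    · exact ⟨0, by simp⟩
    obtain ⟨v, hv, hv0⟩ := (Submodule.ne_bot_iff _).1 (LinearMap.ker_ne_bot_of_finrank_lt
      (f := ((dotProductBilin F F) (fVec f₂ w)).prod ((dotProductBilin F F) (fVec f₂ w) ∘ₗ M))
      (by rw [Module.finrank_prod, Module.finrank_self, Module.finrank_fintype_fun_eq_card, Fintype.card_fin]; omega))
    rw [LinearMap.mem_ker] at hv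
    have hv1 : f₂ v w = 0 := by simpa [(Unit.sesq S.u₂).fVec_dot] using congrArg Prod.fst hv
    have hv2 : f₂ (M v) w = 0 := by simpa [(Unit.sesq S.u₂).fVec_dot] using congrArg Prod.snd hv
    have hB : ∀ y n, ((rgt (formTv f₂ w e) : GL (Fin a × Fin b) F) : M2 F a b) *ᵥ (pl y p' + pl n p) =
        pl (y + (e * f₂ y w) • w) p' + pl (n + (e * f₂ n w) • w) p := fun y n => by
      rw [mulVec_add, rgt_pl, rgt_pl, Unit.formTv_mulVec S.u₂ hww, Unit.formTv_mulVec S.u₂ hww]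
    have hx0 : pl v p' + pl (M v) p ≠ 0 := fun h => hv0 (by
      have := congrArg (E f₁ p) h
      rwa [map_add, S.toForms.E_pl, S.toForms.E_pl, P.p'p, P.pp, one_smul, zero_smul, add_zero, map_zero] at this)
    obtain ⟨w', hw'w', hw'⟩ := S.exists_partner hw0 hww
    have h1 := S.stab_of_one hb3 ha2 P hno hg (S.rgtT_mem hww he) (hmem v) hx0
      (by rw [hB, hv1, hv2, mul_zero, zero_smul, add_zero, add_zero]; exact hmem v) (hmem w')
    rw [hB] at h1
    have h2 := huniq _ _ h1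
    rw [hw', mul_one, map_add, map_smul, add_right_inj, mul_smul] at h2
    exact ⟨f₂ (M w') w, (smul_right_injective _ he0 h2).symm⟩
  have hμs : μ + σ μ = 0 := by
    obtain ⟨w, hw0, hww⟩ := Unit.exists_isotropic S.u₂ (by rw [Fintype.card_fin]; omega)
    obtain ⟨w', z, Fr⟩ := S.toForms.exists_frame hb3 hw0 hww
    have := S.LX_perp hg P.pp (hmem z) (hmem z)
    rw [S.toForms.hV_split P ha2] at this
    simp only [map_add, S.toForms.E_pl, P.pp, P.p'p', P.pp', P.p'p, one_smul, zero_smul, zero_add, add_zero, hμ,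
      Unit.smul_left S.u₂, Unit.smul_right S.u₂, ← add_mul] at this
    exact (mul_eq_zero.1 this).resolve_right Fr.zz
  refine ⟨p' + μ • p, fun h => ?_, ?_, fun v => ⟨phX f₁ g p v, ?_⟩⟩
  · have := congrArg (fun u => f₁ u p) h
    simp [Unit.add_left S.u₁, Unit.smul_left S.u₁, P.pp, P.p'p, Unit.zero_left S.u₁] at this
  · simp only [Unit.add_left S.u₁, Unit.add_right S.u₁, Unit.smul_left S.u₁, Unit.smul_right S.u₁, P.pp, P.p'p',
      P.pp', P.p'p]
    linear_combination hμs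
  · have h1 := helt (phX f₁ g p v)
    rw [show Φ.symm (phX f₁ g p v) = v from Φ.symm_apply_apply v, hμ] at h1
    rw [h1, map_add, map_smul, pl_smul']

end Setting

namespace Setting

variable {H : Subgroup (GL (Fin a × Fin b) F)} (S : Setting σ f₁ f₂ H)
include S

/-- Without an extra element every element respects the decomposition `2 ⊗ 3`. -/
theorem tensor_two_three (hb3 : b = 3) (ha2 : a = 2) (hno : ¬ S.HasExtra) {g : GL (Fin a × Fin b) F} (hg : g ∈ H) :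
    ∃ (E : (Fin a → F) →ₗ[F] (Fin a → F)) (G : (Fin b → F) →ₗ[F] (Fin b → F)),
      Function.Injective E ∧ Function.Injective G ∧ ∀ u w, (g : M2 F a b) *ᵥ pl w u = pl (G w) (E u) := by
  classical
  obtain ⟨p, hp0, hp⟩ := Unit.exists_isotropic S.u₁ (by rw [Fintype.card_fin]; omega)
  obtain ⟨p', P⟩ := S.toForms.exists_pair hp0 hp
  obtain ⟨τ, hτ0, hτ⟩ := Unit.exists_skew S.u₁.ne_refl S.u₁.involutive
  set r := p + τ • p' with hr
  have hr0 : r ≠ 0 := fun h => by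
    have := congrArg (fun u => f₁ u p') h
    simp [hr, Unit.add_left S.u₁, Unit.smul_left S.u₁, P.pp', P.p'p', Unit.zero_left S.u₁] at this
  have hrr : f₁ r r = 0 := by
    simp only [hr, Unit.add_left S.u₁, Unit.add_right S.u₁, Unit.smul_left S.u₁, Unit.smul_right S.u₁, P.pp,
      P.p'p', P.pp', P.p'p]
    linear_combination hτ
  obtain ⟨r', Pr⟩ := S.toForms.exists_pair hr0 hrr
  have get : ∀ {q q' : Fin a → F}, Pair f₁ q q' → ∃ (ω : Fin a → F) (G : (Fin b → F) →ₗ[F] (Fin b → F)),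
      ω ≠ 0 ∧ Function.Injective G ∧ ∀ v, (g : M2 F a b) *ᵥ pl v q = pl (G v) ω := by
    intro q q' Q
    obtain ⟨ω, hω0, hωω, hω⟩ := S.image_pure hb3 ha2 Q hno hg
    obtain ⟨ω', Pω⟩ := S.toForms.exists_pair hω0 hωω
    have hG : ∀ v, (g : M2 F a b) *ᵥ pl v q =
        pl ((E f₁ ω' ∘ₗ Matrix.mulVecLin (g : M2 F a b) ∘ₗ pr q) v) ω := fun v => by
      obtain ⟨n, hn⟩ := hω v
      simp [pr_eq, hn, S.toForms.E_pl, Pω.pp']
    refine ⟨ω, _, hω0, fun v v' h => ?_, hG⟩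
    have := congrArg (E f₁ q') (gl_mulVec_injective g (((hG v).trans (by rw [h])).trans (hG v').symm))
    simpa [S.toForms.E_pl, Q.pp'] using this
  obtain ⟨ω₁, G₁, hω₁, hG₁i, hG₁⟩ := get P
  obtain ⟨ω₂, G₂, hω₂, hG₂i, hG₂⟩ := get P.symm
  obtain ⟨ω₃, G₃, hω₃, hG₃i, hG₃⟩ := get Pr
  obtain ⟨z, hz0, -⟩ := Unit.exists_isotropic S.u₂ (by rw [Fintype.card_fin]; omega)
  have hind : ∀ c : F, ω₂ ≠ c • ω₁ := fun c hc => by
    obtain ⟨v, hv⟩ := LinearMap.injective_iff_surjective.1 hG₁i (c • G₂ z)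
    have h1 : (g : M2 F a b) *ᵥ pl v p = (g : M2 F a b) *ᵥ pl z p' := by
      rw [hG₁, hG₂, hv, hc, pl_smul', map_smul]
    have h2 := congrArg (E f₁ p) (gl_mulVec_injective g h1)
    rw [S.toForms.E_pl, S.toForms.E_pl, P.pp, P.p'p, zero_smul, one_smul] at h2
    exact hz0 h2.symm
  obtain ⟨θ₂, h22, h21⟩ := exists_perp_of_notMem hind
  obtain ⟨θ₁, h11, h12⟩ := exists_perp_of_notMem (indep_symm hω₁ hind)
  have hsum : ∀ v, pl (G₁ v) ω₁ + τ • pl (G₂ v) ω₂ = pl (G₃ v) ω₃ := fun v => by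
    rw [← hG₁, ← hG₂, ← hG₃, hr, map_add, map_smul, mulVec_add, mulVec_smul]
  have c1 : ∀ v, G₁ v = (θ₁ ⬝ᵥ ω₃) • G₃ v := fun v => by
    simpa [map_add, map_smul, D_pl, h11, h12] using congrArg (D θ₁) (hsum v)
  have c2 : ∀ v, τ • G₂ v = (θ₂ ⬝ᵥ ω₃) • G₃ v := fun v => by
    simpa [map_add, map_smul, D_pl, h21, h22] using congrArg (D θ₂) (hsum v)
  have hne : θ₁ ⬝ᵥ ω₃ ≠ 0 := fun h => hz0 (hG₁i (by rw [c1, h, zero_smul, map_zero]))
  set c := (θ₂ ⬝ᵥ ω₃) / (θ₁ ⬝ᵥ ω₃) * τ⁻¹ with hc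
  have hG₂G₁ : ∀ v, G₂ v = c • G₁ v := fun v => by
    rw [← inv_smul_smul₀ hτ0 (G₂ v), c2, c1, smul_smul, smul_smul, hc]
    congr 1
    field_simp
  let Em : (Fin a → F) →ₗ[F] (Fin a → F) :=
    ((dotProductBilin F F) (fVec f₁ p')).smulRight ω₁ + ((dotProductBilin F F) (fVec f₁ p)).smulRight (c • ω₂)
  have hEm : ∀ u, Em u = f₁ u p' • ω₁ + f₁ u p • c • ω₂ := fun u => by
    simp [Em, (Unit.sesq S.u₁).fVec_dot]
  have hall : ∀ u v, (g : M2 F a b) *ᵥ pl v u = pl (G₁ v) (Em u) := fun u v => by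
    conv_lhs => rw [S.toForms.span_pair P ha2 u]
    rw [map_add, map_smul, map_smul, mulVec_add, mulVec_smul, mulVec_smul, hG₁, hG₂, hG₂G₁, hEm, map_add, map_smul,
      map_smul, map_smul, pl_smul']
  refine ⟨Em, G₁, ?_, hG₁i, hall⟩
  rw [← LinearMap.ker_eq_bot, Submodule.eq_bot_iff]
  intro u hu
  rw [LinearMap.mem_ker] at hu
  exact S.xi_injective g hz0 (by rw [map_zero, xi_apply, hall, hu, map_zero])

end Setting

end CfsgLib.GeomClasses.UnitTensor
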