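import Cfsg.Agent.Lib.GeomClasses.UnitTensor.Tensor
import Cfsg.Agent.Lib.GeomClasses.UnitTensor.Full
import Cfsg.Agent.Lib.GeomClasses.UnitTensor.SmallFull
import Cfsg.Agent.Lib.GeomClasses.UnitTensor.SmallTensor
import Cfsg.Agent.Lib.GeomClasses.UnitGen

/-!
The stabiliser of a tensor decomposition `a < b`, with `b ≥ 4` or `a = 2`, `b = 3`, is maximal in the special unitary
group.
-/

set_option autoImplicit false
set_option linter.unusedSectionVars false
set_option linter.unusedSimpArgs false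

namespace CfsgLib.GeomClasses.UnitTensor

open Matrix Module TensorMax
open scoped Kronecker

variable {F : Type*} [Field F] [Fintype F] {a b : ℕ} {σ : F ≃+* F}
  {f₁ : (Fin a → F) → (Fin a → F) → F} {f₂ : (Fin b → F) → (Fin b → F) → F}

attribute [-simp] Matrix.coe_units_inv

theorem Forms.iso_of_pure (hF : Forms σ f₁ f₂) {g : M2 F a b}
    (h : ∀ w w' u u', hV σ f₁ f₂ (g *ᵥ pl w u) (g *ᵥ pl w' u') = hV σ f₁ f₂ (pl w u) (pl w' u')) (x y : V2 F a b) :
    hV σ f₁ f₂ (g *ᵥ x) (g *ᵥ y) = hV σ f₁ f₂ x y := by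
  have hs := hV_sesq (σ := σ) f₁ f₂
  have h1 : ∀ x w u, hV σ f₁ f₂ (g *ᵥ x) (g *ᵥ pl w u) = hV σ f₁ f₂ x (pl w u) := fun x w u =>
    LinearMap.congr_fun (ext_pl
      (f := ({ toFun := fun x => hV σ f₁ f₂ (g *ᵥ x) (g *ᵥ pl w u)
               map_add' := fun x y => by rw [mulVec_add, hs.add_left]
               map_smul' := fun c x => by rw [mulVec_smul, hs.smul_left]; rfl } : V2 F a b →ₗ[F] F))
      (g := ({ toFun := fun x => hV σ f₁ f₂ x (pl w u)
               map_add' := fun x y => hs.add_left x y _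
               map_smul' := fun c x => hs.smul_left c x _ } : V2 F a b →ₗ[F] F))
      fun p z => h z w p u) x
  have h2 := LinearMap.congr_fun (ext_pl
    (f := ({ toFun := fun y => hV σ f₁ f₂ (g *ᵥ y) (g *ᵥ x)
             map_add' := fun p q => by rw [mulVec_add, hs.add_left]
             map_smul' := fun c p => by rw [mulVec_smul, hs.smul_left]; rfl } : V2 F a b →ₗ[F] F))
    (g := ({ toFun := fun y => hV σ f₁ f₂ y x
             map_add' := fun p q => hs.add_left p q _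
             map_smul' := fun c p => hs.smul_left c p _ } : V2 F a b →ₗ[F] F))
    fun p z => by
      show hV σ f₁ f₂ (g *ᵥ pl z p) (g *ᵥ x) = hV σ f₁ f₂ (pl z p) x
      rw [← hF.conj (g *ᵥ x), h1, hF.conj]) y
  have h3 := congrArg σ h2
  simpa only [LinearMap.coe_mk, AddHom.coe_mk, hF.conj] using h3

theorem lft_iso (hF : Forms σ f₁ f₂) {A : GL (Fin a) F} (hA : Symp.IsIsometry f₁ A) (x y : V2 F a b) :
    hV σ f₁ f₂ (((lft A : GL (Fin a × Fin b) F) : M2 F a b) *ᵥ x)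
      (((lft A : GL (Fin a × Fin b) F) : M2 F a b) *ᵥ y) = hV σ f₁ f₂ x y :=
  hF.iso_of_pure (fun w w' u u' => by rw [lft_pl, lft_pl, hV_pl hF, hV_pl hF, hA]) x y

theorem rgt_iso (hF : Forms σ f₁ f₂) {B : GL (Fin b) F} (hB : Symp.IsIsometry f₂ B) (x y : V2 F a b) :
    hV σ f₁ f₂ (((rgt B : GL (Fin a × Fin b) F) : M2 F a b) *ᵥ x)
      (((rgt B : GL (Fin a × Fin b) F) : M2 F a b) *ᵥ y) = hV σ f₁ f₂ x y :=
  hF.iso_of_pure (fun w w' u u' => by rw [rgt_pl, rgt_pl, hV_pl hF, hV_pl hF, hB]) x y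

/-- A transvection of the tensor space which does not respect the decomposition. -/
theorem exists_tv_not_tensor (hF : Forms σ f₁ f₂) (ha : 2 ≤ a) (hb : 3 ≤ b) :
    ∃ (x : V2 F a b) (c : F), hV σ f₁ f₂ x x = 0 ∧ c + σ c = 0 ∧
      ∀ (k : GL (Fin a × Fin b) F), (∀ z, (k : M2 F a b) *ᵥ z = z + (c * hV σ f₁ f₂ z x) • x) →
        k ∉ Cfsg.Geo.kroneckerSubgroup a b F := by
  classical
  obtain ⟨p, hp0, hp⟩ := Unit.exists_isotropic hF.u₁ (by rwa [Fintype.card_fin])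
  obtain ⟨p', hp', hpp', -⟩ := exists_iso_pair hF.u₁ ha hp0 hp0
  obtain ⟨s, hs0, hs⟩ := Unit.exists_isotropic hF.u₂ (by rw [Fintype.card_fin]; omega)
  obtain ⟨s', hs's', hs'⟩ := hF.exists_partner hs0 hs
  obtain ⟨e, he0, he⟩ := Unit.exists_skew hF.u₁.ne_refl hF.u₁.involutive
  have hp'p := Unit.ne_zero_comm hF.u₁ hpp'
  set t := (e / f₁ p' p) • s' with htdef
  have ht : f₂ t t = 0 := by
    rw [htdef, Unit.smul_left hF.u₂, Unit.smul_right hF.u₂, hs's', mul_zero, mul_zero]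
  have hts : f₂ t s = e / f₁ p' p := by rw [htdef, Unit.smul_left hF.u₂, hs', mul_one]
  have hts0 : f₂ t s ≠ 0 := by rw [hts]; exact div_ne_zero he0 hp'p
  have hst0 := Unit.ne_zero_comm hF.u₂ hts0
  clear_value t
  obtain ⟨z, hzmem, hz0⟩ := Submodule.exists_mem_ne_zero_of_ne_bot
    (p := Unit.perp hF.u₂ (Submodule.span F {s, t})) (fun h => by
      have h1 := Unit.finrank_perp hF.u₂ (Submodule.span F {s, t})
      have h2 := finrank_span_finset_le_card (R := F) ({s, t} : Finset (Fin b → F))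
      rw [Finset.coe_pair, Set.finrank] at h2
      have h4 : Finset.card ({s, t} : Finset (Fin b → F)) ≤ 2 := Finset.card_le_two
      rw [h, finrank_bot, Fintype.card_fin] at h1
      omega)
  rw [Unit.mem_perp hF.u₂] at hzmem
  have hzs : f₂ z s = 0 := hzmem s (Submodule.subset_span (by simp))
  have hzt : f₂ z t = 0 := hzmem t (Submodule.subset_span (by simp))
  set x := pl s p + pl t p' with hx
  have hxx : hV σ f₁ f₂ x x = 0 := by
    rw [hx, (hV_sesq f₁ f₂).add_left, (hV_sesq f₁ f₂).add_right, (hV_sesq f₁ f₂).add_right, hV_pl hF, hV_pl hF,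
      hV_pl hF, hV_pl hF, hp, hp', hts, ← Unit.conj_form hF.u₁ p' p, ← Unit.conj_form hF.u₂ t s, hts,
      ← map_mul, mul_div_cancel₀ _ hp'p, zero_mul, zero_mul, add_zero, zero_add, add_comm, he]
  refine ⟨x, e, hxx, he, fun k hk => ?_⟩
  rintro ⟨A, B, hAB⟩
  obtain ⟨z', hz'⟩ := hF.exists_one hz0
  set u' := (A : Matrix (Fin a) (Fin a) F) *ᵥ p
  set w₁ := (B : Matrix (Fin b) (Fin b) F) *ᵥ (s + z)
  have hk' : pl w₁ u' = pl (s + z) p + (e * hV σ f₁ f₂ (pl (s + z) p) x) • x := by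
    rw [← hk, hAB, kronecker_mulVec_pl]
  set lam := e * hV σ f₁ f₂ (pl (s + z) p) x with hlam
  have hlam0 : lam ≠ 0 := by
    rw [hlam, hx, (hV_sesq f₁ f₂).add_right, hV_pl hF, hV_pl hF, hp, zero_mul, zero_add, Unit.add_left hF.u₂, hzt,
      add_zero]
    exact mul_ne_zero he0 (mul_ne_zero hpp' hst0)
  set w'' := z' - (f₂ z' t / f₂ s t) • s - (f₂ z' s / f₂ t s) • t with hw''
  have hw''s : f₂ w'' s = 0 := by
    rw [hw'', Unit.sub_left hF.u₂, Unit.sub_left hF.u₂, Unit.smul_left hF.u₂, Unit.smul_left hF.u₂, hs,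
      div_mul_cancel₀ _ hts0]
    ring
  have hw''t : f₂ w'' t = 0 := by
    rw [hw'', Unit.sub_left hF.u₂, Unit.sub_left hF.u₂, Unit.smul_left hF.u₂, Unit.smul_left hF.u₂, ht,
      div_mul_cancel₀ _ hst0]
    ring
  have hw''z : f₂ w'' z = 1 := by
    rw [hw'', Unit.sub_left hF.u₂, Unit.sub_left hF.u₂, Unit.smul_left hF.u₂, Unit.smul_left hF.u₂,
      Unit.eq_zero_comm hF.u₂ hzs, Unit.eq_zero_comm hF.u₂ hzt, hz']
    ring
  have c1 := congrArg (Cv f₂ w'') hk'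
  have c2 := congrArg (Cv f₂ s) hk'
  rw [hx] at c1 c2
  simp only [map_add, map_smul, hF.Cv_pl, Unit.add_left hF.u₂, Unit.eq_zero_comm hF.u₂ hw''s,
    Unit.eq_zero_comm hF.u₂ hw''t, show f₂ z w'' = 1 by rw [← Unit.conj_form hF.u₂, hw''z, map_one],
    hs, hzs, zero_smul, zero_add, add_zero, smul_zero, one_smul] at c1 c2
  have hd : f₂ w₁ w'' ≠ 0 := fun h => hp0 (by rw [← c1, h, zero_smul])
  have h3 : (lam * f₂ t s) • p' = (f₂ w₁ s / f₂ w₁ w'') • p := by
    rw [mul_smul, ← c2, ← c1, smul_smul, div_mul_cancel₀ _ hd]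
  have h4 := congrArg (fun q => f₁ q p) h3
  simp only [Unit.smul_left hF.u₁, hp, mul_zero] at h4
  exact mul_ne_zero (mul_ne_zero hlam0 hts0) hp'p h4

theorem exists_sqrt {q : ℕ} (hcard : Fintype.card F = q ^ 2) {t : F} (ht : t ^ q = t) : ∃ μ, μ * μ = t := by
  rcases Nat.even_or_odd q with hq | ⟨k, hk⟩
  · have h2 : ringChar F = 2 := FiniteField.even_card_iff_char_two.2 (by
      rw [hcard, Nat.pow_mod, Nat.even_iff.1 hq])
    obtain ⟨μ, hμ⟩ := FiniteField.isSquare_of_char_two h2 t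
    exact ⟨μ, hμ.symm⟩
  · obtain ⟨x, hx⟩ := Unit.exists_norm (UnitPow.conj_ne_refl hcard) (fun x => (UnitPow.conj hcard).left_inv x)
      (b := t) ht
    refine ⟨x ^ (k + 1), ?_⟩
    rw [← hx, UnitPow.conj_apply, hk, ← pow_add]
    ring

theorem exists_fixed {q : ℕ} (hcard : Fintype.card F = q ^ 2) (hq : q ≠ 2) :
    ∃ t : F, t ^ q = t ∧ t ≠ 0 ∧ t ≠ 1 := by
  have h2 := UnitPow.two_le hcard
  obtain ⟨g, hg⟩ := IsCyclic.exists_generator (α := Fˣ)
  have hord : orderOf g = Fintype.card F - 1 := by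
    rw [orderOf_eq_card_of_forall_mem_zpowers hg, Nat.card_units, Nat.card_eq_fintype_card]
  refine ⟨(g : F) * UnitPow.conj hcard g, ?_, mul_ne_zero g.ne_zero (by simp [g.ne_zero]), fun h => ?_⟩
  · rw [← UnitPow.conj_apply hcard, map_mul, show UnitPow.conj hcard (UnitPow.conj hcard (g : F)) = g from
      (UnitPow.conj hcard).left_inv _, mul_comm]
  · have h1 : g ^ (q + 1) = 1 := Units.ext (by
      rw [Units.val_pow_eq_pow_val, pow_succ', Units.val_one, ← UnitPow.conj_apply hcard, h])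
    have h3 := Nat.le_of_dvd (by omega) (hord ▸ orderOf_dvd_of_pow_eq_one h1)
    have h4 : 3 * q ≤ q ^ 2 := by
      rw [pow_two]; exact Nat.mul_le_mul_right q (by omega)
    rw [hcard] at h3
    omega

/-- The stabiliser of a tensor decomposition is maximal, given the two halves of the dichotomy. -/
theorem maximal_of_dichotomy {n q : ℕ} (hcard : Fintype.card F = q ^ 2) (ha : 2 ≤ a) (hab : a < b) (hb : 3 ≤ b)
    (hex : ¬ (a = 2 ∧ q = 2))
    (hcen : ∀ {H : Subgroup (GL (Fin a × Fin b) F)} (S : Setting (UnitPow.conj hcard) f₁ f₂ H), S.HasExtra →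
      ∀ {x : V2 F a b}, hV (UnitPow.conj hcard) f₁ f₂ x x = 0 → S.Cen x)
    (htens : ∀ {H : Subgroup (GL (Fin a × Fin b) F)} (S : Setting (UnitPow.conj hcard) f₁ f₂ H), ¬ S.HasExtra →
      ∀ {g : GL (Fin a × Fin b) F}, g ∈ H →
        ∃ (E : (Fin a → F) →ₗ[F] (Fin a → F)) (G : (Fin b → F) →ₗ[F] (Fin b → F)),
          Function.Injective E ∧ Function.Injective G ∧ ∀ u w, (g : M2 F a b) *ᵥ pl w u = pl (G w) (E u))
    (e : Fin n ≃ Fin a × Fin b) (P : GL (Fin n) F)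
    (hf₁ : Cfsg.Geo.IsUnitaryFormPow q f₁) (hf₂ : Cfsg.Geo.IsUnitaryFormPow q f₂)
    (hT : Cfsg.Geo.IsTensorFormStructure (fun x : F => x ^ q) (Cfsg.hermForm n F q) f₁ f₂ e P) :
    Cfsg.Geo.IsMaximalIn (Cfsg.GU n F q ⊓ Cfsg.Geo.specialLinear (Fin n) F)
      (Cfsg.Geo.tensorProductSubgroup a b e P ⊓ (Cfsg.GU n F q ⊓ Cfsg.Geo.specialLinear (Fin n) F)) := by
  classical
  have hn : n = a * b := by simpa using Fintype.card_congr e
  have hF : Forms (UnitPow.conj hcard) f₁ f₂ :=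
    ⟨UnitPow.isUnitaryForm_of_pow hcard hf₁, UnitPow.isUnitaryForm_of_pow hcard hf₂⟩
  have hherm := UnitPow.isUnitaryForm_hermForm hcard n
  obtain ⟨c₀, hc₀, hform⟩ := hT
  let cd := CfsgLib.Maximal.TensorTools.coord e P
  have hval : ∀ x y, Cfsg.hermForm n F q (cd x) (cd y) = c₀ * hV (UnitPow.conj hcard) f₁ f₂ x y := fun x y => by
    show Cfsg.hermForm n F q (CfsgLib.Maximal.TensorTools.coord e P x) _ = _
    rw [CfsgLib.Maximal.TensorTools.coord_apply, CfsgLib.Maximal.TensorTools.coord_apply, hform]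
    rfl
  let Φ : GL (Fin a × Fin b) F ≃* GL (Fin n) F := (Cfsg.Geo.glReindex e.symm).trans (MulAut.conj P)
  have hΦ : ∀ k x, (Φ k : Matrix (Fin n) (Fin n) F) *ᵥ cd x = cd ((k : M2 F a b) *ᵥ x) := fun k x =>
    CfsgLib.Maximal.TensorTools.conj_reindex_mulVec e P k x
  have hH : Cfsg.Geo.tensorProductSubgroup a b e P =
      (Cfsg.Geo.kroneckerSubgroup a b F).map Φ.toMonoidHom := by
    rw [Cfsg.Geo.tensorProductSubgroup, Subgroup.map_map]
    rfl
  have hSL : ∀ k, Φ k ∈ Cfsg.Geo.specialLinear (Fin n) F ↔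
      (k : M2 F a b).det = 1 := fun k => by
    rw [mem_specialLinear]
    show ((P * Cfsg.Geo.glReindex e.symm k * P⁻¹ : GL (Fin n) F) : Matrix (Fin n) (Fin n) F).det = 1 ↔ _
    rw [Units.val_mul, Units.val_mul, Matrix.coe_units_inv, Matrix.det_conj P.isUnit]
    show (Matrix.reindexAlgEquiv F F e.symm (k : M2 F a b)).det = 1 ↔ _
    rw [Matrix.det_reindexAlgEquiv]
  have hmap : ∀ k, Φ k ∈ Cfsg.Geo.tensorProductSubgroup a b e P ↔ k ∈ Cfsg.Geo.kroneckerSubgroup a b F :=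
    fun k => by rw [hH]; exact Subgroup.mem_map_iff_mem Φ.injective
  have hGU : ∀ k, Φ k ∈ Cfsg.GU n F q ↔
      ∀ x y, hV (UnitPow.conj hcard) f₁ f₂ ((k : M2 F a b) *ᵥ x) ((k : M2 F a b) *ᵥ y) =
        hV (UnitPow.conj hcard) f₁ f₂ x y := fun k => by
    rw [UnitPow.mem_GU]
    refine ⟨fun h x y => mul_left_cancel₀ hc₀ ?_, fun h u v => ?_⟩
    · rw [← hval, ← hval, ← hΦ, ← hΦ, h]
    · obtain ⟨x, rfl⟩ := cd.surjective u
      obtain ⟨y, rfl⟩ := cd.surjective v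
      rw [hΦ, hΦ, hval, hval, h]
  have hc₀fix : UnitPow.conj hcard c₀ = c₀ := by
    obtain ⟨u, hu0, -⟩ := Unit.exists_isotropic hF.u₁ (by rwa [Fintype.card_fin])
    obtain ⟨w, hw0, -⟩ := Unit.exists_isotropic hF.u₂ (by rw [Fintype.card_fin]; omega)
    obtain ⟨u', hu'⟩ := (hF.u₁.nondegenerate u hu0).1
    obtain ⟨w', hw'⟩ := hF.exists_one hw0
    have h1 := Unit.conj_form hherm (cd (pl w' u')) (cd (pl w u))
    rw [hval, hval, map_mul, hF.conj] at h1
    refine mul_right_cancel₀ (b := hV (UnitPow.conj hcard) f₁ f₂ (pl w u) (pl w' u')) ?_ h1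
    rw [hV_pl hF]
    exact mul_ne_zero (Unit.ne_zero_comm hF.u₁ hu') (Unit.ne_zero_comm hF.u₂ (by rw [hw']; exact one_ne_zero))
  have htv : ∀ (x : V2 F a b) (c : F) (k : GL (Fin a × Fin b) F), hV (UnitPow.conj hcard) f₁ f₂ x x = 0 →
      (∀ z, (k : M2 F a b) *ᵥ z = z + (c * hV (UnitPow.conj hcard) f₁ f₂ z x) • x) →
      Φ k = formTv (Cfsg.hermForm n F q) (cd x) (c / c₀) := fun x c k hx hk => gl_ext fun v => by
    obtain ⟨z, rfl⟩ := cd.surjective v
    rw [Unit.formTv_mulVec hherm (by rw [hval, hx, mul_zero]), hΦ, hk, map_add, map_smul, hval, ← mul_assoc,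
      div_mul_cancel₀ _ hc₀]
  refine ⟨lt_of_le_of_ne inf_le_right fun heq => ?_, fun M hM hMK => ?_⟩
  · obtain ⟨x, c, hxx, hc, hnot⟩ := exists_tv_not_tensor hF ha hb
    obtain ⟨k, hk⟩ := Φ.surjective (formTv (Cfsg.hermForm n F q) (cd x) (c / c₀))
    have hvv : Cfsg.hermForm n F q (cd x) (cd x) = 0 := by rw [hval, hxx, mul_zero]
    have hcs : c / c₀ + UnitPow.conj hcard (c / c₀) = 0 := by rw [map_div₀, hc₀fix, ← add_div, hc, zero_div]
    refine hnot k (fun z => cd.injective ?_) ((hmap k).1 ?_)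
    · rw [← hΦ, hk, Unit.formTv_mulVec hherm hvv, hval, map_add, map_smul, ← mul_assoc, div_mul_cancel₀ _ hc₀]
    · have h1 : formTv (Cfsg.hermForm n F q) (cd x) (c / c₀) ∈
          Cfsg.GU n F q ⊓ Cfsg.Geo.specialLinear (Fin n) F :=
        ⟨UnitPow.mem_GU.2 (Unit.formTv_isometry hherm hvv hcs), formTv_mem_specialLinear _ _ _⟩
      rw [← heq, ← hk] at h1
      exact h1.1
  let H : Subgroup (GL (Fin a × Fin b) F) := M.comap Φ.toMonoidHom
  have hkr : ∀ k, k ∈ Cfsg.Geo.kroneckerSubgroup a b F → (k : M2 F a b).det = 1 →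
      (∀ x y, hV (UnitPow.conj hcard) f₁ f₂ ((k : M2 F a b) *ᵥ x) ((k : M2 F a b) *ᵥ y) =
        hV (UnitPow.conj hcard) f₁ f₂ x y) → k ∈ H :=
    fun k hk hd hi => hM ⟨(hmap k).2 hk, (hGU k).2 hi, (hSL k).2 hd⟩
  have S : Setting (UnitPow.conj hcard) f₁ f₂ H :=
    { hF with
      two_le := ha
      lt := hab
      three_le := by omega
      small := fun ⟨h2, hfix⟩ => by
        obtain ⟨t, ht, ht0, ht1⟩ := exists_fixed hcard fun hq => hex ⟨h2, hq⟩
        exact (hfix t ht).elim ht0 ht1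
      sqrt := fun t ht => exists_sqrt hcard ht
      iso := fun g hg => (hGU g).1 (hMK hg).1
      left := fun A hA hd => hkr _ ⟨A, 1, rfl⟩ (by
        show ((A : Matrix (Fin a) (Fin a) F) ⊗ₖ (1 : Matrix (Fin b) (Fin b) F)).det = 1
        rw [Matrix.det_kronecker, hd, det_one]; simp) (lft_iso hF hA)
      right := fun B hB hd => hkr _ ⟨1, B, rfl⟩ (by
        show ((1 : Matrix (Fin a) (Fin a) F) ⊗ₖ (B : Matrix (Fin b) (Fin b) F)).det = 1
        rw [Matrix.det_kronecker, hd, det_one]; simp) (rgt_iso hF hB) }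
  by_cases hx : S.HasExtra
  · refine Or.inr (le_antisymm hMK ?_)
    have hn3 : 4 ≤ n := by rw [hn]; nlinarith
    refine UnitGen.specialUnitary_le_of_formTv_mem hcard (by omega) (by omega) fun v hv c hc => ?_
    obtain ⟨x, rfl⟩ := cd.surjective v
    rw [hval] at hv
    obtain ⟨t, ht, htz⟩ := hcen S hx ((mul_eq_zero.1 hv).resolve_left hc₀) (c * c₀)
      (by rw [map_mul, hc₀fix, UnitPow.conj_apply, ← add_mul, hc, zero_mul])
    have := htv x (c * c₀) t ((mul_eq_zero.1 hv).resolve_left hc₀) htz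
    rw [mul_div_cancel_right₀ _ hc₀] at this
    exact this ▸ ht
  · refine Or.inl (le_antisymm (fun g hg => ?_) hM)
    obtain ⟨k, rfl⟩ := Φ.surjective g
    refine ⟨(hmap k).2 ?_, hMK hg⟩
    obtain ⟨E, G, hE, hG, h⟩ := htens S hx (show k ∈ H from hg)
    exact TensorMax.tensor_mem hE hG h

/-- The stabiliser of a tensor decomposition is maximal in the special unitary group. -/
theorem maximal_tensor {n q : ℕ} (hcard : Fintype.card F = q ^ 2) (ha : 2 ≤ a) (hab : a < b) (hb : 4 ≤ b)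
    (hex : ¬ (a = 2 ∧ q = 2)) (e : Fin n ≃ Fin a × Fin b) (P : GL (Fin n) F)
    (hf₁ : Cfsg.Geo.IsUnitaryFormPow q f₁) (hf₂ : Cfsg.Geo.IsUnitaryFormPow q f₂)
    (hT : Cfsg.Geo.IsTensorFormStructure (fun x : F => x ^ q) (Cfsg.hermForm n F q) f₁ f₂ e P) :
    Cfsg.Geo.IsMaximalIn (Cfsg.GU n F q ⊓ Cfsg.Geo.specialLinear (Fin n) F)
      (Cfsg.Geo.tensorProductSubgroup a b e P ⊓ (Cfsg.GU n F q ⊓ Cfsg.Geo.specialLinear (Fin n) F)) :=
  maximal_of_dichotomy hcard ha hab (by omega) hex (fun S hx _ h => S.cen_of_extra hb hx h)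
    (fun S hx _ hg => S.tensor hx hb hg) e P hf₁ hf₂ hT

/-- The stabiliser of a tensor decomposition `2 ⊗ 3` is maximal in the special unitary group. -/
theorem maximal_tensor_two_three {n q : ℕ} (hcard : Fintype.card F = q ^ 2) (ha : a = 2) (hb : b = 3) (hq : q ≠ 2)
    (e : Fin n ≃ Fin a × Fin b) (P : GL (Fin n) F)
    (hf₁ : Cfsg.Geo.IsUnitaryFormPow q f₁) (hf₂ : Cfsg.Geo.IsUnitaryFormPow q f₂)
    (hT : Cfsg.Geo.IsTensorFormStructure (fun x : F => x ^ q) (Cfsg.hermForm n F q) f₁ f₂ e P) :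
    Cfsg.Geo.IsMaximalIn (Cfsg.GU n F q ⊓ Cfsg.Geo.specialLinear (Fin n) F)
      (Cfsg.Geo.tensorProductSubgroup a b e P ⊓ (Cfsg.GU n F q ⊓ Cfsg.Geo.specialLinear (Fin n) F)) :=
  maximal_of_dichotomy hcard (by omega) (by omega) (by omega) (fun h => hq h.2)
    (fun S hx _ h => S.cen_of_extra_two_three hx hb ha h)
    (fun S hx _ hg => S.tensor_two_three hb ha hx hg) e P hf₁ hf₂ hT

end CfsgLib.GeomClasses.UnitTensor
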