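import Cfsg.Agent.Lib.GeomClasses.UnitTensor.Basic

/-!
Scalar criteria on a unitary space, commutators with Siegel elements of the stabiliser.
-/

set_option autoImplicit false
set_option linter.unusedSectionVars false
set_option linter.unusedSimpArgs false

namespace CfsgLib.GeomClasses.UnitTensor

open Matrix Module TensorMax
open scoped Kronecker

variable {F : Type*} [Field F] [Fintype F] {a b : ℕ} {σ : F ≃+* F}
  {f₁ : (Fin a → F) → (Fin a → F) → F} {f₂ : (Fin b → F) → (Fin b → F) → F}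

attribute [-simp] Matrix.coe_units_inv

section scalar

variable (hf : Cfsg.Geo.IsUnitaryForm σ f₁)
include hf

theorem exists_iso_combination {p r : Fin a → F} (hp : f₁ p p = 0) (hr : f₁ r r = 0) :
    ∃ τ : F, τ ≠ 0 ∧ f₁ (p + τ • r) (p + τ • r) = 0 := by
  by_cases h : f₁ r p = 0
  · exact ⟨1, one_ne_zero, by rw [Unit.self_add_smul hf, hp, hr, h]; simp⟩
  · obtain ⟨c, hc0, hc⟩ := Unit.exists_skew hf.ne_refl hf.involutive
    exact ⟨c / f₁ r p, div_ne_zero hc0 h, by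
      rw [Unit.self_add_smul hf, hp, hr, div_mul_cancel₀ _ h, hc]; ring⟩

/-- A map with all isotropic vectors as eigenvectors is a scalar. -/
theorem scalar_of_eigen (ha : 2 ≤ a) {M : (Fin a → F) →ₗ[F] (Fin a → F)}
    (h : ∀ p, f₁ p p = 0 → ∃ μ : F, M p = μ • p) : ∃ μ : F, ∀ u, M u = μ • u := by
  obtain ⟨p, hp0, hp⟩ := Unit.exists_isotropic hf (by rwa [Fintype.card_fin])
  obtain ⟨μ, hμ⟩ := h p hp
  refine ⟨μ, fun u => ?_⟩
  have htop := Unit.span_isotropic hf (by rwa [Fintype.card_fin])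
    (W := LinearMap.ker (M - μ • LinearMap.id)) fun r hr => by
      rw [LinearMap.mem_ker, LinearMap.sub_apply, LinearMap.smul_apply, LinearMap.id_apply, sub_eq_zero]
      by_cases hd : ∃ t : F, r = t • p
      · obtain ⟨t, rfl⟩ := hd
        rw [map_smul, hμ, smul_comm]
      push Not at hd
      obtain ⟨τ, hτ, hiso⟩ := exists_iso_combination hf hp hr
      obtain ⟨ν, hν⟩ := h r hr
      obtain ⟨κ, hκ⟩ := h _ hiso
      rw [map_add, map_smul, hμ, hν] at hκ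
      obtain ⟨θ, hθp, hθr⟩ := exists_perp_of_notMem hd
      obtain ⟨θ', hθ'r, hθ'p⟩ := exists_perp_of_notMem (indep_symm hp0 hd)
      have e1 := congrArg (fun v => θ ⬝ᵥ v) hκ
      have e2 := congrArg (fun v => θ' ⬝ᵥ v) hκ
      simp only [dotProduct_add, dotProduct_smul, smul_eq_mul, hθp, hθr, hθ'r, hθ'p, mul_zero, mul_one, zero_add,
        add_zero] at e1 e2
      rw [hν, e2]
      congr 1
      exact mul_left_cancel₀ hτ (e1.trans (mul_comm κ τ))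
  have h1 : u ∈ (⊤ : Submodule F (Fin a → F)) := Submodule.mem_top
  rw [← htop, LinearMap.mem_ker, LinearMap.sub_apply, LinearMap.smul_apply, LinearMap.id_apply, sub_eq_zero] at h1
  exact h1

/-- A map commuting with the special unitary group modulo scalars is a scalar. -/
theorem scalar_of_commute (ha : 2 ≤ a) (hsmall : a = 2 → ∃ t : F, σ t = t ∧ t ≠ 0 ∧ t ≠ 1)
    {M : (Fin a → F) →ₗ[F] (Fin a → F)}
    (h : ∀ A : GL (Fin a) F, Symp.IsIsometry f₁ A → (A : Matrix (Fin a) (Fin a) F).det = 1 →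
      ∃ κ : F, ∀ u, (A : Matrix (Fin a) (Fin a) F) *ᵥ M u - M ((A : Matrix (Fin a) (Fin a) F) *ᵥ u) =
        κ • ((A : Matrix (Fin a) (Fin a) F) *ᵥ u)) :
    ∃ μ : F, ∀ u, M u = μ • u := by
  refine scalar_of_eigen hf ha fun p hp => ?_
  rcases eq_or_ne p 0 with rfl | hp0
  · exact ⟨0, by simp⟩
  obtain ⟨e, he0, he⟩ := Unit.exists_skew hf.ne_refl hf.involutive
  have hA : ∀ c : F, c + σ c = 0 → ∃ κ : F, ∀ u,
      c • (f₁ (M u) p • p - f₁ u p • M p) = κ • (u + (c * f₁ u p) • p) := by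
    intro c hc
    obtain ⟨κ, hκ⟩ := h _ (Unit.formTv_isometry hf hp hc) (mem_specialLinear.1 (formTv_mem_specialLinear f₁ p c))
    refine ⟨κ, fun u => ?_⟩
    rw [← Unit.formTv_mulVec hf hp c u, ← hκ u, Unit.formTv_mulVec hf hp, Unit.formTv_mulVec hf hp, map_add,
      map_smul, smul_sub, smul_smul, smul_smul]
    abel
  obtain ⟨u₀, hu₀⟩ : ∃ u₀, f₁ u₀ p = 1 := by
    obtain ⟨y, hy⟩ := exists_dot_eq_one ((Unit.sesq hf).fVec_ne_zero hf.nondegenerate hp0)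
    exact ⟨y, by rw [← (Unit.sesq hf).fVec_dot, dotProduct_comm, hy]⟩
  obtain ⟨κ, hκ⟩ := hA e he
  suffices hκ0 : κ = 0 by
    have h1 := hκ u₀
    rw [hκ0, zero_smul, hu₀, one_smul, smul_eq_zero, sub_eq_zero] at h1
    exact ⟨f₁ (M u₀) p, (h1.resolve_left he0).symm⟩
  rcases Nat.lt_or_ge a 3 with h3 | h3
  · obtain ⟨t, ht, ht0, ht1⟩ := hsmall (by omega)
    obtain ⟨κ', hκ'⟩ := hA (t * e) (by rw [map_mul, ht]; linear_combination t * he)
    obtain ⟨θ, hθ⟩ := exists_dot_eq_one hp0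
    have k1 : κ = e * f₁ (M p) p := by
      have := congrArg (fun v => θ ⬝ᵥ v) (hκ p)
      simpa [hp, hθ] using this.symm
    have k2 : κ' = t * e * f₁ (M p) p := by
      have := congrArg (fun v => θ ⬝ᵥ v) (hκ' p)
      simpa [hp, hθ] using this.symm
    have h1 := hκ u₀
    have h2 := hκ' u₀
    rw [hu₀, mul_one] at h1 h2
    rw [mul_smul, h1, k1, k2, smul_smul] at h2
    have h3' := congrArg (fun v => θ ⬝ᵥ v) h2
    simp only [dotProduct_smul, dotProduct_add, smul_eq_mul, hθ, mul_one] at h3'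
    have h4 : t * e * f₁ (M p) p * ((1 - t) * e) = 0 := by linear_combination h3'
    rw [k1]
    rcases mul_eq_zero.1 h4 with h5 | h5
    · rcases mul_eq_zero.1 h5 with h6 | h6
      · exact absurd h6 (mul_ne_zero ht0 he0)
      · rw [h6, mul_zero]
    · exact absurd h5 (mul_ne_zero (sub_ne_zero.2 (Ne.symm ht1)) he0)
  · let L : (Fin a → F) →ₗ[F] F × F :=
      ((dotProductBilin F F) (fVec f₁ p)).prod ((dotProductBilin F F) (fVec f₁ p) ∘ₗ M)
    obtain ⟨u, hu, hu0⟩ := (Submodule.ne_bot_iff _).1 (LinearMap.ker_ne_bot_of_finrank_lt (f := L)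
      (by rw [Module.finrank_prod, Module.finrank_self, Module.finrank_fintype_fun_eq_card, Fintype.card_fin]; omega))
    rw [LinearMap.mem_ker] at hu
    have hu1 : f₁ u p = 0 := by
      have := congrArg Prod.fst hu
      simpa [L, (Unit.sesq hf).fVec_dot] using this
    have hu2 : f₁ (M u) p = 0 := by
      have := congrArg Prod.snd hu
      simpa [L, (Unit.sesq hf).fVec_dot] using this
    have h1 := hκ u
    rw [hu1, hu2, mul_zero, zero_smul, zero_smul, sub_zero, smul_zero, add_zero] at h1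
    exact (smul_eq_zero.1 h1.symm).resolve_right hu0

end scalar

namespace Setting

variable {H : Subgroup (GL (Fin a × Fin b) F)} (S : Setting σ f₁ f₂ H)
include S

/-- A non-scalar element on a line. -/
def HasExtra : Prop :=
  (fun _ => ∃ (w : Fin b → F) (P : (Fin a → F) →ₗ[F] (Fin a → F)),
    w ≠ 0 ∧ f₂ w w = 0 ∧ NonScalar P ∧ eW f₂ P w ∈ H) S

theorem small' (h : a = 2) : ∃ t : F, σ t = t ∧ t ≠ 0 ∧ t ≠ 1 := by
  by_contra hc
  push Not at hc
  exact S.small ⟨h, fun t ht => (eq_or_ne t 0).imp id fun h0 => hc t ht h0⟩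

variable (hno : ¬ S.HasExtra)
include hno

theorem scalar_of_mem {w : Fin b → F} (hw0 : w ≠ 0) (hw : f₂ w w = 0) {P : (Fin a → F) →ₗ[F] (Fin a → F)}
    (h : eW f₂ P w ∈ H) : ∃ μ : F, ∀ u, P u = μ • u :=
  scalar_of_not_nonScalar fun hP => hno ⟨w, P, hw0, hw, hP, h⟩

/-- Commutator of two Siegel-shaped elements. -/
theorem scalar_of_swap {w : Fin b → F} (hw0 : w ≠ 0) (hw : f₂ w w = 0) {g₁ g₂ : GL (Fin a × Fin b) F}
    (hg₁ : g₁ ∈ H) (hg₂ : g₂ ∈ H) {ι₁ ι₂ : (Fin a → F) →ₗ[F] V2 F a b} {ρ₁ ρ₂ : V2 F a b →ₗ[F] (Fin a → F)}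
    (h₁ : ∀ x, (g₁ : M2 F a b) *ᵥ x = x + ι₁ (Cv f₂ w x) + pl w (ρ₁ x))
    (h₂ : ∀ x, (g₂ : M2 F a b) *ᵥ x = x + ι₂ (Cv f₂ w x) + pl w (ρ₂ x))
    (c₁ : ∀ u, Cv f₂ w (ι₁ u) = 0) (c₂ : ∀ u, Cv f₂ w (ι₂ u) = 0)
    (r₁ : ∀ u, ρ₁ (pl w u) = 0) (r₂ : ∀ u, ρ₂ (pl w u) = 0) :
    ∃ μ : F, ∀ u, ρ₁ (ι₂ u) - ρ₂ (ι₁ u) = μ • u := by
  refine S.scalar_of_mem hno hw0 hw (P := ρ₁ ∘ₗ ι₂ - ρ₂ ∘ₗ ι₁) (mem_of_swap hg₁ hg₂ (gl_ext fun x => ?_))
  simp only [gl_mul_mulVec, h₁, h₂, eW_mulVec S.toForms _ hw, map_add, c₁, c₂, r₁, r₂, S.Cv_pl, hw, zero_smul,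
    map_zero, add_zero, LinearMap.sub_apply, LinearMap.comp_apply, map_sub]
  abel

omit hno in
theorem Cv_fix {w : Fin b → F} {t : GL (Fin a × Fin b) F} (ht : t ∈ H)
    (hfix : ∀ u, (t : M2 F a b) *ᵥ pl w u = pl w u) (x : V2 F a b) :
    Cv f₂ w ((t : M2 F a b) *ᵥ x) = Cv f₂ w x :=
  S.eq_of_left fun u => by rw [← S.adj, ← S.adj, ← hfix u, S.iso t ht, hfix u]

omit hno in
theorem fix_inv {w : Fin b → F} {t : GL (Fin a × Fin b) F}
    (hfix : ∀ u, (t : M2 F a b) *ᵥ pl w u = pl w u) (u : Fin a → F) :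
    ((t⁻¹ : GL (Fin a × Fin b) F) : M2 F a b) *ᵥ pl w u = pl w u := by
  conv_lhs => rw [← hfix u, gl_inv_mulVec_mulVec]

/-- An element fixing a line pointwise acts as a scalar tensor on the perpendicular. -/
theorem scalar_quotient {w : Fin b → F} (hw0 : w ≠ 0) (hw : f₂ w w = 0) {t : GL (Fin a × Fin b) F} (ht : t ∈ H)
    (hfix : ∀ u, (t : M2 F a b) *ᵥ pl w u = pl w u) {y z : Fin b → F} (hy : f₂ y w = 0) (hz : f₂ z w = 0) :
    ∃ μ : F, ∀ u, Cv f₂ z ((t : M2 F a b) *ᵥ pl y u) = μ • u := by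
  have hfix' := S.fix_inv hfix
  obtain ⟨c, hc⟩ := Unit.exists_trace S.u₂.ne_refl S.u₂.involutive
    (show σ (- f₂ y y) = - f₂ y y by rw [map_neg, Unit.self_fixed S.u₂])
  obtain ⟨n, hn, hnx⟩ := S.exists_siegel hw hy hc
  have hwy := Unit.eq_zero_comm S.u₂ hy
  have key : ∀ z' : Fin b → F, f₂ z' w = 0 → ∃ μ : F, ∀ u,
      Cv f₂ z' ((t : M2 F a b) *ᵥ pl y u) - Cv f₂ y (((t⁻¹ : GL (Fin a × Fin b) F) : M2 F a b) *ᵥ pl z' u) =
        μ • u := by
    intro z' hz'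
    obtain ⟨c', hc'⟩ := Unit.exists_trace S.u₂.ne_refl S.u₂.involutive
      (show σ (- f₂ z' z') = - f₂ z' z' by rw [map_neg, Unit.self_fixed S.u₂])
    obtain ⟨n', hn', hnx'⟩ := S.exists_siegel hw hz' hc'
    obtain ⟨μ, hμ⟩ := S.scalar_of_swap hno hw0 hw (H.mul_mem (H.mul_mem ht hn) (H.inv_mem ht)) hn'
      (ι₁ := Matrix.mulVecLin (t : M2 F a b) ∘ₗ pl y) (ι₂ := pl z')
      (ρ₁ := c • Cv f₂ w - Cv f₂ y ∘ₗ Matrix.mulVecLin ((t⁻¹ : GL (Fin a × Fin b) F) : M2 F a b))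
      (ρ₂ := c' • Cv f₂ w - Cv f₂ z')
      (fun x => by
        rw [gl_mul_mulVec, gl_mul_mulVec, hnx, mulVec_add, mulVec_add, mulVec_sub, mulVec_smul, hfix, hfix,
          gl_mulVec_inv_mulVec, S.Cv_fix (H.inv_mem ht) hfix']
        simp only [LinearMap.comp_apply, LinearMap.sub_apply, LinearMap.smul_apply, Matrix.mulVecLin_apply,
          map_sub, map_smul])
      (fun x => by simp only [hnx', LinearMap.sub_apply, LinearMap.smul_apply, map_sub, map_smul])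
      (fun u => by simp [S.Cv_fix ht hfix, S.Cv_pl, hy])
      (fun u => by simp [S.Cv_pl, hz'])
      (fun u => by simp [S.Cv_pl, hw, hfix', hwy])
      (fun u => by simp [S.Cv_pl, hw, Unit.eq_zero_comm S.u₂ hz'])
    refine ⟨μ, fun u => ?_⟩
    have e := hμ u
    simp only [LinearMap.comp_apply, LinearMap.sub_apply, LinearMap.smul_apply, Matrix.mulVecLin_apply,
      S.Cv_fix ht hfix, S.Cv_pl, hy, hz', zero_smul, smul_zero, zero_sub, sub_neg_eq_add] at e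
    rw [← e]
    abel
  obtain ⟨l, hl⟩ := Unit.exists_moved S.u₂.ne_refl
  obtain ⟨μ₁, h₁⟩ := key z hz
  obtain ⟨μ₂, h₂⟩ := key (l • z) (by rw [Unit.smul_left S.u₂, hz, mul_zero])
  refine ⟨(l * μ₁ - μ₂) / (l - σ l), fun u => ?_⟩
  have e2 := h₂ u
  rw [S.Cv_smul, pl_smul', mulVec_smul, map_smul] at e2
  have e : (l - σ l) • Cv f₂ z ((t : M2 F a b) *ᵥ pl y u) = (l * μ₁ - μ₂) • u := by
    rw [sub_smul (l * μ₁), mul_smul, ← h₁ u, ← e2]
    module
  rw [← inv_smul_smul₀ (sub_ne_zero.2 (Ne.symm hl)) (Cv f₂ z _), e, smul_smul, inv_mul_eq_div]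

omit hno in
theorem mem_line_of_Cv {w w' : Fin b → F} (hw : f₂ w' w = 1) {x : V2 F a b}
    (h : ∀ z, f₂ z w = 0 → Cv f₂ z x = 0) : x = pl w (Cv f₂ w' x) := by
  refine sub_eq_zero.1 (S.eq_zero_of_Cv fun s => ?_)
  have hs : f₂ (s - f₂ s w • w') w = 0 := by
    rw [Unit.sub_left S.u₂, Unit.smul_left S.u₂, hw, mul_one, sub_self]
  have e := h _ hs
  rw [S.Cv_sub, S.Cv_smul, sub_eq_zero] at e
  rw [map_sub, S.Cv_pl, e, Unit.conj_form S.u₂, sub_self]

/-- An element fixing a line and the quotient of its perpendicular pointwise. -/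
theorem scalar_radical {w w' : Fin b → F} (hw0 : w ≠ 0) (hw : f₂ w w = 0) (hw' : f₂ w' w = 1)
    {t : GL (Fin a × Fin b) F} (ht : t ∈ H) (hfix : ∀ u, (t : M2 F a b) *ᵥ pl w u = pl w u)
    (hquot : ∀ y z, f₂ y w = 0 → f₂ z w = 0 → ∀ u, Cv f₂ z ((t : M2 F a b) *ᵥ pl y u) = f₂ y z • u)
    {z : Fin b → F} (hz : f₂ z w = 0) :
    (∃ μ : F, ∀ u, Cv f₂ w' ((t : M2 F a b) *ᵥ pl z u - pl z u) = μ • u) ∧
      ∃ μ : F, ∀ u, Cv f₂ z ((t : M2 F a b) *ᵥ pl w' u - pl w' u) = μ • u := by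
  set D : V2 F a b →ₗ[F] V2 F a b := Matrix.mulVecLin (t : M2 F a b) - LinearMap.id with hD
  have hDx : ∀ x, D x = (t : M2 F a b) *ᵥ x - x := fun x => rfl
  set E : V2 F a b →ₗ[F] V2 F a b := D ∘ₗ (LinearMap.id - pl w' ∘ₗ Cv f₂ w) with hE
  have hEz : ∀ s, f₂ s w = 0 → ∀ x, Cv f₂ s (E x) = 0 := fun s hs x =>
    LinearMap.congr_fun (ext_pl (f := Cv f₂ s ∘ₗ E) (g := 0) fun u r => by
      have e1 : (LinearMap.id - pl w' ∘ₗ Cv f₂ w : V2 F a b →ₗ[F] V2 F a b) (pl r u) =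
          pl (r - f₂ r w • w') u := by
        simp [S.Cv_pl, pl_sub', pl_smul']
      have hr : f₂ (r - f₂ r w • w') w = 0 := by
        rw [Unit.sub_left S.u₂, Unit.smul_left S.u₂, hw', mul_one, sub_self]
      rw [LinearMap.comp_apply, hE, LinearMap.comp_apply, e1, hDx, map_sub, hquot _ _ hr hs, S.Cv_pl, sub_self]
      rfl) x
  have key : ∀ z' : Fin b → F, f₂ z' w = 0 → ∃ μ : F, ∀ u,
      Cv f₂ w' (D (pl z' u)) + Cv f₂ z' (D (pl w' u)) = μ • u := by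
    intro z' hz'
    obtain ⟨c', hc'⟩ := Unit.exists_trace S.u₂.ne_refl S.u₂.involutive
      (show σ (- f₂ z' z') = - f₂ z' z' by rw [map_neg, Unit.self_fixed S.u₂])
    obtain ⟨n', hn', hnx'⟩ := S.exists_siegel hw hz' hc'
    obtain ⟨μ, hμ⟩ := S.scalar_of_swap hno hw0 hw ht hn'
      (ι₁ := D ∘ₗ pl w') (ι₂ := pl z') (ρ₁ := Cv f₂ w' ∘ₗ E) (ρ₂ := c' • Cv f₂ w - Cv f₂ z')
      (fun x => by
        rw [LinearMap.comp_apply (Cv f₂ w'), ← S.mem_line_of_Cv hw' (fun s hs => hEz s hs x), hE]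
        simp only [LinearMap.comp_apply, LinearMap.sub_apply, LinearMap.id_apply, map_sub, hDx, mulVec_sub]
        abel)
      (fun x => by simp only [hnx', LinearMap.sub_apply, LinearMap.smul_apply, map_sub, map_smul])
      (fun u => by
        rw [LinearMap.comp_apply, hDx, map_sub, S.Cv_fix ht hfix, sub_self])
      (fun u => by simp [S.Cv_pl, hz'])
      (fun u => by
        simp only [hE, LinearMap.comp_apply, LinearMap.sub_apply, LinearMap.id_apply, S.Cv_pl, hw, zero_smul,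
          map_zero, sub_zero, hDx, hfix, sub_self])
      (fun u => by simp [S.Cv_pl, hw, Unit.eq_zero_comm S.u₂ hz'])
    refine ⟨μ, fun u => ?_⟩
    have e := hμ u
    have h0 : Cv f₂ w (D (pl w' u)) = 0 := by rw [hDx, map_sub, S.Cv_fix ht hfix, sub_self]
    have hEp : E (pl z' u) = D (pl z' u) := by simp [hE, S.Cv_pl, hz']
    simp only [LinearMap.comp_apply, LinearMap.sub_apply, LinearMap.smul_apply, h0, hEp, smul_zero, zero_sub,
      sub_neg_eq_add] at e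
    exact e
  obtain ⟨l, hl⟩ := Unit.exists_moved S.u₂.ne_refl
  obtain ⟨μ₁, h₁⟩ := key z hz
  obtain ⟨μ₂, h₂⟩ := key (l • z) (by rw [Unit.smul_left S.u₂, hz, mul_zero])
  have hne : l - σ l ≠ 0 := sub_ne_zero.2 (Ne.symm hl)
  have e : ∀ u, (l - σ l) • Cv f₂ w' (D (pl z u)) = (μ₂ - σ l * μ₁) • u ∧
      (l - σ l) • Cv f₂ z (D (pl w' u)) = (l * μ₁ - μ₂) • u := fun u => by
    have e2 := h₂ u
    rw [S.Cv_smul, pl_smul', map_smul, map_smul] at e2
    constructor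
    · rw [sub_smul μ₂, mul_smul (σ l), ← h₁ u, ← e2]; module
    · rw [sub_smul (l * μ₁), mul_smul l, ← h₁ u, ← e2]; module
  refine ⟨⟨(μ₂ - σ l * μ₁) / (l - σ l), fun u => ?_⟩, ⟨(l * μ₁ - μ₂) / (l - σ l), fun u => ?_⟩⟩
  · rw [← hDx, ← inv_smul_smul₀ hne (Cv f₂ w' _), (e u).1, smul_smul, inv_mul_eq_div]
  · rw [← hDx, ← inv_smul_smul₀ hne (Cv f₂ z _), (e u).2, smul_smul, inv_mul_eq_div]

end Setting

end CfsgLib.GeomClasses.UnitTensor
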