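import Cfsg.Agent.Lib.GeomClasses.UnitTensor.Line
import Cfsg.Agent.Lib.GeomClasses.UnitTensor.Full

/-!
The tensor product of a unitary plane and a unitary three-space: the three-spaces `p ⊗ W`, elements which fix a
line or a three-space.
-/

set_option autoImplicit false
set_option linter.unusedSectionVars false
set_option linter.unusedSimpArgs false

namespace CfsgLib.GeomClasses.UnitTensor

open Matrix Module TensorMax
open scoped Kronecker

variable {F : Type*} [Field F] [Fintype F] {a b : ℕ} {σ : F ≃+* F}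
  {f₁ : (Fin a → F) → (Fin a → F) → F} {f₂ : (Fin b → F) → (Fin b → F) → F}

attribute [-simp] Matrix.coe_units_inv

/-- A hyperbolic pair of the left factor. -/
structure Pair (f₁ : (Fin a → F) → (Fin a → F) → F) (p p' : Fin a → F) : Prop where
  pp : f₁ p p = 0
  p'p' : f₁ p' p' = 0
  pp' : f₁ p p' = 1
  p'p : f₁ p' p = 1

theorem Pair.symm {p p' : Fin a → F} (P : Pair f₁ p p') : Pair f₁ p' p := ⟨P.p'p', P.pp, P.p'p, P.pp'⟩

/-- A basis of the right factor. -/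
structure Frame (f₂ : (Fin b → F) → (Fin b → F) → F) (w w' z : Fin b → F) : Prop where
  ww : f₂ w w = 0
  w'w' : f₂ w' w' = 0
  ww' : f₂ w w' = 1
  w'w : f₂ w' w = 1
  zw : f₂ z w = 0
  zw' : f₂ z w' = 0
  wz : f₂ w z = 0
  w'z : f₂ w' z = 0
  zz : f₂ z z ≠ 0

/-- The coefficient of the partner of `q`. -/
def E (f₁ : (Fin a → F) → (Fin a → F) → F) (q : Fin a → F) : V2 F a b →ₗ[F] (Fin b → F) := D (fVec f₁ q)

/-- An element fixing `p ⊗ W` pointwise. -/
noncomputable def eU (f₁ : (Fin a → F) → (Fin a → F) → F) (M : (Fin b → F) →ₗ[F] (Fin b → F)) (p : Fin a → F) :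
    GL (Fin a × Fin b) F := el (pr p ∘ₗ M ∘ₗ E f₁ p)

namespace Forms

variable (hF : Forms σ f₁ f₂)
include hF

theorem E_pl (q : Fin a → F) (v : Fin b → F) (u : Fin a → F) : E f₁ q (pl v u) = f₁ u q • v := by
  rw [E, D_pl, (Unit.sesq hF.u₁).fVec_dot]

theorem f₂_E (q : Fin a → F) (x : V2 F a b) (z : Fin b → F) : f₂ (E f₁ q x) z = f₁ (Cv f₂ z x) q := by
  rw [E, hF.f₂_D, (Unit.sesq hF.u₁).fVec_dot]

theorem hV_E (q : Fin a → F) (v : Fin b → F) (x : V2 F a b) : hV σ f₁ f₂ (pl v q) x = f₂ v (E f₁ q x) := by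
  rw [hF.adj', ← Unit.conj_form hF.u₁, ← hF.f₂_E, Unit.conj_form hF.u₂]

theorem hV_E' (x : V2 F a b) (v : Fin b → F) (q : Fin a → F) : hV σ f₁ f₂ x (pl v q) = f₂ (E f₁ q x) v := by
  rw [← hF.conj, hF.hV_E, Unit.conj_form hF.u₂]

theorem E_rgt (q : Fin a → F) (B : GL (Fin b) F) (x : V2 F a b) :
    E f₁ q (((rgt B : GL (Fin a × Fin b) F) : M2 F a b) *ᵥ x) =
      (B : Matrix (Fin b) (Fin b) F) *ᵥ E f₁ q x :=
  LinearMap.congr_fun (ext_pl (f := E f₁ q ∘ₗ Matrix.mulVecLin ((rgt B : GL (Fin a × Fin b) F) : M2 F a b))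
    (g := Matrix.mulVecLin (B : Matrix (Fin b) (Fin b) F) ∘ₗ E f₁ q) fun u v => by
      simp [rgt_pl, hF.E_pl, mulVec_smul]) x

theorem exists_pair {p : Fin a → F} (hp0 : p ≠ 0) (hp : f₁ p p = 0) : ∃ p', Pair f₁ p p' := by
  have hs : Forms σ f₂ f₁ := ⟨hF.u₂, hF.u₁⟩
  obtain ⟨p', hp', hpp⟩ := hs.exists_partner hp0 hp
  exact ⟨p', hp, hp', by rw [← Unit.conj_form hF.u₁, hpp, map_one], hpp⟩

theorem lftT_mulVec {p : Fin a → F} (hp : f₁ p p = 0) (c : F) (x : V2 F a b) :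
    ((lft (formTv f₁ p c) : GL (Fin a × Fin b) F) : M2 F a b) *ᵥ x = x + c • pl (E f₁ p x) p :=
  LinearMap.congr_fun (ext_pl (f := Matrix.mulVecLin ((lft (formTv f₁ p c) : GL (Fin a × Fin b) F) : M2 F a b))
    (g := LinearMap.id + c • (pr p ∘ₗ E f₁ p)) fun u v => by
      simp only [Matrix.mulVecLin_apply, LinearMap.add_apply, LinearMap.id_apply, LinearMap.smul_apply,
        LinearMap.comp_apply, lft_pl, Unit.formTv_mulVec hF.u₁ hp, map_add, map_smul, hF.E_pl, pr_eq, pl_smul',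
        smul_smul]) x |>.trans (by simp [pr_eq])

theorem eU_sq {p : Fin a → F} (hp : f₁ p p = 0) (M : (Fin b → F) →ₗ[F] (Fin b → F)) (x : V2 F a b) :
    (pr p ∘ₗ M ∘ₗ E f₁ p) ((pr p ∘ₗ M ∘ₗ E f₁ p) x) = 0 := by
  simp [pr_eq, hF.E_pl, hp, pl_zero']

theorem eU_mulVec {p : Fin a → F} (hp : f₁ p p = 0) (M : (Fin b → F) →ₗ[F] (Fin b → F)) (x : V2 F a b) :
    (eU f₁ M p : M2 F a b) *ᵥ x = x + pl (M (E f₁ p x)) p := by
  rw [eU, el_mulVec (hF.eU_sq hp M)]
  rfl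

variable {p p' : Fin a → F} (P : Pair f₁ p p') (ha2 : a = 2)
include P ha2

theorem span_pair (u : Fin a → F) : u = f₁ u p' • p + f₁ u p • p' := by
  let L : F × F →ₗ[F] (Fin a → F) :=
    (LinearMap.fst F F F).smulRight p + (LinearMap.snd F F F).smulRight p'
  have hL : ∀ c : F × F, L c = c.1 • p + c.2 • p' := fun c => rfl
  have h1 : ∀ c : F × F, f₁ (L c) p' = c.1 ∧ f₁ (L c) p = c.2 := fun c => by
    simp [hL, Unit.add_left hF.u₁, Unit.smul_left hF.u₁, P.pp, P.p'p', P.pp', P.p'p]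
  have hinj : Function.Injective L := fun c d h => by
    obtain ⟨c1, c2⟩ := h1 c
    obtain ⟨d1, d2⟩ := h1 d
    exact Prod.ext (by rw [← c1, h, d1]) (by rw [← c2, h, d2])
  obtain ⟨c, rfl⟩ := (LinearMap.injective_iff_surjective_of_finrank_eq_finrank
    (by rw [Module.finrank_prod, Module.finrank_self, Module.finrank_fintype_fun_eq_card, Fintype.card_fin, ha2])).1
      hinj u
  rw [(h1 c).1, (h1 c).2, hL]

theorem split (x : V2 F a b) : x = pl (E f₁ p' x) p + pl (E f₁ p x) p' :=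
  LinearMap.congr_fun (ext_pl (f := LinearMap.id) (g := pr p ∘ₗ E f₁ p' + pr p' ∘ₗ E f₁ p) fun u v => by
    simp only [LinearMap.id_apply, LinearMap.add_apply, LinearMap.comp_apply, pr_eq, hF.E_pl, pl_smul']
    conv_lhs => rw [hF.span_pair P ha2 u]
    rw [map_add, map_smul, map_smul]) x

theorem hV_split (x x' : V2 F a b) :
    hV σ f₁ f₂ x x' = f₂ (E f₁ p' x) (E f₁ p x') + f₂ (E f₁ p x) (E f₁ p' x') := by
  conv_lhs => rw [hF.split P ha2 x]
  rw [(hV_sesq f₁ f₂).add_left, hF.hV_E, hF.hV_E]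

theorem eq_of_E {x x' : V2 F a b} (h : E f₁ p x = E f₁ p x') (h' : E f₁ p' x = E f₁ p' x') : x = x' := by
  rw [hF.split P ha2 x, hF.split P ha2 x', h, h']

end Forms

namespace Forms

variable (hF : Forms σ f₁ f₂) (hb3 : b = 3)
include hF hb3

theorem exists_frame {w : Fin b → F} (hw0 : w ≠ 0) (hw : f₂ w w = 0) :
    ∃ w' z, Frame f₂ w w' z := by
  classical
  obtain ⟨w', hw'w', hw'⟩ := hF.exists_partner hw0 hw
  have hww' : f₂ w w' = 1 := by rw [← Unit.conj_form hF.u₂, hw', map_one]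
  obtain ⟨z, hzm, hz0⟩ := Submodule.exists_mem_ne_zero_of_ne_bot
    (p := Unit.perp hF.u₂ (Submodule.span F {w, w'})) (fun h => by
      have h1 := Unit.finrank_perp hF.u₂ (Submodule.span F {w, w'})
      have h2 := finrank_span_finset_le_card (R := F) ({w, w'} : Finset (Fin b → F))
      rw [Finset.coe_pair, Set.finrank] at h2
      have h4 : Finset.card ({w, w'} : Finset (Fin b → F)) ≤ 2 := Finset.card_le_two
      rw [h, finrank_bot, Fintype.card_fin] at h1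
      omega)
  rw [Unit.mem_perp hF.u₂] at hzm
  have hzw := hzm w (Submodule.subset_span (by simp))
  have hzw' := hzm w' (Submodule.subset_span (by simp))
  refine ⟨w', z, hw, hw'w', hww', hw', hzw, hzw', Unit.eq_zero_comm hF.u₂ hzw, Unit.eq_zero_comm hF.u₂ hzw',
    fun hzz => ?_⟩
  let L : F × F × F →ₗ[F] (Fin b → F) := (LinearMap.fst F F (F × F)).smulRight w +
    (LinearMap.fst F F F ∘ₗ LinearMap.snd F F (F × F)).smulRight w' +
    (LinearMap.snd F F F ∘ₗ LinearMap.snd F F (F × F)).smulRight z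
  have hL : ∀ c : F × F × F, L c = c.1 • w + c.2.1 • w' + c.2.2 • z := fun c => rfl
  have hinj : Function.Injective L := by
    rw [← LinearMap.ker_eq_bot, Submodule.eq_bot_iff]
    intro c hc
    rw [LinearMap.mem_ker, hL] at hc
    have e1 := congrArg (fun v => f₂ v w') hc
    have e2 := congrArg (fun v => f₂ v w) hc
    simp only [Unit.add_left hF.u₂, Unit.smul_left hF.u₂, Unit.zero_left hF.u₂, hw, hw', hww', hw'w', hzw, hzw',
      mul_zero, mul_one, add_zero, zero_add] at e1 e2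
    rw [e1, e2, zero_smul, zero_smul, zero_add, zero_add, smul_eq_zero] at hc
    exact Prod.ext e1 (Prod.ext e2 (hc.resolve_right hz0))
  have hsur := (LinearMap.injective_iff_surjective_of_finrank_eq_finrank
    (by rw [Module.finrank_prod, Module.finrank_prod, Module.finrank_self, Module.finrank_fintype_fun_eq_card,
      Fintype.card_fin, hb3])).1 hinj
  obtain ⟨y, hy⟩ := (hF.u₂.nondegenerate z hz0).2
  obtain ⟨c, rfl⟩ := hsur y
  refine hy ?_
  rw [hL, Unit.add_right hF.u₂, Unit.add_right hF.u₂, Unit.smul_right hF.u₂, Unit.smul_right hF.u₂,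
    Unit.smul_right hF.u₂, hzw, hzw', hzz]
  simp

variable {w w' z : Fin b → F} (Fr : Frame f₂ w w' z)
include Fr

theorem span_frame (v : Fin b → F) : v = f₂ v w' • w + f₂ v w • w' + (f₂ v z / f₂ z z) • z := by
  let L : F × F × F →ₗ[F] (Fin b → F) := (LinearMap.fst F F (F × F)).smulRight w +
    (LinearMap.fst F F F ∘ₗ LinearMap.snd F F (F × F)).smulRight w' +
    (LinearMap.snd F F F ∘ₗ LinearMap.snd F F (F × F)).smulRight z
  have hL : ∀ c : F × F × F, L c = c.1 • w + c.2.1 • w' + c.2.2 • z := fun c => rfl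
  have h1 : ∀ c : F × F × F, f₂ (L c) w' = c.1 ∧ f₂ (L c) w = c.2.1 ∧ f₂ (L c) z = c.2.2 * f₂ z z := fun c => by
    simp [hL, Unit.add_left hF.u₂, Unit.smul_left hF.u₂, Fr.ww, Fr.w'w', Fr.ww', Fr.w'w, Fr.zw, Fr.zw', Fr.wz,
      Fr.w'z]
  have hinj : Function.Injective L := fun c d h => by
    obtain ⟨c1, c2, c3⟩ := h1 c
    obtain ⟨d1, d2, d3⟩ := h1 d
    exact Prod.ext (by rw [← c1, h, d1]) (Prod.ext (by rw [← c2, h, d2])
      (mul_right_cancel₀ Fr.zz (by rw [← c3, h, d3])))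
  obtain ⟨c, rfl⟩ := (LinearMap.injective_iff_surjective_of_finrank_eq_finrank
    (by rw [Module.finrank_prod, Module.finrank_prod, Module.finrank_self, Module.finrank_fintype_fun_eq_card,
      Fintype.card_fin, hb3])).1 hinj v
  obtain ⟨c1, c2, c3⟩ := h1 c
  rw [c1, c2, c3, mul_div_cancel_right₀ _ Fr.zz, hL]

theorem decomp_frame (x : V2 F a b) :
    x = pl w (Cv f₂ w' x) + pl w' (Cv f₂ w x) + (f₂ z z)⁻¹ • pl z (Cv f₂ z x) :=
  LinearMap.congr_fun (ext_pl (f := LinearMap.id)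
    (g := pl w ∘ₗ Cv f₂ w' + pl w' ∘ₗ Cv f₂ w + (f₂ z z)⁻¹ • (pl z ∘ₗ Cv f₂ z)) fun u v => by
    simp only [LinearMap.id_apply, LinearMap.add_apply, LinearMap.smul_apply, LinearMap.comp_apply, hF.Cv_pl,
      map_smul, smul_smul]
    conv_lhs => rw [hF.span_frame hb3 Fr v]
    rw [pl_add', pl_add', pl_smul', pl_smul', pl_smul', div_eq_inv_mul]) x

theorem ext_frame {M : Type*} [AddCommMonoid M] [Module F M] {f g : V2 F a b →ₗ[F] M}
    (h1 : ∀ u, f (pl w u) = g (pl w u)) (h2 : ∀ u, f (pl w' u) = g (pl w' u))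
    (h3 : ∀ u, f (pl z u) = g (pl z u)) : f = g :=
  LinearMap.ext fun x => by
    rw [hF.decomp_frame hb3 Fr x]
    simp only [map_add, map_smul, h1, h2, h3]

end Forms

namespace Setting

variable {H : Subgroup (GL (Fin a × Fin b) F)} (S : Setting σ f₁ f₂ H) (hno : ¬ S.HasExtra) (hb3 : b = 3)
include S hno hb3

/-- A unipotent element acting on a line as a transvection of the left factor is a tensor. -/
theorem line_fix {p : Fin a → F} (hp0 : p ≠ 0) (hp : f₁ p p = 0) {w w' z : Fin b → F} (Fr : Frame f₂ w w' z)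
    {t : GL (Fin a × Fin b) F} (ht : t ∈ H) {α : F}
    (hw : ∀ u, (t : M2 F a b) *ᵥ pl w u = pl w (u + (α * f₁ u p) • p))
    (hsq : ∀ x, (t : M2 F a b) *ᵥ ((t : M2 F a b) *ᵥ x - x) = (t : M2 F a b) *ᵥ x - x) :
    α + σ α = 0 ∧ ∃ (y : Fin b → F) (c : F), f₂ y w = 0 ∧ c + σ c = - f₂ y y ∧
      ∀ u v, (t : M2 F a b) *ᵥ pl v u = pl ((UnitOrth.root f₂ w y c : Matrix (Fin b) (Fin b) F) *ᵥ v)
        ((formTv f₁ p α : Matrix (Fin a) (Fin a) F) *ᵥ u) := by
  classical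
  have hw0 : w ≠ 0 := fun h => by have := Fr.ww'; rw [h, Unit.zero_left S.u₂] at this; exact zero_ne_one this
  obtain ⟨u₁, hu₁⟩ : ∃ u, f₁ u p = 1 := by
    obtain ⟨y, hy⟩ := (S.u₁.nondegenerate p hp0).1
    exact ⟨(f₁ y p)⁻¹ • y, by rw [Unit.smul_left S.u₁, inv_mul_cancel₀ hy]⟩
  -- the scalar is skew
  have hα : α + σ α = 0 := by
    obtain ⟨δ, hδ0, hδ⟩ := Unit.exists_skew S.u₁.ne_refl S.u₁.involutive
    have hCw : ∀ x, Cv f₂ w (((t⁻¹ : GL (Fin a × Fin b) F) : M2 F a b) *ᵥ x) =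
        Cv f₂ w x + (σ α * f₁ (Cv f₂ w x) p) • p := fun x => S.eq_of_left fun u => by
      rw [← S.adj, ← S.iso t ht, gl_mulVec_inv_mulVec, hw, S.adj, Unit.add_left S.u₁, Unit.add_right S.u₁,
        Unit.smul_left S.u₁, Unit.smul_right S.u₁, map_mul, Unit.conj_form S.u₁]
      ring
    set Pm : (Fin a → F) →ₗ[F] (Fin a → F) := δ • (LinearMap.id + (α + σ α) • rk f₁ p p) with hPm
    have h1 : t * eW f₂ (δ • LinearMap.id) w * t⁻¹ = eW f₂ Pm w := gl_ext fun x => by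
      rw [gl_mul_mulVec, gl_mul_mulVec, eW_mulVec S.toForms _ Fr.ww, eW_mulVec S.toForms _ Fr.ww, mulVec_add,
        gl_mulVec_inv_mulVec, hCw, hw, hPm]
      simp only [LinearMap.smul_apply, LinearMap.id_apply, LinearMap.add_apply, rk_apply S.u₁, Unit.add_left S.u₁,
        Unit.smul_left S.u₁, hp, mul_zero, add_zero, map_add, map_smul]
      module
    obtain ⟨μ, hμ⟩ := S.scalar_of_mem hno hw0 Fr.ww (P := Pm)
      (h1 ▸ H.mul_mem (H.mul_mem ht (S.tW_mem Fr.ww hδ)) (H.inv_mem ht))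
    have hδμ : δ = μ := by
      have := hμ p
      rw [hPm, LinearMap.smul_apply, LinearMap.add_apply, LinearMap.smul_apply, rk_apply S.u₁, hp,
        LinearMap.id_apply, zero_smul, smul_zero, add_zero] at this
      exact sub_eq_zero.1 ((smul_eq_zero.1 (by rw [sub_smul, this, sub_self] : (δ - μ) • p = 0)).resolve_right hp0)
    have h2 := hμ u₁
    rw [hPm, LinearMap.smul_apply, LinearMap.add_apply, LinearMap.smul_apply, rk_apply S.u₁, hu₁,
      LinearMap.id_apply, one_smul, ← hδμ, smul_add, add_eq_left, smul_eq_zero, smul_eq_zero] at h2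
    exact (h2.resolve_left hδ0).resolve_right hp0
  refine ⟨hα, ?_⟩
  set A := formTv f₁ p α with hA
  have hAH : lft A ∈ H := S.left A (Unit.formTv_isometry S.u₁ hp hα)
    (mem_specialLinear.1 (formTv_mem_specialLinear f₁ p α))
  set t' := (lft A : GL (Fin a × Fin b) F)⁻¹ * t with ht'def
  have ht' : t' ∈ H := H.mul_mem (H.inv_mem hAH) ht
  have htt' : t = lft A * t' := by rw [ht'def, mul_inv_cancel_left]
  have hfix : ∀ u, (t' : M2 F a b) *ᵥ pl w u = pl w u := fun u => by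
    rw [ht'def, gl_mul_mulVec, hw, ← Unit.formTv_mulVec S.u₁ hp, ← lft_pl, gl_inv_mulVec_mulVec]
  have hCw : ∀ x, Cv f₂ w ((t : M2 F a b) *ᵥ x) = (A : Matrix (Fin a) (Fin a) F) *ᵥ Cv f₂ w x := fun x => by
    rw [htt', gl_mul_mulVec, Cv_lft, S.Cv_fix ht' hfix]
  have hAp : (A : Matrix (Fin a) (Fin a) F) *ᵥ p = p := by
    rw [hA, Unit.formTv_mulVec S.u₁ hp, hp, mul_zero, zero_smul, add_zero]
  set η := f₂ z z with hη
  -- the quotient
  obtain ⟨μ, hμ⟩ := S.scalar_quotient hno hw0 Fr.ww ht' hfix Fr.zw Fr.zw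
  have hμη : μ = η := by
    have h1 : Cv f₂ z ((t : M2 F a b) *ᵥ pl z p) = μ • p := by
      rw [htt', gl_mul_mulVec, Cv_lft, hμ, mulVec_smul, hAp]
    set d := (t : M2 F a b) *ᵥ pl z p - pl z p with hd
    have hdw : Cv f₂ w d = 0 := by rw [hd, map_sub, hCw, S.Cv_pl, Fr.zw]; simp
    have hdz : Cv f₂ z d = (μ - η) • p := by rw [hd, map_sub, h1, S.Cv_pl, sub_smul]
    have h2 : (t : M2 F a b) *ᵥ d = d := hsq _
    have h3 := congrArg (Cv f₂ z) h2
    conv_lhs at h3 => rw [S.toForms.decomp_frame hb3 Fr d]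
    rw [hdw, hdz, map_zero, add_zero, mulVec_add, mulVec_smul, hw, map_smul, mulVec_smul, map_add, map_smul,
      map_smul, h1, S.Cv_pl, Fr.wz, zero_smul, zero_add, smul_smul, smul_smul] at h3
    have h4 : (η⁻¹ * ((μ - η) * μ) - (μ - η)) • p = 0 := by
      rw [sub_smul, sub_eq_zero]
      rw [← h3]
      congr 1
      ring
    have h5 := (smul_eq_zero.1 h4).resolve_right hp0
    rw [sub_eq_zero, inv_mul_eq_iff_eq_mul₀ Fr.zz] at h5
    exact sub_eq_zero.1 (mul_self_eq_zero.1 (show (μ - η) * (μ - η) = 0 by linear_combination h5))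
  have hzs : ∀ s, f₂ s w = 0 → ∀ x, Cv f₂ s x =
      σ (f₂ s w') • Cv f₂ w x + σ (f₂ s z / η) • Cv f₂ z x := fun s hs x => by
    conv_lhs => rw [S.toForms.span_frame hb3 Fr s, hs, zero_smul, add_zero, S.Cv_add, S.Cv_smul, S.Cv_smul]
  have hquot : ∀ y s, f₂ y w = 0 → f₂ s w = 0 → ∀ u, Cv f₂ s ((t' : M2 F a b) *ᵥ pl y u) = f₂ y s • u := by
    intro y s hy hs u
    rw [hzs s hs, S.Cv_fix ht' hfix, S.Cv_pl, hy, zero_smul, smul_zero, zero_add]
    conv_lhs => rw [S.toForms.span_frame hb3 Fr y, hy, zero_smul, add_zero, pl_add', pl_smul', pl_smul', mulVec_add,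
      mulVec_smul, mulVec_smul, hfix, map_add, map_smul, map_smul, hμ, hμη, S.Cv_pl, Fr.wz, zero_smul, smul_zero,
      zero_add, smul_smul, smul_smul]
    congr 1
    conv_rhs => rw [S.toForms.span_frame hb3 Fr s, hs, zero_smul, add_zero, Unit.add_right S.u₂,
      Unit.smul_right S.u₂, Unit.smul_right S.u₂, hy, mul_zero, zero_add]
    rw [← hη]
    have hη0 : η ≠ 0 := Fr.zz
    field_simp
  obtain ⟨⟨μ₁, hμ₁⟩, μ₂, hμ₂⟩ := S.scalar_radical hno hw0 Fr.ww Fr.w'w ht' hfix hquot Fr.zw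
  have hzu : ∀ u, (t' : M2 F a b) *ᵥ pl z u = pl z u + μ₁ • pl w u := fun u => by
    rw [← sub_eq_iff_eq_add', S.toForms.decomp_frame hb3 Fr ((t' : M2 F a b) *ᵥ pl z u - pl z u), hμ₁,
      map_sub (Cv f₂ w), map_sub (Cv f₂ z), S.Cv_fix ht' hfix, hquot z z Fr.zw Fr.zw]
    simp only [S.Cv_pl, sub_self, map_zero, smul_zero, add_zero, map_smul]
  set Φ : (Fin a → F) →ₗ[F] (Fin a → F) :=
    Cv f₂ w' ∘ₗ (Matrix.mulVecLin (t' : M2 F a b) ∘ₗ pl w' - pl w') with hΦdef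
  set y := (μ₂ / η) • z with hy
  have hyw : f₂ y w = 0 := by rw [hy, Unit.smul_left S.u₂, Fr.zw, mul_zero]
  have hwy : f₂ w y = 0 := Unit.eq_zero_comm S.u₂ hyw
  have hw'u : ∀ u, (t' : M2 F a b) *ᵥ pl w' u = pl w' u + pl y u + pl w (Φ u) := fun u => by
    rw [add_assoc, ← sub_eq_iff_eq_add', S.toForms.decomp_frame hb3 Fr ((t' : M2 F a b) *ᵥ pl w' u - pl w' u),
      hμ₂, map_sub (Cv f₂ w), S.Cv_fix ht' hfix, sub_self, map_zero, add_zero, map_smul, smul_smul, hy, pl_smul',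
      inv_mul_eq_div, add_comm]
    rfl
  have hμ₁₂ : μ₁ + σ (μ₂ / η) * η = 0 := by
    obtain ⟨v, hv⟩ := (S.u₁.nondegenerate p hp0).2
    have h1 := S.iso t' ht' (pl z p) (pl w' v)
    rw [hzu, hw'u, hy, pl_smul', (hV_sesq f₁ f₂).add_left, (hV_sesq f₁ f₂).add_right, (hV_sesq f₁ f₂).add_right,
      (hV_sesq f₁ f₂).add_right, (hV_sesq f₁ f₂).add_right, (hV_sesq f₁ f₂).smul_left, (hV_sesq f₁ f₂).smul_left,
      (hV_sesq f₁ f₂).smul_left, (hV_sesq f₁ f₂).smul_right, (hV_sesq f₁ f₂).smul_right] at h1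
    simp only [hV_pl S.toForms, Fr.zw, Fr.zw', Fr.wz, Fr.ww, Fr.ww', ← hη, RingEquiv.coe_toRingHom,
      RingHom.coe_coe] at h1
    have h2 : f₁ p v * (μ₁ + σ (μ₂ / η) * η) = 0 := by linear_combination h1
    exact (mul_eq_zero.1 h2).resolve_left hv
  obtain ⟨c₀, hc₀⟩ := Unit.exists_trace S.u₂.ne_refl S.u₂.involutive
    (show σ (- f₂ y y) = - f₂ y y by rw [map_neg, Unit.self_fixed S.u₂])
  clear_value y
  set r₀ := UnitOrth.root f₂ w y c₀ with hr₀
  have hr₀H : rgt r₀ ∈ H := S.right r₀ (UnitOrth.root_isometry S.u₂ Fr.ww hwy hc₀)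
    (mem_specialLinear.1 (UnitCentres.root_det S.u₂))
  have hrv : ∀ (c : F) (v : Fin b → F) (u : Fin a → F), pl ((UnitOrth.root f₂ w y c : Matrix (Fin b) (Fin b) F) *ᵥ v) u =
      pl v u + f₂ v w • pl y u + (c * f₂ v w - f₂ v y) • pl w u := fun c v u => by
    rw [UnitOrth.root_mulVec S.u₂ Fr.ww hwy, pl_add', pl_add', pl_smul', pl_smul']
  have hmain : rgt r₀ * eW f₂ (Φ - c₀ • LinearMap.id) w = t' := gl_ext fun x => by
    refine LinearMap.congr_fun (S.toForms.ext_frame hb3 Fr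
      (f := Matrix.mulVecLin ((rgt r₀ * eW f₂ (Φ - c₀ • LinearMap.id) w : GL (Fin a × Fin b) F) : M2 F a b))
      (g := Matrix.mulVecLin (t' : M2 F a b)) (fun u => ?_) (fun u => ?_) fun u => ?_) x <;>
    rw [Matrix.mulVecLin_apply, Matrix.mulVecLin_apply, gl_mul_mulVec, eW_mulVec S.toForms _ Fr.ww, mulVec_add,
      rgt_pl, rgt_pl, hr₀, hrv, hrv]
    · rw [hfix, Fr.ww, hwy, S.Cv_pl, Fr.ww]
      simp
    · rw [hw'u, Fr.w'w, S.Cv_pl, Fr.w'w, Fr.ww, hwy, hy, Unit.smul_right S.u₂, Fr.w'z, LinearMap.sub_apply,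
        LinearMap.smul_apply, LinearMap.id_apply]
      simp only [map_sub, map_smul, one_smul, mul_zero, mul_one, sub_zero, zero_smul]
      module
    · rw [hzu, Fr.zw, S.Cv_pl, Fr.zw, Fr.ww, hwy, hy, Unit.smul_right S.u₂, ← hη,
        show μ₁ = -(σ (μ₂ / η) * η) from eq_neg_of_add_eq_zero_left hμ₁₂]
      simp
  obtain ⟨lam, hlam⟩ := S.scalar_of_mem hno hw0 Fr.ww (P := Φ - c₀ • LinearMap.id) (by
    have : eW f₂ (Φ - c₀ • LinearMap.id) w = (rgt r₀)⁻¹ * t' := by rw [← hmain, inv_mul_cancel_left]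
    rw [this]
    exact H.mul_mem (H.inv_mem hr₀H) ht')
  have hΦ : ∀ u, Φ u = (lam + c₀) • u := fun u => by
    have := hlam u
    rw [LinearMap.sub_apply, LinearMap.smul_apply, LinearMap.id_apply, sub_eq_iff_eq_add] at this
    rw [this, add_smul]
  refine ⟨y, lam + c₀, hyw, ?_, fun u v => ?_⟩
  · obtain ⟨u, hu⟩ := (S.u₁.nondegenerate p hp0).2
    have h1 := S.iso t' ht' (pl w' p) (pl w' u)
    rw [hw'u, hw'u, hΦ, hΦ] at h1
    simp only [(hV_sesq f₁ f₂).add_left, (hV_sesq f₁ f₂).add_right, map_smul, (hV_sesq f₁ f₂).smul_left,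
      (hV_sesq f₁ f₂).smul_right, hV_pl S.toForms, Fr.w'w', Fr.w'w, Fr.ww', Fr.ww, hyw, hwy, hy,
      Unit.smul_right S.u₂, Unit.smul_left S.u₂, Fr.w'z, Fr.zw', Fr.wz, Fr.zw, mul_zero, mul_one, add_zero, zero_add, smul_zero,
      RingEquiv.coe_toRingHom, RingHom.coe_coe] at h1
    rw [hy, Unit.smul_left S.u₂, Unit.smul_right S.u₂]
    have h2 : f₁ p u * (lam + c₀ + σ (lam + c₀) + μ₂ / η * (σ (μ₂ / η) * f₂ z z)) = 0 := by linear_combination h1
    linear_combination (mul_eq_zero.1 h2).resolve_left hu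
  · have ht'v : ∀ u v, (t' : M2 F a b) *ᵥ pl v u =
        pl ((UnitOrth.root f₂ w y (lam + c₀) : Matrix (Fin b) (Fin b) F) *ᵥ v) u := fun u v => by
      rw [← hmain, gl_mul_mulVec, eW_mulVec S.toForms _ Fr.ww, mulVec_add, rgt_pl, rgt_pl, hr₀, hrv, hrv, hrv, hlam,
        Fr.ww, hwy, S.Cv_pl]
      simp only [map_smul, zero_smul, mul_zero, sub_zero, add_zero, smul_smul]
      module
    rw [htt', gl_mul_mulVec, ht'v, lft_pl]

/-- A map fixing an isotropic vector up to a scalar. -/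
theorem eU_eigen {p p' : Fin a → F} (P : Pair f₁ p p') {M : (Fin b → F) →ₗ[F] (Fin b → F)} {w : Fin b → F}
    (hw0 : w ≠ 0) (hw : f₂ w w = 0) {μ : F} (hμ : M w = μ • w) (h : eU f₁ M p ∈ H) :
    μ + σ μ = 0 ∧ ∀ v, M v = μ • v := by
  have hp0 : p ≠ 0 := fun h0 => by have := P.pp'; rw [h0, Unit.zero_left S.u₁] at this; exact zero_ne_one this
  obtain ⟨w', z, Fr⟩ := S.toForms.exists_frame hb3 hw0 hw
  obtain ⟨hskew, y, c, hy, -, ht⟩ := S.line_fix hno hb3 hp0 P.pp Fr h (α := μ)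
    (fun u => by
      rw [S.toForms.eU_mulVec P.pp, S.toForms.E_pl, map_smul M, hμ, pl_smul', pl_smul', map_add, map_smul, mul_smul,
        smul_comm μ])
    (fun x => by
      rw [S.toForms.eU_mulVec P.pp M x, add_sub_cancel_left, S.toForms.eU_mulVec P.pp, S.toForms.E_pl, P.pp]
      simp [pl_zero'])
  refine ⟨hskew, fun v => ?_⟩
  have h1 := ht p' v
  rw [S.toForms.eU_mulVec P.pp, S.toForms.E_pl, P.p'p, one_smul, Unit.formTv_mulVec S.u₁ P.pp, P.p'p, mul_one] at h1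
  have h2 := congrArg (E f₁ p) h1
  have h3 := congrArg (E f₁ p') h1
  simp only [map_add, S.toForms.E_pl, map_smul, Unit.add_left S.u₁, Unit.smul_left S.u₁, P.p'p, P.pp, P.p'p',
    P.pp', mul_zero, mul_one, add_zero, zero_add, one_smul, zero_smul, smul_zero] at h2 h3
  rw [h3, ← h2]

theorem eU_mul {p : Fin a → F} (hp : f₁ p p = 0) (M N : (Fin b → F) →ₗ[F] (Fin b → F)) :
    eU f₁ M p * eU f₁ N p = eU f₁ (M + N) p := gl_ext fun x => by
  rw [gl_mul_mulVec, S.toForms.eU_mulVec hp, S.toForms.eU_mulVec hp, S.toForms.eU_mulVec hp]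
  simp only [map_add, S.toForms.E_pl, hp, zero_smul, map_zero, add_zero, LinearMap.add_apply, pl_add', pl_zero']
  abel

/-- The maps of elements fixing `p ⊗ W` pointwise are scalar. -/
theorem eU_scalar {p p' : Fin a → F} (P : Pair f₁ p p') {M : (Fin b → F) →ₗ[F] (Fin b → F)}
    (h : eU f₁ M p ∈ H) : ∃ μ, μ + σ μ = 0 ∧ ∀ v, M v = μ • v := by
  obtain ⟨w, hw0, hw⟩ := Unit.exists_isotropic S.u₂ (by rw [Fintype.card_fin]; omega)
  obtain ⟨c, hc0, hc⟩ := Unit.exists_skew S.u₂.ne_refl S.u₂.involutive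
  set B := formTv f₂ w c with hB
  have hBH : rgt B ∈ H := S.right B (Unit.formTv_isometry S.u₂ hw hc) (mem_specialLinear.1
    (formTv_mem_specialLinear f₂ w c))
  set MB : (Fin b → F) →ₗ[F] (Fin b → F) := Matrix.mulVecLin (B : Matrix (Fin b) (Fin b) F) ∘ₗ M ∘ₗ
    Matrix.mulVecLin ((B⁻¹ : GL (Fin b) F) : Matrix (Fin b) (Fin b) F) with hMB
  have hMBH : eU f₁ MB p ∈ H := TensorMax.mem_of_conj hBH h (gl_ext fun x => by
    rw [gl_mul_mulVec, gl_mul_mulVec, S.toForms.eU_mulVec P.pp, S.toForms.eU_mulVec P.pp, mulVec_add, rgt_pl,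
      S.toForms.E_rgt, hMB, LinearMap.comp_apply, LinearMap.comp_apply, Matrix.mulVecLin_apply,
      Matrix.mulVecLin_apply, gl_inv_mulVec_mulVec])
  have hdiff : eU f₁ (MB - M) p ∈ H := by
    rw [eq_mul_inv_of_mul_eq (show eU f₁ (MB - M) p * eU f₁ M p = eU f₁ MB p by
      rw [S.eU_mul hno hb3 P.pp, sub_add_cancel])]
    exact H.mul_mem hMBH (H.inv_mem h)
  have hBi : ∀ v, ((B⁻¹ : GL (Fin b) F) : Matrix (Fin b) (Fin b) F) *ᵥ v = v - (c * f₂ v w) • w := fun v => by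
    apply gl_mulVec_injective B
    beta_reduce
    rw [gl_mulVec_inv_mulVec, hB, mulVec_sub, mulVec_smul, Unit.formTv_mulVec S.u₂ hw, Unit.formTv_mulVec S.u₂ hw, hw,
      mul_zero, zero_smul, add_zero, add_sub_cancel_right]
  have hD : ∀ v, (MB - M) v = (c * f₂ (M v) w) • w - (c * f₂ v w) • M w -
      (c * f₂ v w * (c * f₂ (M w) w)) • w := fun v => by
    simp only [hMB, LinearMap.sub_apply, LinearMap.comp_apply, Matrix.mulVecLin_apply, hBi]
    simp only [hB, Unit.formTv_mulVec S.u₂ hw, map_sub, map_smul, Unit.sub_left S.u₂, Unit.smul_left S.u₂]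
    module
  obtain ⟨-, hκ⟩ := S.eU_eigen hno hb3 P hw0 hw (μ := c * f₂ (M w) w) (by rw [hD, hw]; simp) hdiff
  set L : (Fin b → F) →ₗ[F] F × F := ((dotProductBilin F F) (fVec f₂ w)).prod
    ((dotProductBilin F F) (fVec f₂ w) ∘ₗ M) with hL
  obtain ⟨v, hv, hv0⟩ := (Submodule.ne_bot_iff _).1 (LinearMap.ker_ne_bot_of_finrank_lt (f := L)
    (by rw [Module.finrank_prod, Module.finrank_self, Module.finrank_fintype_fun_eq_card, Fintype.card_fin]; omega))
  rw [LinearMap.mem_ker] at hv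
  have hv1 : f₂ v w = 0 := by simpa [hL, (Unit.sesq S.u₂).fVec_dot] using congrArg Prod.fst hv
  have hv2 : f₂ (M v) w = 0 := by simpa [hL, (Unit.sesq S.u₂).fVec_dot] using congrArg Prod.snd hv
  have hκ0 : c * f₂ (M w) w = 0 := by
    have := hκ v
    rw [hD, hv1, hv2] at this
    simp only [mul_zero, zero_smul, zero_mul, sub_zero] at this
    exact (smul_eq_zero.1 this.symm).resolve_right hv0
  obtain ⟨w', hw'w', hw'⟩ := S.exists_partner hw0 hw
  have h1 := hκ w'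
  rw [hD, hκ0, hw', zero_smul, mul_zero, zero_smul, mul_one, sub_zero, sub_eq_zero] at h1
  have hMw : M w = f₂ (M w') w • w := by
    rw [← inv_smul_smul₀ hc0 (M w), ← h1, smul_smul, ← mul_assoc, inv_mul_cancel₀ hc0, one_mul]
  exact ⟨_, S.eU_eigen hno hb3 P hw0 hw hMw h⟩

end Setting

end CfsgLib.GeomClasses.UnitTensor
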