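import Cfsg.Agent.Lib.GeomClasses.UnitTensor.SmallBasic

/-!
Without an extra element no image of `p ⊗ W` meets `p ⊗ W` in a two-space (`2 ⊗ 3`).
-/

set_option autoImplicit false
set_option linter.unusedSectionVars false
set_option linter.unusedSimpArgs false

namespace CfsgLib.GeomClasses.UnitTensor

open Matrix Module TensorMax
open scoped Kronecker

variable {F : Type*} [Field F] [Fintype F] {a b : ℕ} {σ : F ≃+* F}
  {f₁ : (Fin a → F) → (Fin a → F) → F} {f₂ : (Fin b → F) → (Fin b → F) → F}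

attribute [-simp] Matrix.coe_units_inv

/-- The image of `p ⊗ W`. -/
noncomputable def LX (g : GL (Fin a × Fin b) F) (p : Fin a → F) : Submodule F (V2 F a b) :=
  LinearMap.range (Matrix.mulVecLin (g : M2 F a b) ∘ₗ pr p)

/-- The part of `p ⊗ W` in its image. -/
noncomputable def KX (g : GL (Fin a × Fin b) F) (p : Fin a → F) : Submodule F (Fin b → F) :=
  (LX g p).comap (pr p)

theorem mem_LX {g : GL (Fin a × Fin b) F} {p : Fin a → F} {x : V2 F a b} :
    x ∈ LX g p ↔ ∃ v, (g : M2 F a b) *ᵥ pl v p = x := Iff.rfl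

theorem mem_KX {g : GL (Fin a × Fin b) F} {p : Fin a → F} {v : Fin b → F} :
    v ∈ KX g p ↔ pl v p ∈ LX g p := Iff.rfl

theorem LX_mul (k g : GL (Fin a × Fin b) F) (p : Fin a → F) {x : V2 F a b} :
    x ∈ LX (k * g) p ↔ ((k⁻¹ : GL (Fin a × Fin b) F) : M2 F a b) *ᵥ x ∈ LX g p := by
  simp only [mem_LX, gl_mul_mulVec]
  refine ⟨fun ⟨v, hv⟩ => ⟨v, by rw [← hv, gl_inv_mulVec_mulVec]⟩, fun ⟨v, hv⟩ => ⟨v, ?_⟩⟩
  rw [hv, gl_mulVec_inv_mulVec]

/-- The transvection group centred at the image of `p ⊗ W`. -/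
noncomputable def conjT (f₁ : (Fin a → F) → (Fin a → F) → F) (g : GL (Fin a × Fin b) F) (p : Fin a → F) (c : F) :
    GL (Fin a × Fin b) F := g * lft (formTv f₁ p c) * g⁻¹

namespace Setting

variable {H : Subgroup (GL (Fin a × Fin b) F)} (S : Setting σ f₁ f₂ H)
include S

theorem conjT_mem {g : GL (Fin a × Fin b) F} (hg : g ∈ H) {p : Fin a → F} (hp : f₁ p p = 0) {c : F}
    (hc : c + σ c = 0) : conjT f₁ g p c ∈ H :=
  H.mul_mem (H.mul_mem hg (S.left _ (Unit.formTv_isometry S.u₁ hp hc)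
    (mem_specialLinear.1 (formTv_mem_specialLinear f₁ p c)))) (H.inv_mem hg)

theorem conjT_mulVec (g : GL (Fin a × Fin b) F) {p : Fin a → F} (hp : f₁ p p = 0) (c : F) (x : V2 F a b) :
    (conjT f₁ g p c : M2 F a b) *ᵥ x = x +
      c • ((g : M2 F a b) *ᵥ pl (E f₁ p (((g⁻¹ : GL (Fin a × Fin b) F) : M2 F a b) *ᵥ x)) p) := by
  rw [conjT, gl_mul_mulVec, gl_mul_mulVec, S.toForms.lftT_mulVec hp, mulVec_add, mulVec_smul, gl_mulVec_inv_mulVec]

theorem conjT_fix (g : GL (Fin a × Fin b) F) {p : Fin a → F} (hp : f₁ p p = 0) (c : F) {x : V2 F a b}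
    (hx : x ∈ LX g p) : (conjT f₁ g p c : M2 F a b) *ᵥ x = x := by
  obtain ⟨v, rfl⟩ := hx
  rw [S.conjT_mulVec g hp, LinearMap.comp_apply, Matrix.mulVecLin_apply, gl_inv_mulVec_mulVec, pr_eq, S.toForms.E_pl,
    hp, zero_smul, pl_zero', mulVec_zero, smul_zero, add_zero]

theorem conjT_sub (g : GL (Fin a × Fin b) F) {p : Fin a → F} (hp : f₁ p p = 0) (c : F) (x : V2 F a b) :
    (conjT f₁ g p c : M2 F a b) *ᵥ x - x ∈ LX g p := by
  rw [S.conjT_mulVec g hp, add_sub_cancel_left]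
  exact Submodule.smul_mem _ _ ⟨_, rfl⟩

theorem conjT_sq (g : GL (Fin a × Fin b) F) {p : Fin a → F} (hp : f₁ p p = 0) (c : F) (x : V2 F a b) :
    (conjT f₁ g p c : M2 F a b) *ᵥ ((conjT f₁ g p c : M2 F a b) *ᵥ x - x) =
      (conjT f₁ g p c : M2 F a b) *ᵥ x - x :=
  S.conjT_fix g hp c (S.conjT_sub g hp c x)

theorem conjT_add (g : GL (Fin a × Fin b) F) {p : Fin a → F} (hp : f₁ p p = 0) (c d : F) :
    conjT f₁ g p c * conjT f₁ g p d = conjT f₁ g p (c + d) := gl_ext fun x => by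
  rw [gl_mul_mulVec, S.conjT_mulVec g hp d x, mulVec_add, mulVec_smul, S.conjT_fix g hp c (mem_LX.2 ⟨_, rfl⟩),
    S.conjT_mulVec g hp c, S.conjT_mulVec g hp, add_smul, add_assoc]

theorem LX_perp {g : GL (Fin a × Fin b) F} (hg : g ∈ H) {p : Fin a → F} (hp : f₁ p p = 0) {x x' : V2 F a b}
    (hx : x ∈ LX g p) (hx' : x' ∈ LX g p) : hV σ f₁ f₂ x x' = 0 := by
  obtain ⟨v, rfl⟩ := hx
  obtain ⟨v', rfl⟩ := hx'
  simp only [LinearMap.comp_apply, Matrix.mulVecLin_apply, pr_eq, S.iso g hg, hV_pl S.toForms, hp, zero_mul]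

theorem exists_conjT_moved (g : GL (Fin a × Fin b) F) {p p' : Fin a → F} (P : Pair f₁ p p') {c : F} (hc : c ≠ 0)
    (v : Fin b → F) : (conjT f₁ g p c : M2 F a b) *ᵥ ((g : M2 F a b) *ᵥ pl (c⁻¹ • v) p') -
      (g : M2 F a b) *ᵥ pl (c⁻¹ • v) p' = (g : M2 F a b) *ᵥ pl v p := by
  rw [S.conjT_mulVec g P.pp, add_sub_cancel_left, gl_inv_mulVec_mulVec, S.toForms.E_pl, P.p'p, one_smul, pl_smul',
    mulVec_smul, smul_smul, mul_inv_cancel₀ hc, one_smul]

variable (hno : ¬ S.HasExtra) (ha2 : a = 2) (hb3 : b = 3) {p p' : Fin a → F} (P : Pair f₁ p p')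
include hno ha2 hb3 P

/-- Stabilisers of the image scale its transvection group. -/
theorem conj_scalar {g k : GL (Fin a × Fin b) F} (hg : g ∈ H) (hk : k ∈ H)
    (hX : ∀ x ∈ LX g p, (k : M2 F a b) *ᵥ x ∈ LX g p) {c : F} (hc0 : c ≠ 0) (hc : c + σ c = 0) :
    ∃ lam : F, ∀ x, (k : M2 F a b) *ᵥ ((conjT f₁ g p c : M2 F a b) *ᵥ x - x) =
      lam • ((conjT f₁ g p c : M2 F a b) *ᵥ ((k : M2 F a b) *ᵥ x) - (k : M2 F a b) *ᵥ x) := by
  set k' := g⁻¹ * k * g with hk'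
  have hk'H : k' ∈ H := H.mul_mem (H.mul_mem (H.inv_mem hg) hk) hg
  set B1 : (Fin b → F) →ₗ[F] (Fin b → F) := E f₁ p' ∘ₗ Matrix.mulVecLin (k' : M2 F a b) ∘ₗ pr p with hB1
  have hB1p : ∀ v, (k' : M2 F a b) *ᵥ pl v p = pl (B1 v) p := fun v => by
    obtain ⟨v', hv'⟩ := mem_LX.1 (hX _ ⟨v, rfl⟩)
    have : (k' : M2 F a b) *ᵥ pl v p = pl v' p := by
      rw [hk', gl_mul_mulVec, gl_mul_mulVec]
      rw [LinearMap.comp_apply, Matrix.mulVecLin_apply, pr_eq] at hv'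
      rw [← hv', gl_inv_mulVec_mulVec]
    simp [hB1, pr_eq, this, S.toForms.E_pl, P.pp', pl_zero']
  have hinj : Function.Injective B1 := fun v v' h => by
    have := congrArg (E f₁ p') (gl_mulVec_injective k' (show (k' : M2 F a b) *ᵥ pl v p = (k' : M2 F a b) *ᵥ pl v' p
      by rw [hB1p, hB1p, h]))
    simpa [S.toForms.E_pl, P.pp'] using this
  set B2 : (Fin b → F) →ₗ[F] (Fin b → F) :=
    E f₁ p ∘ₗ Matrix.mulVecLin ((k'⁻¹ : GL (Fin a × Fin b) F) : M2 F a b) ∘ₗ pr p' with hB2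
  have hEk : ∀ x, E f₁ p (((k'⁻¹ : GL (Fin a × Fin b) F) : M2 F a b) *ᵥ x) = B2 (E f₁ p x) := fun x => by
    conv_lhs => rw [S.toForms.split P ha2 x, mulVec_add, map_add]
    obtain ⟨v, hv⟩ := LinearMap.injective_iff_surjective.1 hinj (E f₁ p' x)
    rw [← hv, ← hB1p, gl_inv_mulVec_mulVec, S.toForms.E_pl, P.pp, zero_smul, zero_add]
    rfl
  have hmem : eU f₁ (c • (B1 ∘ₗ B2)) p ∈ H := by
    have : k' * lft (formTv f₁ p c) * k'⁻¹ = eU f₁ (c • (B1 ∘ₗ B2)) p := gl_ext fun x => by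
      rw [gl_mul_mulVec, gl_mul_mulVec, S.toForms.lftT_mulVec P.pp, mulVec_add, mulVec_smul, gl_mulVec_inv_mulVec,
        hEk, hB1p, S.toForms.eU_mulVec P.pp, LinearMap.smul_apply, LinearMap.comp_apply, pl_smul']
      rfl
    rw [← this]
    exact H.mul_mem (H.mul_mem hk'H (S.left _ (Unit.formTv_isometry S.u₁ P.pp hc)
      (mem_specialLinear.1 (formTv_mem_specialLinear f₁ p c)))) (H.inv_mem hk'H)
  obtain ⟨μ, -, hμ⟩ := S.eU_scalar hno hb3 P hmem
  refine ⟨μ / c, fun x => ?_⟩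
  have key : ∀ z, (k' : M2 F a b) *ᵥ (c • pl (E f₁ p (((k'⁻¹ : GL (Fin a × Fin b) F) : M2 F a b) *ᵥ z)) p) =
      (μ / c) • (c • pl (E f₁ p z) p) := fun z => by
    rw [mulVec_smul, hEk, hB1p, ← pl_smul', show c • B1 (B2 (E f₁ p z)) = (c • (B1 ∘ₗ B2)) (E f₁ p z) from rfl, hμ,
      pl_smul', smul_smul, div_mul_cancel₀ _ hc0]
  rw [S.conjT_mulVec g P.pp, S.conjT_mulVec g P.pp, add_sub_cancel_left, add_sub_cancel_left]
  have h1 := congrArg (fun q => (g : M2 F a b) *ᵥ q)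
    (key (((g⁻¹ : GL (Fin a × Fin b) F) : M2 F a b) *ᵥ ((k : M2 F a b) *ᵥ x)))
  simp only [hk', _root_.mul_inv_rev, inv_inv, gl_mul_mulVec, gl_mulVec_inv_mulVec, gl_inv_mulVec_mulVec,
    mulVec_smul] at h1
  rw [mulVec_smul, h1]

/-- No image of `p ⊗ W` is `p ⊗ K + p' ⊗ K^⊥` for a non-degenerate plane `K`. -/
theorem pairN_false {g : GL (Fin a × Fin b) F} (hg : g ∈ H) {z0 : Fin b → F} (hz0 : f₂ z0 z0 ≠ 0)
    (hK : ∀ v, f₂ v z0 = 0 → pl v p ∈ LX g p) (hx : pl z0 p' ∈ LX g p) : False := by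
  classical
  have hz00 : z0 ≠ 0 := fun h => hz0 (by rw [h, Unit.zero_left S.u₂])
  obtain ⟨w, hwm, hw0, hww⟩ := UnitCentres.exists_iso_any S.u₂ (X := Unit.perp S.u₂ (Submodule.span F {z0})) (by
    rw [S.finrank_perp1 hz00]; omega)
  have hwz : f₂ w z0 = 0 := S.mem_perp1.1 hwm
  obtain ⟨y, hy, hyw⟩ : ∃ y, f₂ y z0 = 0 ∧ f₂ y w ≠ 0 := by
    by_contra hc
    push Not at hc
    obtain ⟨r, hr⟩ := perp_line S.u₂ hz00 (v := w) fun y hy => Unit.eq_zero_comm S.u₂ (hc y hy)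
    rw [hr, Unit.smul_left S.u₂, mul_eq_zero] at hwz
    exact hw0 (by rw [hr, hwz.resolve_right hz0, zero_smul])
  obtain ⟨r, hr⟩ := Unit.exists_isotropic_add S.u₂ hww hyw
  set w' := (f₂ y w)⁻¹ • (y + r • w) with hw'def
  have Fr : Frame f₂ w w' z0 := by
    have h1 : f₂ w' w = 1 := by
      rw [hw'def, Unit.smul_left S.u₂, Unit.add_left S.u₂, Unit.smul_left S.u₂, hww, mul_zero, add_zero,
        inv_mul_cancel₀ hyw]
    have h2 : f₂ w' z0 = 0 := by
      rw [hw'def, Unit.smul_left S.u₂, Unit.add_left S.u₂, Unit.smul_left S.u₂, hy, hwz, mul_zero, add_zero, mul_zero]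
    refine ⟨hww, ?_, by rw [← Unit.conj_form S.u₂, h1, map_one], h1, Unit.eq_zero_comm S.u₂ hwz,
      Unit.eq_zero_comm S.u₂ h2, hwz, h2, hz0⟩
    rw [hw'def, Unit.smul_left S.u₂, Unit.smul_right S.u₂, hr, mul_zero, mul_zero]
  clear_value w'
  -- the vectors of the image
  have hdesc : ∀ x ∈ LX g p, (∃ r : F, E f₁ p x = r • z0) ∧ f₂ (E f₁ p' x) z0 = 0 := fun x hxm => by
    refine ⟨perp_line S.u₂ hz00 fun v hv => ?_, ?_⟩
    · rw [← S.toForms.hV_E', S.LX_perp hg P.pp hxm (hK v hv)]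
    · rw [← S.toForms.hV_E', S.LX_perp hg P.pp hxm hx]
  obtain ⟨c, hc0, hc⟩ := Unit.exists_skew S.u₂.ne_refl S.u₂.involutive
  set B := formTv f₂ w c with hB
  have hBv : ∀ v, (B : Matrix (Fin b) (Fin b) F) *ᵥ v = v + (c * f₂ v w) • w := fun v =>
    Unit.formTv_mulVec S.u₂ hww c v
  have hBH : rgt B ∈ H := S.right B (Unit.formTv_isometry S.u₂ hww hc) (mem_specialLinear.1
    (formTv_mem_specialLinear f₂ w c))
  have hBz : (B : Matrix (Fin b) (Fin b) F) *ᵥ z0 = z0 := by rw [hBv, Fr.zw, mul_zero, zero_smul, add_zero]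
  have hBX : ∀ x ∈ LX g p, ((rgt B : GL (Fin a × Fin b) F) : M2 F a b) *ᵥ x ∈ LX g p := fun x hxm => by
    obtain ⟨⟨r, hr⟩, hperp⟩ := hdesc x hxm
    rw [S.toForms.split P ha2 x, hr, mulVec_add, rgt_pl, rgt_pl, mulVec_smul, hBz]
    refine Submodule.add_mem _ (hK _ ?_) (by rw [pl_smul']; exact Submodule.smul_mem _ _ hx)
    rw [hBv, Unit.add_left S.u₂, Unit.smul_left S.u₂, hperp, hwz, mul_zero, add_zero]
  obtain ⟨lam, hlam⟩ := S.conj_scalar hno ha2 hb3 P hg hBH hBX hc0 hc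
  set T := conjT f₁ g p c with hT
  set δ := fun x : V2 F a b => (T : M2 F a b) *ᵥ x - x with hδ
  have e1 : ((rgt B : GL (Fin a × Fin b) F) : M2 F a b) *ᵥ δ (pl w p') = lam • δ (pl w p') := by
    rw [hδ]; beta_reduce
    rw [hlam, rgt_pl, hBv, hww, mul_zero, zero_smul, add_zero]
  have e2 : ((rgt B : GL (Fin a × Fin b) F) : M2 F a b) *ᵥ δ (pl w' p') =
      lam • (δ (pl w' p') + c • δ (pl w p')) := by
    rw [hδ]; beta_reduce
    rw [hlam, rgt_pl, hBv, Fr.w'w, mul_one, pl_add', pl_smul', mulVec_add, mulVec_smul]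
    module
  obtain ⟨⟨ρ, hρ⟩, hperp⟩ := hdesc _ (S.conjT_sub g P.pp c (pl w p'))
  obtain ⟨⟨ρ', hρ'⟩, -⟩ := hdesc _ (S.conjT_sub g P.pp c (pl w' p'))
  change E f₁ p (δ (pl w p')) = _ at hρ
  change E f₁ p (δ (pl w' p')) = _ at hρ'
  change f₂ (E f₁ p' (δ (pl w p'))) z0 = 0 at hperp
  have hρ0 : ρ = 0 := by
    have h1 := congrArg (E f₁ p) e1
    have h2 := congrArg (E f₁ p) e2
    rw [S.toForms.E_rgt, map_smul, hρ, mulVec_smul, hBz, smul_smul] at h1
    rw [S.toForms.E_rgt, map_smul, map_add, map_smul, hρ, hρ', mulVec_smul, hBz, smul_smul, ← add_smul,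
      smul_smul] at h2
    have h1' := smul_left_injective F hz00 h1
    have h2' := smul_left_injective F hz00 h2
    by_contra h
    have hl : lam = 1 := mul_right_cancel₀ h (by rw [one_mul]; exact h1'.symm)
    rw [hl, one_mul] at h2'
    exact mul_ne_zero hc0 h (by linear_combination -h2')
  set d := E f₁ p' (δ (pl w p')) with hd
  have hdw : f₂ d w = 0 := by
    have h1 := congrArg (E f₁ p') e1
    rw [S.toForms.E_rgt, map_smul, ← hd, hBv] at h1
    have ha := congrArg (fun v => f₂ v w) h1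
    have hb := congrArg (fun v => f₂ v w') h1
    simp only [Unit.add_left S.u₂, Unit.smul_left S.u₂, hww, Fr.ww', mul_zero, add_zero, mul_one] at ha hb
    by_contra h
    have hl : lam = 1 := mul_right_cancel₀ h (by rw [one_mul]; exact ha.symm)
    rw [hl, one_mul, add_eq_left] at hb
    exact mul_ne_zero hc0 h hb
  set α := f₂ d w' with hα
  have hTw : (T : M2 F a b) *ᵥ pl w p' = pl w p' + α • pl w p := by
    rw [← sub_eq_iff_eq_add', ← pl_smul']
    show δ (pl w p') = _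
    rw [S.toForms.split P ha2 (δ (pl w p')), hρ, hρ0, zero_smul, pl_zero', add_zero, ← hd]
    congr 1
    conv_lhs => rw [S.toForms.span_frame hb3 Fr d, hdw, hperp, zero_div, zero_smul, zero_smul, add_zero, add_zero]
  have hTp : (T : M2 F a b) *ᵥ pl w p = pl w p := S.conjT_fix g P.pp c (hK w hwz)
  have hp0 : p ≠ 0 := fun h0 => by have := P.pp'; rw [h0, Unit.zero_left S.u₁] at this; exact zero_ne_one this
  obtain ⟨-, y', c', hy', hc', ht⟩ := S.line_fix hno hb3 hp0 P.pp Fr (S.conjT_mem hg P.pp hc) (α := α) (fun u => by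
    conv_lhs => rw [S.toForms.span_pair P ha2 u]
    rw [map_add, map_smul, map_smul, mulVec_add, mulVec_smul, mulVec_smul, ← hT, hTw, hTp]
    conv_rhs => rw [map_add, map_smul, S.toForms.span_pair P ha2 u, map_add, map_smul, map_smul]
    simp only [Unit.add_left S.u₁, Unit.smul_left S.u₁, P.pp, P.p'p, mul_zero, mul_one, zero_add]
    module) (S.conjT_sq g P.pp c)
  have hr : ∀ v, (UnitOrth.root f₂ w y' c' : Matrix (Fin b) (Fin b) F) *ᵥ v =
      v + f₂ v w • y' + (c' * f₂ v w - f₂ v y') • w :=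
    fun v => UnitOrth.root_mulVec S.u₂ hww (Unit.eq_zero_comm S.u₂ hy') c' v
  have hAp : (formTv f₁ p α : Matrix (Fin a) (Fin a) F) *ᵥ p = p := by
    rw [Unit.formTv_mulVec S.u₁ P.pp, P.pp, mul_zero, zero_smul, add_zero]
  have hAp' : (formTv f₁ p α : Matrix (Fin a) (Fin a) F) *ᵥ p' = p' + α • p := by
    rw [Unit.formTv_mulVec S.u₁ P.pp, P.p'p, mul_one]
  -- it fixes everything
  have h1 := (ht p' z0).symm.trans (S.conjT_fix g P.pp c hx)
  have h2 := (ht p w').symm.trans (S.conjT_fix g P.pp c (hK w' Fr.w'z))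
  rw [hAp'] at h1
  rw [hAp] at h2
  have e3 := congrArg (E f₁ p) h1
  have e4 := congrArg (E f₁ p') h1
  have e5 := congrArg (E f₁ p') h2
  simp only [S.toForms.E_pl, Unit.add_left S.u₁, Unit.smul_left S.u₁, P.pp, P.p'p', P.pp', P.p'p, mul_zero, mul_one,
    add_zero, zero_add, one_smul, zero_smul] at e3 e4 e5
  rw [e3] at e4
  have hα0 : α = 0 := (smul_eq_zero.1 e4).resolve_right hz00
  rw [hr, Fr.zw, zero_smul, add_zero, mul_zero, zero_sub, add_eq_left, smul_eq_zero, neg_eq_zero] at e3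
  have hzy : f₂ y' z0 = 0 := Unit.eq_zero_comm S.u₂ (e3.resolve_right hw0)
  have hyρ : y' = f₂ y' w' • w := by
    conv_lhs => rw [S.toForms.span_frame hb3 Fr y', hy', hzy, zero_div, zero_smul, zero_smul, add_zero, add_zero]
  rw [hr, Fr.w'w, one_smul, mul_one, add_assoc, add_eq_left] at e5
  have hrid : ∀ v, (UnitOrth.root f₂ w y' c' : Matrix (Fin b) (Fin b) F) *ᵥ v = v := fun v => by
    have : f₂ v w • y' + (c' * f₂ v w - f₂ v y') • w = f₂ v w • (y' + (c' - f₂ w' y') • w) := by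
      have hvy : ∀ u, f₂ u y' = σ (f₂ y' w') * f₂ u w := fun u => by
        conv_lhs => rw [hyρ, Unit.smul_right S.u₂]
      rw [hvy v, hvy w', Fr.w'w]
      module
    rw [hr, add_assoc, this, e5, smul_zero, add_zero]
  have hT1 : ∀ x, (T : M2 F a b) *ᵥ x = x := fun x =>
    LinearMap.congr_fun (ext_pl (f := Matrix.mulVecLin (T : M2 F a b)) (g := LinearMap.id) fun u v => by
      rw [Matrix.mulVecLin_apply, LinearMap.id_apply, ht, hrid, Unit.formTv_mulVec S.u₁ P.pp, hα0, zero_mul, zero_smul,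
        add_zero]) x
  have h5 := S.exists_conjT_moved g P hc0 w
  rw [hT1, sub_self] at h5
  have h6 : pl w p = 0 := gl_mulVec_injective g (by beta_reduce; rw [← h5, mulVec_zero])
  have h7 := congrArg (E f₁ p') h6
  rw [S.toForms.E_pl, P.pp', one_smul, map_zero] at h7
  exact hw0 h7

/-- Images meeting `p ⊗ W` in a degenerate plane have their transvections in the tensor group. -/
theorem pairD {g : GL (Fin a × Fin b) F} (hg : g ∈ H) {w w' z : Fin b → F} (Fr : Frame f₂ w w' z) {κ : F}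
    (hK : ∀ v, f₂ v w = 0 → pl v p ∈ LX g p) (hx : pl w p' + κ • pl w' p ∈ LX g p) {c : F} (hc0 : c ≠ 0)
    (hc : c + σ c = 0) :
    ∃ e α : F, e ≠ 0 ∧ α ≠ 0 ∧ (2 : F) = 0 ∧ ∀ u v, (conjT f₁ g p c : M2 F a b) *ᵥ pl v u =
      pl (v + (α * f₂ v w) • w) (u + (e * f₁ u p) • p) := by
  classical
  have hp0 : p ≠ 0 := fun h0 => by have := P.pp'; rw [h0, Unit.zero_left S.u₁] at this; exact zero_ne_one this
  have hw0 : w ≠ 0 := fun h => by have := Fr.ww'; rw [h, Unit.zero_left S.u₂] at this; exact zero_ne_one this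
  have hdesc : ∀ x ∈ LX g p, ∃ γ : F, E f₁ p x = γ • w ∧ f₂ (E f₁ p' x) w = - (γ * σ κ) := fun x hxm => by
    obtain ⟨γ, hγ⟩ := perp_line S.u₂ hw0 (v := E f₁ p x) fun v hv => by
      rw [← S.toForms.hV_E', S.LX_perp hg P.pp hxm (hK v hv)]
    refine ⟨γ, hγ, ?_⟩
    have := S.LX_perp hg P.pp hxm hx
    rw [(hV_sesq f₁ f₂).add_right, (hV_sesq f₁ f₂).smul_right, S.toForms.hV_E', S.toForms.hV_E', hγ,
      Unit.smul_left S.u₂, Fr.ww', mul_one, RingEquiv.coe_toRingHom] at this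
    linear_combination this
  have hκ : κ + σ κ = 0 := by
    obtain ⟨γ, hγ, h⟩ := hdesc _ hx
    simp only [map_add, map_smul, S.toForms.E_pl, P.p'p, P.pp, P.p'p', P.pp', one_smul, zero_smul, smul_zero,
      add_zero, zero_add, Unit.smul_left S.u₂, Fr.w'w, mul_one] at hγ h
    have : γ = 1 := smul_left_injective F hw0 (show γ • w = (1 : F) • w by rw [one_smul, ← hγ])
    rw [this, one_mul] at h
    linear_combination h
  have hσκ : σ κ = -κ := eq_neg_of_add_eq_zero_right hκ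
  set T := conjT f₁ g p c with hT
  have hfixK : ∀ v, f₂ v w = 0 → (T : M2 F a b) *ᵥ pl v p = pl v p := fun v hv => S.conjT_fix g P.pp c (hK v hv)
  set δ := (T : M2 F a b) *ᵥ pl w' p - pl w' p with hδ
  obtain ⟨γ, hγ, hγ'⟩ := hdesc δ (S.conjT_sub g P.pp c _)
  rw [hσκ, mul_neg, neg_neg] at hγ'
  obtain ⟨e₀, he₀0, he₀⟩ := Unit.exists_skew S.u₁.ne_refl S.u₁.involutive
  -- the left root group
  have hγ0 : γ = 0 := by
    have hkH : lft (formTv f₁ p e₀) ∈ H := S.left _ (Unit.formTv_isometry S.u₁ P.pp he₀)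
      (mem_specialLinear.1 (formTv_mem_specialLinear f₁ p e₀))
    obtain ⟨lam, hlam⟩ := S.conj_scalar hno ha2 hb3 P hg hkH (fun x hxm => by
      obtain ⟨r, hr, -⟩ := hdesc x hxm
      rw [S.toForms.lftT_mulVec P.pp, hr, pl_smul']
      exact Submodule.add_mem _ hxm (Submodule.smul_mem _ _ (Submodule.smul_mem _ _ (hK w Fr.ww)))) hc0 hc
    have h0 := hlam (pl w' p)
    rw [S.toForms.lftT_mulVec P.pp (c := e₀) (pl w' p), S.toForms.E_pl, P.pp, zero_smul, pl_zero', smul_zero,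
      add_zero, ← hT, ← hδ, S.toForms.lftT_mulVec P.pp, hγ] at h0
    have h1 := congrArg (fun x => f₂ (E f₁ p x) w') h0
    have h2 := congrArg (fun x => f₂ (E f₁ p' x) w') h0
    simp only [map_add, map_smul, S.toForms.E_pl, P.pp, P.pp', one_smul, zero_smul, smul_zero, add_zero, hγ,
      Unit.add_left S.u₂, Unit.smul_left S.u₂, Fr.ww', mul_one] at h1 h2
    by_contra h
    have hl : lam = 1 := mul_right_cancel₀ h (by rw [one_mul]; exact h1.symm)
    rw [hl, one_mul, add_eq_left] at h2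
    exact mul_ne_zero he₀0 h h2
  rw [hγ0, mul_comm, mul_zero] at hγ'
  rw [hγ0, zero_smul] at hγ
  -- a Siegel element
  set d := E f₁ p' δ with hd
  have hdz : f₂ d z = 0 := by
    obtain ⟨c', hc'⟩ := Unit.exists_trace S.u₂.ne_refl S.u₂.involutive
      (show σ (- f₂ z z) = - f₂ z z by rw [map_neg, Unit.self_fixed S.u₂])
    set B := UnitOrth.root f₂ w z c' with hB
    have hBv : ∀ v, (B : Matrix (Fin b) (Fin b) F) *ᵥ v = v + f₂ v w • z + (c' * f₂ v w - f₂ v z) • w :=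
      fun v => UnitOrth.root_mulVec S.u₂ Fr.ww Fr.wz c' v
    have hBH : rgt B ∈ H := S.right B (UnitOrth.root_isometry S.u₂ Fr.ww Fr.wz hc')
      (mem_specialLinear.1 (UnitCentres.root_det S.u₂))
    have hBw : ∀ v, f₂ ((B : Matrix (Fin b) (Fin b) F) *ᵥ v) w = f₂ v w := fun v => by
      simp [hBv, Unit.add_left S.u₂, Unit.smul_left S.u₂, Fr.zw, Fr.ww]
    obtain ⟨lam, hlam⟩ := S.conj_scalar hno ha2 hb3 P hg hBH (fun x hxm => by
      obtain ⟨r, hr, hr'⟩ := hdesc x hxm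
      rw [S.toForms.split P ha2 x, hr, mulVec_add, rgt_pl, rgt_pl, mulVec_smul,
        show (B : Matrix (Fin b) (Fin b) F) *ᵥ w = w by simp [hBv, Fr.ww, Fr.wz],
        show pl ((B : Matrix (Fin b) (Fin b) F) *ᵥ E f₁ p' x) p + pl (r • w) p' =
          pl ((B : Matrix (Fin b) (Fin b) F) *ᵥ E f₁ p' x - (r * κ) • w') p + r • (pl w p' + κ • pl w' p) by
          rw [pl_sub', pl_smul', pl_smul']; module]
      refine Submodule.add_mem _ (hK _ ?_) (Submodule.smul_mem _ _ hx)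
      rw [Unit.sub_left S.u₂, Unit.smul_left S.u₂, hBw, hr', hσκ, Fr.w'w]
      ring) hc0 hc
    have h0 := hlam (pl w' p)
    rw [rgt_pl, ← hT, ← hδ, hBv, Fr.w'w, Fr.w'z, one_smul, sub_zero, mul_one, pl_add', pl_add', pl_smul',
      mulVec_add, mulVec_add, mulVec_smul, hfixK z Fr.zw, hfixK w Fr.ww,
      show (T : M2 F a b) *ᵥ pl w' p = pl w' p + δ by rw [hδ]; abel] at h0
    have h0' : ((rgt B : GL (Fin a × Fin b) F) : M2 F a b) *ᵥ δ = lam • δ := by
      rw [h0]; module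
    have h1 := congrArg (fun x => f₂ (E f₁ p' x) z) h0'
    have h2 := congrArg (fun x => f₂ (E f₁ p' x) w') h0'
    simp only [S.toForms.E_rgt, map_smul, ← hd, hBv, hγ', zero_smul, mul_zero, add_zero, zero_sub,
      Unit.add_left S.u₂, Unit.smul_left S.u₂, Fr.wz, Fr.ww', mul_one] at h1 h2
    by_contra h
    have hl : lam = 1 := mul_right_cancel₀ h (by rw [one_mul]; exact h1.symm)
    rw [hl, one_mul, add_eq_left, neg_eq_zero] at h2
    exact h h2
  set α := f₂ d w' with hα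
  have hTw' : (T : M2 F a b) *ᵥ pl w' p = pl w' p + α • pl w p := by
    rw [← sub_eq_iff_eq_add', ← hδ, ← pl_smul', S.toForms.split P ha2 δ, hγ, pl_zero', add_zero, ← hd]
    congr 1
    conv_lhs => rw [S.toForms.span_frame hb3 Fr d, hγ', hdz, zero_div, zero_smul, zero_smul, add_zero, add_zero]
  set e := -(κ * α) with he
  have hTw : (T : M2 F a b) *ᵥ pl w p' = pl w p' + e • pl w p := by
    have h1 : (T : M2 F a b) *ᵥ (pl w p' + κ • pl w' p) = pl w p' + κ • pl w' p := S.conjT_fix g P.pp c hx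
    rw [mulVec_add, mulVec_smul, hTw'] at h1
    rw [eq_sub_of_add_eq h1, he]
    module
  obtain ⟨-, y, c', hy, -, ht⟩ := S.line_fix hno hb3 hp0 P.pp Fr (S.conjT_mem hg P.pp hc) (α := e) (fun u => by
    conv_lhs => rw [S.toForms.span_pair P ha2 u]
    rw [map_add, map_smul, map_smul, mulVec_add, mulVec_smul, mulVec_smul, ← hT, hTw, hfixK w Fr.ww]
    conv_rhs => rw [map_add, map_smul, S.toForms.span_pair P ha2 u, map_add, map_smul, map_smul]
    simp only [Unit.add_left S.u₁, Unit.smul_left S.u₁, P.pp, P.p'p, mul_zero, mul_one, zero_add]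
    module) (S.conjT_sq g P.pp c)
  have hr : ∀ v, (UnitOrth.root f₂ w y c' : Matrix (Fin b) (Fin b) F) *ᵥ v =
      v + f₂ v w • y + (c' * f₂ v w - f₂ v y) • w :=
    fun v => UnitOrth.root_mulVec S.u₂ Fr.ww (Unit.eq_zero_comm S.u₂ hy) c' v
  have hAp : (formTv f₁ p e : Matrix (Fin a) (Fin a) F) *ᵥ p = p := by
    rw [Unit.formTv_mulVec S.u₁ P.pp, P.pp, mul_zero, zero_smul, add_zero]
  have h1 := (ht p z).symm.trans (hfixK z Fr.zw)
  have h2 := (ht p w').symm.trans hTw'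
  rw [hAp] at h1 h2
  have e1 := congrArg (E f₁ p') h1
  have e2 := congrArg (E f₁ p') h2
  simp only [S.toForms.E_pl, P.pp', map_add, map_smul, one_smul] at e1 e2
  rw [hr, Fr.zw, zero_smul, add_zero, mul_zero, zero_sub, add_eq_left, smul_eq_zero, neg_eq_zero] at e1
  have hzy : f₂ y z = 0 := Unit.eq_zero_comm S.u₂ (e1.resolve_right hw0)
  have hyρ : y = f₂ y w' • w := by
    conv_lhs => rw [S.toForms.span_frame hb3 Fr y, hy, hzy, zero_div, zero_smul, zero_smul, add_zero, add_zero]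
  rw [hr, Fr.w'w, one_smul, mul_one, add_assoc, add_right_inj] at e2
  have hroot : ∀ v, (UnitOrth.root f₂ w y c' : Matrix (Fin b) (Fin b) F) *ᵥ v = v + (α * f₂ v w) • w := fun v => by
    have : f₂ v w • y + (c' * f₂ v w - f₂ v y) • w = f₂ v w • (y + (c' - f₂ w' y) • w) := by
      have hvy : ∀ u, f₂ u y = σ (f₂ y w') * f₂ u w := fun u => by
        conv_lhs => rw [hyρ, Unit.smul_right S.u₂]
      rw [hvy v, hvy w', Fr.w'w]
      module
    rw [hr, add_assoc, this, e2, smul_smul, mul_comm]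
  have hTf : ∀ u v, (T : M2 F a b) *ᵥ pl v u = pl (v + (α * f₂ v w) • w) (u + (e * f₁ u p) • p) := fun u v => by
    rw [ht, hroot, Unit.formTv_mulVec S.u₁ P.pp]
  -- the image
  obtain ⟨γ₂, hg2, hg2'⟩ := hdesc _ (S.conjT_sub g P.pp c (pl w' p'))
  rw [← hT, hTf, Fr.w'w, mul_one, P.p'p, mul_one] at hg2 hg2'
  simp only [map_sub, S.toForms.E_pl, Unit.add_left S.u₁, Unit.smul_left S.u₁, P.pp, P.p'p', P.pp', P.p'p, mul_zero,
    mul_one, add_zero, zero_add, one_smul, zero_smul, sub_zero, add_sub_cancel_left, Unit.smul_left S.u₂,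
    Unit.add_left S.u₂, Fr.w'w, Fr.ww] at hg2 hg2'
  have hγα : γ₂ = α := (smul_left_injective F hw0 hg2).symm
  rw [hγα, hσκ] at hg2'
  have h2κ : (2 : F) * (κ * α) = 0 := by rw [he] at hg2'; linear_combination -hg2'
  have hα0 : α ≠ 0 := fun h0 => by
    have hT1 : ∀ x, (T : M2 F a b) *ᵥ x = x := fun x =>
      LinearMap.congr_fun (ext_pl (f := Matrix.mulVecLin (T : M2 F a b)) (g := LinearMap.id) fun u v => by
        rw [Matrix.mulVecLin_apply, LinearMap.id_apply, hTf, he, h0, mul_zero, neg_zero, zero_mul, zero_mul, zero_smul,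
          zero_smul, add_zero, add_zero]) x
    have h5 := S.exists_conjT_moved g P hc0 w
    rw [← hT, hT1, sub_self] at h5
    have h7 := congrArg (E f₁ p') (gl_mulVec_injective g (show (g : M2 F a b) *ᵥ pl w p = (g : M2 F a b) *ᵥ 0 by
      rw [← h5, mulVec_zero]))
    rw [S.toForms.E_pl, P.pp', one_smul, map_zero] at h7
    exact hw0 h7
  have hκ0 : κ ≠ 0 := fun h0 => by
    obtain ⟨v₀, hv₀⟩ := mem_LX.1 (hK z Fr.zw)
    have h5 := S.exists_conjT_moved g P hc0 v₀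
    rw [← hT, hv₀] at h5
    set x := (g : M2 F a b) *ᵥ pl (c⁻¹ • v₀) p'
    have hzero : ∀ x, f₂ (E f₁ p' ((T : M2 F a b) *ᵥ x - x)) z = 0 := fun x => by
      have he0 : e = 0 := by rw [he, h0, zero_mul, neg_zero]
      exact LinearMap.congr_fun (ext_pl
        (f := ({ toFun := fun x => f₂ (E f₁ p' ((T : M2 F a b) *ᵥ x - x)) z
                 map_add' := fun x y => by
                   rw [← Unit.add_left S.u₂, ← map_add, mulVec_add]; congr 2; abel
                 map_smul' := fun r x => by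
                   rw [RingHom.id_apply, smul_eq_mul, ← Unit.smul_left S.u₂, ← map_smul, mulVec_smul, smul_sub] } :
                     V2 F a b →ₗ[F] F)) (g := 0) fun u v => by
          show f₂ (E f₁ p' ((T : M2 F a b) *ᵥ pl v u - pl v u)) z = 0
          rw [hTf, he0, zero_mul, zero_smul, add_zero, pl_add', add_sub_cancel_left, S.toForms.E_pl,
            Unit.smul_left S.u₂, Unit.smul_left S.u₂, Fr.wz, mul_zero, mul_zero]) x
    have h6 := hzero x
    rw [h5, S.toForms.E_pl, P.pp', one_smul] at h6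
    exact Fr.zz h6
  exact ⟨e, α, neg_ne_zero.2 (mul_ne_zero hκ0 hα0), hα0,
    (mul_eq_zero.1 h2κ).resolve_right (mul_ne_zero hκ0 hα0), hTf⟩

/-- The shape of an image meeting `p ⊗ W` in a plane. -/
theorem pair_shape {g : GL (Fin a × Fin b) F} (hg : g ∈ H) (hk : finrank F (KX g p) = 2) :
    ∃ w w' z, Frame f₂ w w' z ∧ ∀ c, c ≠ 0 → c + σ c = 0 → ∃ e α : F, e ≠ 0 ∧ α ≠ 0 ∧ (2 : F) = 0 ∧
      ∀ u v, (conjT f₁ g p c : M2 F a b) *ᵥ pl v u = pl (v + (α * f₂ v w) • w) (u + (e * f₁ u p) • p) := by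
  classical
  have h1 := Unit.finrank_perp S.u₂ (KX g p)
  rw [hk, Fintype.card_fin] at h1
  obtain ⟨ζ, hζ, hζ0⟩ := Submodule.exists_mem_ne_zero_of_ne_bot (p := Unit.perp S.u₂ (KX g p)) (fun h => by
    rw [h, finrank_bot] at h1; omega)
  have hKζ : ∀ v, f₂ v ζ = 0 → pl v p ∈ LX g p := fun v hv => by
    have hle : KX g p ≤ Unit.perp S.u₂ (Submodule.span F {ζ}) := fun u hu => by
      rw [S.mem_perp1]
      exact Unit.eq_zero_comm S.u₂ ((Unit.mem_perp S.u₂).1 hζ u hu)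
    have := Submodule.eq_of_le_of_finrank_le hle (by rw [S.finrank_perp1 hζ0, hk]; omega)
    exact mem_KX.1 (this ▸ S.mem_perp1.2 hv)
  obtain ⟨x, hx, hxE⟩ : ∃ x ∈ LX g p, E f₁ p x ≠ 0 := by
    by_contra hc
    push Not at hc
    have hle : LX g p ≤ (KX g p).map (pr p) := fun x hx => by
      refine ⟨E f₁ p' x, ?_, ?_⟩
      · show pl (E f₁ p' x) p ∈ LX g p
        rwa [show pl (E f₁ p' x) p = x by
          conv_rhs => rw [S.toForms.split P ha2 x, hc x hx, pl_zero', add_zero]]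
      · conv_rhs => rw [S.toForms.split P ha2 x, hc x hx, pl_zero', add_zero]
        rfl
    have h2 := Submodule.finrank_mono hle
    have h3 : finrank F (LX g p) = b := by
      rw [LX, LinearMap.finrank_range_of_inj ?_, Module.finrank_fintype_fun_eq_card, Fintype.card_fin]
      intro v v' h
      have := congrArg (E f₁ p') (gl_mulVec_injective g h)
      simpa [pr_eq, S.toForms.E_pl, P.pp'] using this
    have h4 := Submodule.finrank_map_le (pr p : (Fin b → F) →ₗ[F] V2 F a b) (KX g p)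
    omega
  obtain ⟨r, hr⟩ := perp_line S.u₂ hζ0 (v := E f₁ p x) fun v hv => by
    rw [← S.toForms.hV_E', S.LX_perp hg P.pp hx (hKζ v hv)]
  have hr0 : r ≠ 0 := fun h => hxE (by rw [hr, h, zero_smul])
  set v₁ := r⁻¹ • E f₁ p' x with hv₁
  have hx1 : pl ζ p' + pl v₁ p ∈ LX g p := by
    have : pl ζ p' + pl v₁ p = r⁻¹ • x := by
      conv_rhs => rw [S.toForms.split P ha2 x, hr, smul_add, pl_smul', inv_smul_smul₀ hr0, ← pl_smul', ← hv₁,
        add_comm]
    rw [this]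
    exact Submodule.smul_mem _ _ hx
  clear_value v₁
  by_cases hζζ : f₂ ζ ζ = 0
  · obtain ⟨w', z, Fr⟩ := S.toForms.exists_frame hb3 hζ0 hζζ
    refine ⟨ζ, w', z, Fr, fun c hc0 hc => S.pairD hno ha2 hb3 P hg Fr (κ := f₂ v₁ ζ) hKζ ?_ hc0 hc⟩
    have : pl ζ p' + f₂ v₁ ζ • pl w' p = (pl ζ p' + pl v₁ p) - pl (v₁ - f₂ v₁ ζ • w') p := by
      rw [pl_sub', pl_smul']; abel
    rw [this]
    exact Submodule.sub_mem _ hx1 (hKζ _ (by rw [Unit.sub_left S.u₂, Unit.smul_left S.u₂, Fr.w'w, mul_one, sub_self]))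
  · exfalso
    set η := f₂ ζ ζ with hη
    set μ := f₂ v₁ ζ / η with hμ
    have hx2 : pl ζ p' + μ • pl ζ p ∈ LX g p := by
      have : pl ζ p' + μ • pl ζ p = (pl ζ p' + pl v₁ p) - pl (v₁ - μ • ζ) p := by rw [pl_sub', pl_smul']; abel
      rw [this]
      exact Submodule.sub_mem _ hx1 (hKζ _ (by
        rw [Unit.sub_left S.u₂, Unit.smul_left S.u₂, hμ, div_mul_cancel₀ _ hζζ, sub_self]))
    have hskew : -μ + σ (-μ) = 0 := by
      have h2 := S.LX_perp hg P.pp hx2 hx2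
      simp only [(hV_sesq f₁ f₂).add_left, (hV_sesq f₁ f₂).add_right, (hV_sesq f₁ f₂).smul_left,
        (hV_sesq f₁ f₂).smul_right, hV_pl S.toForms, P.pp, P.p'p', P.pp', P.p'p, RingEquiv.coe_toRingHom,
        RingHom.coe_coe] at h2
      rw [map_neg]
      exact (mul_eq_zero.1 (show (-μ + -σ μ) * η = 0 by rw [hη]; linear_combination -h2)).resolve_right hζζ
    set k := lft (formTv f₁ p (-μ)) with hk'
    have hkH : k ∈ H := S.left _ (Unit.formTv_isometry S.u₁ P.pp hskew)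
      (mem_specialLinear.1 (formTv_mem_specialLinear f₁ p (-μ)))
    have hmem : ∀ x, (k : M2 F a b) *ᵥ x ∈ LX (k * g) p ↔ x ∈ LX g p := fun x => by
      rw [LX_mul, gl_inv_mulVec_mulVec]
    refine S.pairN_false hno ha2 hb3 P (H.mul_mem hkH hg) hζζ (fun v hv => ?_) ?_
    · have h3 : (k : M2 F a b) *ᵥ pl v p = pl v p := by
        rw [hk', S.toForms.lftT_mulVec P.pp, S.toForms.E_pl, P.pp, zero_smul, pl_zero', smul_zero, add_zero]
      rw [← h3, hmem]
      exact hKζ v hv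
    · have h3 : (k : M2 F a b) *ᵥ (pl ζ p' + μ • pl ζ p) = pl ζ p' := by
        rw [hk', S.toForms.lftT_mulVec P.pp, map_add, map_smul, S.toForms.E_pl, S.toForms.E_pl, P.p'p, P.pp, one_smul,
          zero_smul, smul_zero, add_zero]
        module
      rw [← h3, hmem]
      exact hx2

/-- No image of `p ⊗ W` meets it in a plane. -/
theorem pair_false {g : GL (Fin a × Fin b) F} (hg : g ∈ H) (hk : finrank F (KX g p) = 2) : False := by
  classical
  obtain ⟨w, w', z, Fr, hsh⟩ := S.pair_shape hno ha2 hb3 P hg hk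
  have hk' : finrank F (KX g⁻¹ p) = 2 := by
    set φ : (Fin b → F) →ₗ[F] (Fin b → F) :=
      E f₁ p' ∘ₗ Matrix.mulVecLin ((g⁻¹ : GL (Fin a × Fin b) F) : M2 F a b) ∘ₗ pr p with hφ
    have hφv : ∀ v ∈ KX g p, ((g⁻¹ : GL (Fin a × Fin b) F) : M2 F a b) *ᵥ pl v p = pl (φ v) p ∧
        φ v ∈ KX g⁻¹ p := fun v hv => by
      obtain ⟨v', hv'⟩ := mem_LX.1 (mem_KX.1 hv)
      have e : ((g⁻¹ : GL (Fin a × Fin b) F) : M2 F a b) *ᵥ pl v p = pl v' p := by rw [← hv', gl_inv_mulVec_mulVec]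
      have e' : φ v = v' := by simp [hφ, pr_eq, e, S.toForms.E_pl, P.pp']
      exact ⟨by rw [e, e'], mem_KX.2 (mem_LX.2 ⟨v, by rw [e, e']⟩)⟩
    have h2 : 2 ≤ finrank F (KX g⁻¹ p) := by
      rw [← hk]
      refine LinearMap.finrank_le_finrank_of_injective (f := φ.restrict fun v hv => (hφv v hv).2) fun v v' h => ?_
      have h' : φ (v : Fin b → F) = φ v' := congrArg Subtype.val h
      have h3 := gl_mulVec_injective g⁻¹ (((hφv _ v.2).1.trans (by rw [h'])).trans (hφv _ v'.2).1.symm)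
      have := congrArg (E f₁ p') h3
      simp only [S.toForms.E_pl, P.pp', one_smul] at this
      exact Subtype.ext this
    have h3 := Submodule.finrank_le (KX g⁻¹ p)
    rw [Module.finrank_fintype_fun_eq_card, Fintype.card_fin] at h3
    by_contra hne
    have htop : KX g⁻¹ p = ⊤ := Submodule.eq_top_of_finrank_eq (by
      rw [Module.finrank_fintype_fun_eq_card, Fintype.card_fin]; omega)
    let L : (Fin b → F) →ₗ[F] (Fin b → F) := E f₁ p' ∘ₗ Matrix.mulVecLin (g : M2 F a b) ∘ₗ pr p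
    have hL : ∀ v, (g : M2 F a b) *ᵥ pl v p = pl (L v) p := fun v => by
      obtain ⟨v', hv'⟩ := mem_LX.1 (mem_KX.1 (show v ∈ KX g⁻¹ p from htop ▸ Submodule.mem_top))
      have e : (g : M2 F a b) *ᵥ pl v p = pl v' p := by rw [← hv', gl_mulVec_inv_mulVec]
      simp [L, pr_eq, e, S.toForms.E_pl, P.pp']
    have hLs : Function.Surjective L := LinearMap.injective_iff_surjective.1 fun v v' h => by
      have := congrArg (E f₁ p') (gl_mulVec_injective g (((hL v).trans (by rw [h])).trans (hL v').symm))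
      simpa [S.toForms.E_pl, P.pp'] using this
    have : KX g p = ⊤ := eq_top_iff.2 fun v _ => by
      obtain ⟨v', rfl⟩ := hLs v
      exact ⟨v', hL v'⟩
    rw [this, finrank_top, Module.finrank_fintype_fun_eq_card, Fintype.card_fin] at hk
    omega
  obtain ⟨w₂, w₂', z₂, Fr₂, hsh₂⟩ := S.pair_shape hno ha2 hb3 P (H.inv_mem hg) hk'
  obtain ⟨c₀, hc₀0, hc₀⟩ := Unit.exists_skew S.u₁.ne_refl S.u₁.involutive
  obtain ⟨e₂, α₂, he₂, hα₂, htwo, hT₂⟩ := hsh₂ c₀ hc₀0 hc₀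
  -- transvections of the right factor go to transvections of the right factor
  have he₂s : e₂ + σ e₂ = 0 := by
    have h0 := S.iso _ (S.conjT_mem (H.inv_mem hg) P.pp hc₀) (pl w₂ p') (pl w₂' p')
    rw [hT₂, hT₂, hV_pl S.toForms, hV_pl S.toForms, P.p'p', P.p'p, Fr₂.ww, Fr₂.ww', Fr₂.w'w, mul_one, mul_zero,
      zero_smul, add_zero, zero_mul] at h0
    simp only [Unit.add_left S.u₁, Unit.add_right S.u₁, Unit.smul_left S.u₁, Unit.smul_right S.u₁, P.pp, P.p'p',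
      P.pp', P.p'p, Unit.add_right S.u₂, Unit.smul_right S.u₂, Fr₂.ww, Fr₂.ww', mul_zero, add_zero, zero_add,
      mul_one] at h0
    linear_combination h0
  have hα₂s : α₂ + σ α₂ = 0 := by
    have h0 := S.iso _ (S.conjT_mem (H.inv_mem hg) P.pp hc₀) (pl w₂' p) (pl w₂' p')
    rw [hT₂, hT₂, hV_pl S.toForms, hV_pl S.toForms, P.pp', P.p'p, P.pp, Fr₂.w'w', Fr₂.w'w, mul_one, mul_zero,
      zero_smul, add_zero, mul_one] at h0
    simp only [Unit.add_left S.u₁, Unit.add_right S.u₁, Unit.smul_left S.u₁, Unit.smul_right S.u₁, P.pp, P.p'p',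
      P.pp', P.p'p, Unit.add_left S.u₂, Unit.add_right S.u₂, Unit.smul_left S.u₂, Unit.smul_right S.u₂, Fr₂.ww,
      Fr₂.w'w', Fr₂.ww', Fr₂.w'w, mul_zero, add_zero, zero_add, mul_one, one_mul] at h0
    linear_combination h0
  have hne' : -e₂ ≠ 0 := neg_ne_zero.2 he₂
  have hnes : -e₂ + σ (-e₂) = 0 := by rw [map_neg]; linear_combination -he₂s
  obtain ⟨e₁, α₁, he₁, hα₁, -, hT₁⟩ := hsh (-e₂) hne' hnes
  have hkey : ∀ u v, (g : M2 F a b) *ᵥ (((rgt (formTv f₂ w₂ α₂) : GL (Fin a × Fin b) F) : M2 F a b) *ᵥ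
      (((g⁻¹ : GL (Fin a × Fin b) F) : M2 F a b) *ᵥ pl v u)) =
        pl (v + (α₁ * f₂ v w) • w) (u + ((e₁ + c₀) * f₁ u p) • p) := fun u v => by
    have hprod : rgt (formTv f₂ w₂ α₂) = lft (formTv f₁ p (-e₂)) * conjT f₁ g⁻¹ p c₀ := gl_ext fun x =>
      LinearMap.congr_fun (ext_pl (f := Matrix.mulVecLin ((rgt (formTv f₂ w₂ α₂) : GL (Fin a × Fin b) F) : M2 F a b))
        (g := Matrix.mulVecLin ((lft (formTv f₁ p (-e₂)) * conjT f₁ g⁻¹ p c₀ : GL (Fin a × Fin b) F) : M2 F a b))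
        fun u v => by
          rw [Matrix.mulVecLin_apply, Matrix.mulVecLin_apply, rgt_pl, gl_mul_mulVec, hT₂, lft_pl,
            Unit.formTv_mulVec S.u₂ Fr₂.ww, Unit.formTv_mulVec S.u₁ P.pp]
          congr 1
          simp only [Unit.add_left S.u₁, Unit.smul_left S.u₁, P.pp, mul_zero, add_zero]
          module) x
    have h' : g * rgt (formTv f₂ w₂ α₂) * g⁻¹ = conjT f₁ g p (-e₂) * lft (formTv f₁ p c₀) := by
      rw [hprod, conjT, conjT, inv_inv]
      group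
    have h1 := congrArg (fun k : GL (Fin a × Fin b) F => (k : M2 F a b) *ᵥ pl v u) h'
    simp only [gl_mul_mulVec] at h1
    rw [h1, lft_pl, Unit.formTv_mulVec S.u₁ P.pp, hT₁]
    congr 1
    simp only [Unit.add_left S.u₁, Unit.smul_left S.u₁, P.pp, mul_zero, add_zero]
    module
  have he0 : e₁ + c₀ = 0 := by
    by_contra hne
    set R : (Fin b → F) →ₗ[F] (Fin b → F) := E f₁ p' ∘ₗ Matrix.mulVecLin (g : M2 F a b) ∘ₗ pl w₂ ∘ₗ
      (α₂ • Cv f₂ w₂) ∘ₗ Matrix.mulVecLin ((g⁻¹ : GL (Fin a × Fin b) F) : M2 F a b) ∘ₗ pr p' with hR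
    have hRv : ∀ v, R v = (e₁ + c₀) • (v + (α₁ * f₂ v w) • w) := fun v => by
      have h1 := hkey p' v
      have h2 : ((rgt (formTv f₂ w₂ α₂) : GL (Fin a × Fin b) F) : M2 F a b) *ᵥ
          (((g⁻¹ : GL (Fin a × Fin b) F) : M2 F a b) *ᵥ pl v p') =
          ((g⁻¹ : GL (Fin a × Fin b) F) : M2 F a b) *ᵥ pl v p' +
            α₂ • pl w₂ (Cv f₂ w₂ (((g⁻¹ : GL (Fin a × Fin b) F) : M2 F a b) *ᵥ pl v p')) :=
        LinearMap.congr_fun (ext_pl
          (f := Matrix.mulVecLin ((rgt (formTv f₂ w₂ α₂) : GL (Fin a × Fin b) F) : M2 F a b))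
          (g := LinearMap.id + α₂ • (pl w₂ ∘ₗ Cv f₂ w₂)) fun u' v' => by
            simp only [Matrix.mulVecLin_apply, LinearMap.add_apply, LinearMap.id_apply, LinearMap.smul_apply,
              LinearMap.comp_apply, rgt_pl, Unit.formTv_mulVec S.u₂ Fr₂.ww, pl_add', pl_smul', S.Cv_pl, map_smul,
              smul_smul]) _
      rw [h2, mulVec_add, gl_mulVec_inv_mulVec] at h1
      have h3 := congrArg (E f₁ p') h1
      simp only [map_add, S.toForms.E_pl, Unit.add_left S.u₁, Unit.smul_left S.u₁, P.pp', P.p'p', P.p'p, mul_one,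
        zero_smul, zero_add] at h3
      simp only [hR, LinearMap.comp_apply, Matrix.mulVecLin_apply, LinearMap.smul_apply, map_smul, pr_eq]
      rw [← h3, mulVec_smul, map_smul]
    have hinj : Function.Injective R := fun v v' h => by
      rw [hRv, hRv] at h
      have h' := smul_right_injective _ hne h
      have h2 := congrArg (fun q => f₂ q w) h'
      simp only [Unit.add_left S.u₂, Unit.smul_left S.u₂, Fr.ww, mul_zero, add_zero] at h2
      rw [h2] at h'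
      exact add_right_cancel h'
    have h1 := LinearMap.finrank_range_of_inj hinj
    have h2 : finrank F (LinearMap.range R) ≤ finrank F (Fin a → F) := by
      rw [hR, show E f₁ p' ∘ₗ Matrix.mulVecLin (g : M2 F a b) ∘ₗ pl w₂ ∘ₗ
        (α₂ • Cv f₂ w₂) ∘ₗ Matrix.mulVecLin ((g⁻¹ : GL (Fin a × Fin b) F) : M2 F a b) ∘ₗ pr p' =
        (E f₁ p' ∘ₗ Matrix.mulVecLin (g : M2 F a b) ∘ₗ pl w₂) ∘ₗ
        ((α₂ • Cv f₂ w₂) ∘ₗ Matrix.mulVecLin ((g⁻¹ : GL (Fin a × Fin b) F) : M2 F a b) ∘ₗ pr p') from rfl]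
      exact le_trans (Submodule.finrank_mono (LinearMap.range_comp_le_range _ _)) (LinearMap.finrank_range_le _)
    rw [h1, Module.finrank_fintype_fun_eq_card, Module.finrank_fintype_fun_eq_card, Fintype.card_fin,
      Fintype.card_fin] at h2
    omega
  -- so a line goes to a line
  set Em : (Fin a → F) →ₗ[F] (Fin a → F) := Cv f₂ w' ∘ₗ Matrix.mulVecLin (g : M2 F a b) ∘ₗ pl w₂ with hEm
  have hline : ∀ u, (g : M2 F a b) *ᵥ pl w₂ u = pl w (Em u) := by
    have hL : ∀ u, ∃ y, (g : M2 F a b) *ᵥ pl w₂ u = pl w y := fun u => by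
      set x := (g : M2 F a b) *ᵥ pl w₂' u with hx
      have h2 : (g : M2 F a b) *ᵥ (((rgt (formTv f₂ w₂ α₂) : GL (Fin a × Fin b) F) : M2 F a b) *ᵥ
          (((g⁻¹ : GL (Fin a × Fin b) F) : M2 F a b) *ᵥ x)) = x + α₂ • ((g : M2 F a b) *ᵥ pl w₂ u) := by
        rw [hx, gl_inv_mulVec_mulVec, rgt_pl, Unit.formTv_mulVec S.u₂ Fr₂.ww, Fr₂.w'w, mul_one, pl_add', pl_smul',
          mulVec_add, mulVec_smul]
      refine ⟨(α₁ / α₂) • Cv f₂ w x, ?_⟩
      have h3 : (g : M2 F a b) *ᵥ (((rgt (formTv f₂ w₂ α₂) : GL (Fin a × Fin b) F) : M2 F a b) *ᵥ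
          (((g⁻¹ : GL (Fin a × Fin b) F) : M2 F a b) *ᵥ x)) = x + α₁ • pl w (Cv f₂ w x) :=
        LinearMap.congr_fun (ext_pl (f := Matrix.mulVecLin (g : M2 F a b) ∘ₗ
            Matrix.mulVecLin ((rgt (formTv f₂ w₂ α₂) : GL (Fin a × Fin b) F) : M2 F a b) ∘ₗ
            Matrix.mulVecLin ((g⁻¹ : GL (Fin a × Fin b) F) : M2 F a b))
          (g := LinearMap.id + α₁ • (pl w ∘ₗ Cv f₂ w)) fun u v => by
            simp only [LinearMap.add_apply, LinearMap.id_apply, LinearMap.smul_apply, LinearMap.comp_apply,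
              Matrix.mulVecLin_apply, hkey, he0, zero_mul, zero_smul, add_zero, pl_add', pl_smul', S.Cv_pl, map_smul,
              smul_smul]) x |>.trans (by simp)
      rw [h2] at h3
      rw [map_smul, div_eq_inv_mul, mul_smul, ← add_left_cancel h3, inv_smul_smul₀ hα₂]
    intro u
    obtain ⟨y, hy⟩ := hL u
    simp [hEm, hy, S.Cv_pl, Fr.ww']
  have hw₂0 : w₂ ≠ 0 := fun h => by have := Fr₂.ww'; rw [h, Unit.zero_left S.u₂] at this; exact zero_ne_one this
  have hw0 : w ≠ 0 := fun h => by have := Fr.ww'; rw [h, Unit.zero_left S.u₂] at this; exact zero_ne_one this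
  have hEmi : Function.Injective Em := fun u u' h => S.xi_injective g hw₂0 (by
    rw [xi_apply, xi_apply, hline, hline, h])
  -- a similitude
  obtain ⟨lam, hlam0, hsim⟩ : ∃ lam : F, lam ≠ 0 ∧ ∀ u u', f₁ (Em u) (Em u') = lam * f₁ u u' := by
    set Ed : (Fin a → F) →ₗ[F] (Fin a → F) :=
      Cv f₂ w₂ ∘ₗ Matrix.mulVecLin ((g⁻¹ : GL (Fin a × Fin b) F) : M2 F a b) ∘ₗ pl w' with hEd
    have hadj : ∀ x u, f₁ (Cv f₂ w₂ (((g⁻¹ : GL (Fin a × Fin b) F) : M2 F a b) *ᵥ x)) u = f₁ (Cv f₂ w x) (Em u) :=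
      fun x u => by rw [← S.adj, ← S.iso g hg, gl_mulVec_inv_mulVec, hline, S.adj]
    have hEdC : ∀ x, Cv f₂ w₂ (((g⁻¹ : GL (Fin a × Fin b) F) : M2 F a b) *ᵥ x) = Ed (Cv f₂ w x) := fun x =>
      S.eq_of_left fun u => by
        show f₁ _ u = f₁ (Cv f₂ w₂ (((g⁻¹ : GL (Fin a × Fin b) F) : M2 F a b) *ᵥ pl w' (Cv f₂ w x))) u
        rw [hadj, hadj, S.Cv_pl, Fr.w'w, one_smul]
    obtain ⟨δ, hδ0, hδ⟩ := Unit.exists_skew S.u₁.ne_refl S.u₁.involutive
    have h1 : g * eW f₂ (δ • LinearMap.id) w₂ * g⁻¹ = eW f₂ (δ • (Em ∘ₗ Ed)) w := gl_ext fun x => by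
      rw [gl_mul_mulVec, gl_mul_mulVec, eW_mulVec S.toForms _ Fr₂.ww, eW_mulVec S.toForms _ Fr.ww, mulVec_add,
        gl_mulVec_inv_mulVec, hline, LinearMap.smul_apply, LinearMap.id_apply, map_smul, LinearMap.smul_apply,
        LinearMap.comp_apply, hEdC]
      rfl
    obtain ⟨μ, hμ⟩ := S.scalar_of_mem hno hw0 Fr.ww (P := δ • (Em ∘ₗ Ed))
      (h1 ▸ H.mul_mem (H.mul_mem hg (S.tW_mem Fr₂.ww hδ)) (H.inv_mem hg))
    have hEE : ∀ u, Ed (Em u) = (μ / δ) • u := fun u => hEmi (by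
      have := hμ (Em u)
      rw [LinearMap.smul_apply, LinearMap.comp_apply] at this
      rw [map_smul, ← inv_smul_smul₀ hδ0 (Em (Ed _)), this, smul_smul, inv_mul_eq_div])
    have hs : ∀ u u', f₁ (Em u) (Em u') = μ / δ * f₁ u u' := fun u u' => by
      have h2 : f₁ (Ed (Em u)) u' = f₁ (Em u) (Em u') := by
        rw [hEd, LinearMap.comp_apply, LinearMap.comp_apply, Matrix.mulVecLin_apply, hadj, S.Cv_pl, Fr.w'w, one_smul]
      rw [← h2, hEE, Unit.smul_left S.u₁]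
    refine ⟨μ / δ, fun h0 => ?_, hs⟩
    obtain ⟨v, hv⟩ := LinearMap.injective_iff_surjective.1 hEmi p'
    obtain ⟨u, hu⟩ := LinearMap.injective_iff_surjective.1 hEmi p
    have := hs u v
    rw [hu, hv, h0, zero_mul, P.pp'] at this
    exact one_ne_zero this
  -- conjugates of transvections of the left factor
  have hroot : ∀ q, q ≠ 0 → f₁ q q = 0 → ∀ d, d + σ d = 0 → ∃ (A : GL (Fin a) F) (B : GL (Fin b) F),
      (B : Matrix (Fin b) (Fin b) F) *ᵥ w = w ∧ (∀ v, f₂ ((B : Matrix (Fin b) (Fin b) F) *ᵥ v) w = f₂ v w) ∧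
        ∀ u v, (conjT f₁ g q d : M2 F a b) *ᵥ pl v u =
          pl ((B : Matrix (Fin b) (Fin b) F) *ᵥ v) ((A : Matrix (Fin a) (Fin a) F) *ᵥ u) := by
    intro q hq0 hq d hd
    have hEq : f₁ (Em q) (Em q) = 0 := by rw [hsim, hq, mul_zero]
    obtain ⟨-, y, c', hy, -, ht⟩ := S.line_fix hno hb3 (p := Em q) (fun h => hq0 (hEmi (by rw [h, map_zero]))) hEq Fr
      (S.conjT_mem hg hq hd) (α := d / lam) (fun u => by
        obtain ⟨u₀, rfl⟩ := LinearMap.injective_iff_surjective.1 hEmi u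
        rw [← hline, S.conjT_mulVec g hq, gl_inv_mulVec_mulVec, hline, S.toForms.E_pl, pl_smul', mulVec_smul, hline,
          hsim, div_mul_eq_mul_div, ← mul_assoc, mul_comm d lam, mul_assoc, mul_div_cancel_left₀ _ hlam0, map_add,
          map_smul, smul_smul]) (S.conjT_sq g hq d)
    have hwy := Unit.eq_zero_comm S.u₂ hy
    exact ⟨formTv f₁ (Em q) (d / lam), UnitOrth.root f₂ w y c',
      by simp [UnitOrth.root_mulVec S.u₂ Fr.ww hwy, Fr.ww, hwy],
      fun v => by simp [UnitOrth.root_mulVec S.u₂ Fr.ww hwy, Unit.add_left S.u₂, Unit.smul_left S.u₂, hy, Fr.ww],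
      fun u v => ht u v⟩
  obtain ⟨s, hs, hs0, hs1⟩ := S.small' ha2
  obtain ⟨δ, hδ0, hδ⟩ := Unit.exists_skew S.u₁.ne_refl S.u₁.involutive
  have hσδ : σ δ = -δ := eq_neg_of_add_eq_zero_right hδ
  set d₁ := δ • p' - p with hd₁
  set d₂ := s • p - δ • p' with hd₂
  have hd₁i : f₁ d₁ d₁ = 0 := by
    simp only [hd₁, Unit.sub_left S.u₁, Unit.sub_right S.u₁, Unit.smul_left S.u₁, Unit.smul_right S.u₁, P.pp,
      P.p'p', P.pp', P.p'p]
    linear_combination -hδ
  have hd₂i : f₁ d₂ d₂ = 0 := by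
    simp only [hd₂, Unit.sub_left S.u₁, Unit.sub_right S.u₁, Unit.smul_left S.u₁, Unit.smul_right S.u₁, P.pp,
      P.p'p', P.pp', P.p'p, hs]
    linear_combination -s * hδ
  have hd₁0 : d₁ ≠ 0 := fun h0 => by
    have := congrArg (fun u => f₁ u p') h0
    simp [hd₁, Unit.sub_left S.u₁, Unit.smul_left S.u₁, P.p'p', P.pp', Unit.zero_left S.u₁] at this
  have hd₂0 : d₂ ≠ 0 := fun h0 => by
    have := congrArg (fun u => f₁ u p) h0
    simp [hd₂, Unit.sub_left S.u₁, Unit.smul_left S.u₁, P.pp, P.p'p, Unit.zero_left S.u₁, hδ0] at this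
  have hc₁ : -δ⁻¹ + σ (-δ⁻¹) = 0 := by rw [map_neg, map_inv₀, hσδ, inv_neg]; ring
  have hc₂ : (δ * s)⁻¹ + σ (δ * s)⁻¹ = 0 := by rw [map_inv₀, map_mul, hσδ, hs, neg_mul, inv_neg]; ring
  set A₀ := formTv f₁ d₂ (δ * s)⁻¹ * formTv f₁ d₁ (-δ⁻¹) with hA₀
  have hA₀p : (A₀ : Matrix (Fin a) (Fin a) F) *ᵥ p = s • p := by
    have h1 : f₁ p d₁ = -δ := by
      rw [hd₁, Unit.sub_right S.u₁, Unit.smul_right S.u₁, P.pp, P.pp', hσδ]; ring
    have h2 : f₁ (δ • p') d₂ = δ * s := by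
      rw [hd₂, Unit.smul_left S.u₁, Unit.sub_right S.u₁, Unit.smul_right S.u₁, Unit.smul_right S.u₁, P.p'p, P.p'p',
        hs]; ring
    rw [hA₀, gl_mul_mulVec, Unit.formTv_mulVec S.u₁ hd₁i, h1, neg_mul_neg, inv_mul_cancel₀ hδ0, one_smul, hd₁,
      add_sub_cancel, Unit.formTv_mulVec S.u₁ hd₂i, h2, inv_mul_cancel₀ (mul_ne_zero hδ0 hs0), one_smul, hd₂,
      add_sub_cancel]
  have hA₀iso : Symp.IsIsometry f₁ A₀ := fun x y => by
    rw [hA₀, gl_mul_mulVec, gl_mul_mulVec, Unit.formTv_isometry S.u₁ hd₂i hc₂, Unit.formTv_isometry S.u₁ hd₁i hc₁]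
  clear_value A₀
  obtain ⟨A₁, B₁, hB₁w, hB₁f, hK₁⟩ := hroot d₁ hd₁0 hd₁i _ hc₁
  obtain ⟨A₂, B₂, hB₂w, hB₂f, hK₂⟩ := hroot d₂ hd₂0 hd₂i _ hc₂
  set K := conjT f₁ g d₂ (δ * s)⁻¹ * conjT f₁ g d₁ (-δ⁻¹) with hKdef
  have hKv : ∀ u v, (K : M2 F a b) *ᵥ pl v u = pl ((B₂ * B₁ : GL (Fin b) F).1 *ᵥ v)
      ((A₂ * A₁ : GL (Fin a) F).1 *ᵥ u) := fun u v => by
    rw [hKdef, gl_mul_mulVec, hK₁, hK₂, gl_mul_mulVec, gl_mul_mulVec]
  obtain ⟨e, α, -, hα, -, hTe⟩ := hsh c₀ hc₀0 hc₀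
  have hss : σ (s * s) = s * s := by rw [map_mul, hs]
  have hs2 : s * s - 1 ≠ 0 := by
    intro h0
    have h3 : (s - 1) * (s - 1) = 0 := by linear_combination h0 + (1 - s) * htwo
    exact hs1 (sub_eq_zero.1 (mul_self_eq_zero.1 h3))
  obtain ⟨e', α', -, -, -, hTe'⟩ := hsh (s * s * c₀) (mul_ne_zero (mul_ne_zero hs0 hs0) hc₀0)
    (by rw [map_mul, hss]; linear_combination (s * s) * hc₀)
  obtain ⟨e'', α'', -, hα'', -, hTe''⟩ := hsh ((s * s - 1) * c₀) (mul_ne_zero hs2 hc₀0)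
    (by rw [map_mul, map_sub, hss, map_one]; linear_combination (s * s - 1) * hc₀)
  have hlift : ∀ {α β : F} {u : Fin a → F}, u ≠ 0 → pl w' u + α • pl w u = pl w' u + β • pl w u → α = β :=
    fun {α β u} hu h => by
      have h2 := congrArg (Cv f₂ w') (add_left_cancel h)
      simp only [map_smul, S.Cv_pl, Fr.ww', one_smul] at h2
      exact smul_left_injective F hu h2
  have hp0 : p ≠ 0 := fun h0 => by have := P.pp'; rw [h0, Unit.zero_left S.u₁] at this; exact zero_ne_one this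
  -- equal under the torus
  have hαα' : α' = α := by
    have hconj : K * conjT f₁ g p c₀ = conjT f₁ g p (s * s * c₀) * K := by
      have h1 : A₀ * formTv f₁ p c₀ = formTv f₁ p (s * s * c₀) * A₀ := gl_ext fun u => by
        rw [gl_mul_mulVec, gl_mul_mulVec, Unit.formTv_mulVec S.u₁ P.pp, Unit.formTv_mulVec S.u₁ P.pp, mulVec_add,
          mulVec_smul, hA₀p, smul_smul, ← hA₀iso u p, hA₀p, Unit.smul_right S.u₁, hs]
        congr 2
        ring
      have hl : ∀ A B : GL (Fin a) F, (lft (A * B) : GL (Fin a × Fin b) F) = lft A * lft B := fun A B =>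
        gl_ext fun x => LinearMap.congr_fun (ext_pl
          (f := Matrix.mulVecLin ((lft (A * B) : GL (Fin a × Fin b) F) : M2 F a b))
          (g := Matrix.mulVecLin ((lft A * lft B : GL (Fin a × Fin b) F) : M2 F a b)) fun u v => by
            rw [Matrix.mulVecLin_apply, Matrix.mulVecLin_apply, gl_mul_mulVec, lft_pl, lft_pl, lft_pl,
              gl_mul_mulVec]) x
      have hK0 : K = g * lft A₀ * g⁻¹ := by rw [hKdef, conjT, conjT, hA₀, hl]; group
      have h2 := congrArg (fun A => g * lft A * g⁻¹) h1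
      simp only [hl] at h2
      rw [hK0, conjT, conjT]
      rw [show g * lft A₀ * g⁻¹ * (g * lft (formTv f₁ p c₀) * g⁻¹) = g * (lft A₀ * lft (formTv f₁ p c₀)) * g⁻¹ by group,
        show g * lft (formTv f₁ p (s * s * c₀)) * g⁻¹ * (g * lft A₀ * g⁻¹) =
          g * (lft (formTv f₁ p (s * s * c₀)) * lft A₀) * g⁻¹ by group]
      exact h2
    have h := congrArg (fun k : GL (Fin a × Fin b) F => (k : M2 F a b) *ᵥ pl w' p) hconj
    simp only [gl_mul_mulVec] at h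
    rw [hTe, hKv, hKv, hTe', Fr.w'w, P.pp, mul_zero, zero_smul, add_zero, mul_one] at h
    simp only [gl_mul_mulVec] at h
    rw [hB₂f, hB₁f, Fr.w'w, mul_one, mulVec_add, mulVec_add, mulVec_smul, mulVec_smul, hB₁w, hB₂w] at h
    set X := (A₂ : Matrix (Fin a) (Fin a) F) *ᵥ ((A₁ : Matrix (Fin a) (Fin a) F) *ᵥ p) with hX
    set Y := (B₂ : Matrix (Fin b) (Fin b) F) *ᵥ ((B₁ : Matrix (Fin b) (Fin b) F) *ᵥ w') with hY
    set X' := X + (e' * f₁ X p) • p
    have hYw : f₂ Y w = 1 := by rw [hY, hB₂f, hB₁f, Fr.w'w]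
    have h1 := congrArg (Cv f₂ w) h
    simp only [S.Cv_pl, Unit.add_left S.u₂, Unit.smul_left S.u₂, Fr.ww, hYw, mul_zero, add_zero, one_smul] at h1
    rw [← h1, pl_add', pl_add', pl_smul', pl_smul'] at h
    have h2 := congrArg (Cv f₂ w') (add_left_cancel h)
    simp only [map_smul, S.Cv_pl, Fr.ww', one_smul] at h2
    have hX0 : X ≠ 0 := fun h0 => hp0 (gl_mulVec_injective A₁ (gl_mulVec_injective A₂ (by
      beta_reduce; rw [← hX, h0, mulVec_zero, mulVec_zero])))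
    exact (smul_left_injective F hX0 h2).symm
  -- additive
  have hadd : α'' + α = α' := by
    have h := congrArg (fun k : GL (Fin a × Fin b) F => (k : M2 F a b) *ᵥ pl w' p)
      (S.conjT_add g P.pp ((s * s - 1) * c₀) c₀)
    simp only [gl_mul_mulVec] at h
    rw [show (s * s - 1) * c₀ + c₀ = s * s * c₀ by ring, hTe, hTe', hTe''] at h
    simp only [P.pp, Fr.w'w, Fr.ww, mul_zero, zero_smul, add_zero, mul_one, Unit.add_left S.u₂,
      Unit.smul_left S.u₂, pl_add', pl_smul', add_assoc, ← add_smul] at h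
    rw [add_comm]
    exact hlift hp0 h
  rw [hαα', add_eq_right] at hadd
  exact hα'' hadd

end Setting

end CfsgLib.GeomClasses.UnitTensor
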