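import Mathlib.FieldTheory.ChevalleyWarning
import Cfsg.Agent.Lib.GeomClasses.Unit

/-!
A family of hermitian matrices with more parameters than its size plus two contains a singular member with
vanishing quadratic side condition (Chevalley–Warning over the fixed field).
-/

set_option autoImplicit false
set_option linter.unusedSectionVars false
set_option linter.style.haveILetI false

namespace CfsgLib.GeomClasses.UnitTensor

open Matrix MvPolynomial

variable {F : Type*} [Field F] [Fintype F]

/-- The fixed field. -/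
def fixedField (σ : F ≃+* F) : Subfield F := RingHom.eqLocusField (σ : F →+* F) (RingHom.id F)

theorem mem_fixedField {σ : F ≃+* F} {x : F} : x ∈ fixedField σ ↔ σ x = x := Iff.rfl

variable {σ : F ≃+* F}

/-- A polynomial with fixed values has the same values as a polynomial over the fixed field. -/
theorem exists_descend (hσ : σ ≠ RingEquiv.refl F) (hσ2 : ∀ a, σ (σ a) = a) {κ : Type} [Fintype κ]
    (p : MvPolynomial κ F) (hp : ∀ x : κ → fixedField σ, σ (eval (fun i => (x i : F)) p) = eval (fun i => (x i : F)) p) :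
    ∃ p₀ : MvPolynomial κ (fixedField σ), p₀.totalDegree ≤ p.totalDegree ∧
      ∀ x : κ → fixedField σ, (eval x p₀ : F) = eval (fun i => (x i : F)) p := by
  classical
  obtain ⟨e, he⟩ := Unit.exists_trace hσ hσ2 (map_one σ)
  let τ : F → fixedField σ := fun z => ⟨e * z + σ (e * z), by
    rw [mem_fixedField, map_add, hσ2, add_comm]⟩
  refine ⟨∑ s ∈ p.support, monomial s (τ (coeff s p)), ?_, fun x => ?_⟩
  · refine (totalDegree_finsetSum _ _).trans (Finset.sup_le fun s hs => ?_)
    exact (totalDegree_monomial_le _ _).trans (le_totalDegree hs)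
  · set m : (κ →₀ ℕ) → F := fun s => s.prod fun i k => (x i : F) ^ k with hm
    have hm' : ∀ s, ((s.prod fun i k => x i ^ k : fixedField σ) : F) = m s := fun s => by
      simp [hm, Finsupp.prod]
    have hev : eval (fun i => (x i : F)) p = ∑ s ∈ p.support, coeff s p * m s := by
      rw [eval_eq]; rfl
    have hfix : ∀ s, σ (m s) = m s := fun s => by
      rw [← hm']; exact mem_fixedField.1 (SetLike.coe_mem _)
    have h := hp x
    rw [hev, map_sum] at h
    rw [map_sum, AddSubmonoidClass.coe_finsetSum, hev]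
    calc ∑ s ∈ p.support, ((eval x (monomial s (τ (coeff s p))) : fixedField σ) : F)
        = ∑ s ∈ p.support, (e * (coeff s p * m s) + σ e * σ (coeff s p * m s)) := by
          refine Finset.sum_congr rfl fun s _ => ?_
          rw [eval_monomial, Subfield.coe_mul, hm']
          show (e * coeff s p + σ (e * coeff s p)) * m s = _
          rw [map_mul, map_mul, hfix]
          ring
      _ = ∑ s ∈ p.support, coeff s p * m s := by
          rw [Finset.sum_add_distrib, ← Finset.mul_sum, ← Finset.mul_sum, h, ← add_mul, he, one_mul]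

/-- Common zero of a determinant and a quadratic condition. -/
theorem exists_singular (hσ : σ ≠ RingEquiv.refl F) (hσ2 : ∀ a, σ (σ a) = a) {κ : Type} [Fintype κ] {m : ℕ}
    (hm : 0 < m) (hcard : m + 2 < Fintype.card κ) (A : κ → Matrix (Fin m) (Fin m) F) (hA : ∀ i r s, σ (A i r s) = A i s r)
    (Q : κ → κ → F)
    (hQ : ∀ x : κ → F, (∀ i, σ (x i) = x i) → σ (∑ i, ∑ j, x i * x j * Q i j) = ∑ i, ∑ j, x i * x j * Q i j) :
    ∃ x : κ → F, x ≠ 0 ∧ (∀ i, σ (x i) = x i) ∧ (∑ i, x i • A i).det = 0 ∧
      ∑ i, ∑ j, x i * x j * Q i j = 0 := by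
  classical
  let Mp : Matrix (Fin m) (Fin m) (MvPolynomial κ F) := fun r s => ∑ i, monomial (Finsupp.single i 1) (A i r s)
  let qp : MvPolynomial κ F := ∑ i, ∑ j, monomial (Finsupp.single i 1 + Finsupp.single j 1) (Q i j)
  have hMev : ∀ x : κ → F, eval x Mp.det = (∑ i, x i • A i).det := fun x => by
    rw [RingHom.map_det]
    congr 1
    ext r s
    show eval x (Mp r s) = (∑ i, x i • A i) r s
    simp only [Mp, Matrix.sum_apply, map_sum, Matrix.smul_apply, smul_eq_mul]
    refine Finset.sum_congr rfl fun i _ => ?_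
    rw [← C_mul_X_eq_monomial, map_mul, eval_C, eval_X, mul_comm]
  have hqev : ∀ x : κ → F, eval x qp = ∑ i, ∑ j, x i * x j * Q i j := fun x => by
    simp only [qp, map_sum, eval_monomial]
    refine Finset.sum_congr rfl fun i _ => Finset.sum_congr rfl fun j _ => ?_
    rw [Finsupp.prod_add_index' (fun a => pow_zero _) (fun a b c => pow_add _ _ _)]
    simp [mul_comm]
  have hMd : Mp.det.totalDegree ≤ m := by
    rw [Matrix.det_apply]
    refine (totalDegree_finsetSum _ _).trans (Finset.sup_le fun τ _ => ?_)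
    refine (totalDegree_smul_le _ _).trans ((totalDegree_finsetProd _ _).trans ?_)
    refine (Finset.sum_le_card_nsmul _ _ 1 fun r _ => ?_).trans (by simp)
    refine (totalDegree_finsetSum _ _).trans (Finset.sup_le fun i _ => ?_)
    exact (totalDegree_monomial_le _ _).trans (by simp)
  have hqd : qp.totalDegree ≤ 2 := by
    refine (totalDegree_finsetSum _ _).trans (Finset.sup_le fun i _ => ?_)
    refine (totalDegree_finsetSum _ _).trans (Finset.sup_le fun j _ => ?_)
    refine (totalDegree_monomial_le _ _).trans ?_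
    rw [Finsupp.sum_add_index' (fun a => rfl) (fun a b c => rfl)]
    simp
  have hdet : ∀ x : κ → F, (∀ i, σ (x i) = x i) → σ (∑ i, x i • A i).det = (∑ i, x i • A i).det := by
    intro x hx
    conv_rhs => rw [← Matrix.det_transpose]
    rw [RingEquiv.map_det]
    congr 1
    ext r s
    simp [Matrix.sum_apply, hA, hx]
  obtain ⟨p₀, hp₀, hp₀e⟩ := exists_descend hσ hσ2 Mp.det fun x => by
    rw [hMev]; exact hdet _ fun i => mem_fixedField.1 (SetLike.coe_mem _)
  obtain ⟨q₀, hq₀, hq₀e⟩ := exists_descend hσ hσ2 qp fun x => by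
    rw [hqev]; exact hQ _ fun i => mem_fixedField.1 (SetLike.coe_mem _)
  haveI : Fintype (fixedField σ) := Fintype.ofFinite _
  obtain ⟨p, hchar⟩ := CharP.exists (fixedField σ)
  haveI := hchar
  have hp : Nat.Prime p := (CharP.char_is_prime_or_zero (fixedField σ) p).resolve_right
    (CharP.char_ne_zero_of_finite (fixedField σ) p)
  have hdvd := char_dvd_card_solutions_of_add_lt (σ := κ) p (f₁ := p₀) (f₂ := q₀) (by omega)
  have hz : eval (0 : κ → fixedField σ) p₀ = 0 ∧ eval (0 : κ → fixedField σ) q₀ = 0 := by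
    constructor
    · apply Subtype.ext
      rw [hp₀e, hMev]
      haveI : Nonempty (Fin m) := Fin.pos_iff_nonempty.1 hm
      simp
    · apply Subtype.ext
      rw [hq₀e, hqev]
      simp
  have h1 : 1 < Fintype.card {x : κ → fixedField σ // eval x p₀ = 0 ∧ eval x q₀ = 0} :=
    lt_of_lt_of_le hp.one_lt (Nat.le_of_dvd (Fintype.card_pos_iff.2 ⟨⟨0, hz⟩⟩) hdvd)
  obtain ⟨⟨x, hx1, hx2⟩, hx0⟩ := Fintype.exists_ne_of_one_lt_card h1 ⟨0, hz⟩
  refine ⟨fun i => x i, fun h => hx0 (Subtype.ext (funext fun i => Subtype.ext (congrFun h i))),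
    fun i => mem_fixedField.1 (SetLike.coe_mem _), ?_, ?_⟩
  · rw [← hMev, ← hp₀e, hx1]; rfl
  · rw [← hqev, ← hq₀e, hx2]; rfl

/-- A zero of the determinant alone. -/
theorem exists_singular_det (hσ : σ ≠ RingEquiv.refl F) (hσ2 : ∀ a, σ (σ a) = a) {κ : Type} [Fintype κ] {m : ℕ}
    (hm : 0 < m) (hcard : m < Fintype.card κ) (A : κ → Matrix (Fin m) (Fin m) F)
    (hA : ∀ i r s, σ (A i r s) = A i s r) :
    ∃ x : κ → F, x ≠ 0 ∧ (∀ i, σ (x i) = x i) ∧ (∑ i, x i • A i).det = 0 := by
  classical
  let Mp : Matrix (Fin m) (Fin m) (MvPolynomial κ F) := fun r s => ∑ i, monomial (Finsupp.single i 1) (A i r s)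
  have hMev : ∀ x : κ → F, eval x Mp.det = (∑ i, x i • A i).det := fun x => by
    rw [RingHom.map_det]
    congr 1
    ext r s
    show eval x (Mp r s) = (∑ i, x i • A i) r s
    simp only [Mp, Matrix.sum_apply, map_sum, Matrix.smul_apply, smul_eq_mul]
    refine Finset.sum_congr rfl fun i _ => ?_
    rw [← C_mul_X_eq_monomial, map_mul, eval_C, eval_X, mul_comm]
  have hMd : Mp.det.totalDegree ≤ m := by
    rw [Matrix.det_apply]
    refine (totalDegree_finsetSum _ _).trans (Finset.sup_le fun τ _ => ?_)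
    refine (totalDegree_smul_le _ _).trans ((totalDegree_finsetProd _ _).trans ?_)
    refine (Finset.sum_le_card_nsmul _ _ 1 fun r _ => ?_).trans (by simp)
    refine (totalDegree_finsetSum _ _).trans (Finset.sup_le fun i _ => ?_)
    exact (totalDegree_monomial_le _ _).trans (by simp)
  have hdet : ∀ x : κ → F, (∀ i, σ (x i) = x i) → σ (∑ i, x i • A i).det = (∑ i, x i • A i).det := by
    intro x hx
    conv_rhs => rw [← Matrix.det_transpose]
    rw [RingEquiv.map_det]
    congr 1
    ext r s
    simp [Matrix.sum_apply, hA, hx]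
  obtain ⟨p₀, hp₀, hp₀e⟩ := exists_descend hσ hσ2 Mp.det fun x => by
    rw [hMev]; exact hdet _ fun i => mem_fixedField.1 (SetLike.coe_mem _)
  haveI : Fintype (fixedField σ) := Fintype.ofFinite _
  obtain ⟨p, hchar⟩ := CharP.exists (fixedField σ)
  haveI := hchar
  have hp : Nat.Prime p := (CharP.char_is_prime_or_zero (fixedField σ) p).resolve_right
    (CharP.char_ne_zero_of_finite (fixedField σ) p)
  have hdvd := char_dvd_card_solutions (σ := κ) p (f := p₀) (by omega)
  have hz : eval (0 : κ → fixedField σ) p₀ = 0 := by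
    apply Subtype.ext
    rw [hp₀e, hMev]
    haveI : Nonempty (Fin m) := Fin.pos_iff_nonempty.1 hm
    simp
  have h1 : 1 < Fintype.card {x : κ → fixedField σ // eval x p₀ = 0} :=
    lt_of_lt_of_le hp.one_lt (Nat.le_of_dvd (Fintype.card_pos_iff.2 ⟨⟨0, hz⟩⟩) hdvd)
  obtain ⟨⟨x, hx1⟩, hx0⟩ := Fintype.exists_ne_of_one_lt_card h1 ⟨0, hz⟩
  refine ⟨fun i => x i, fun h => hx0 (Subtype.ext (funext fun i => Subtype.ext (congrFun h i))),
    fun i => mem_fixedField.1 (SetLike.coe_mem _), ?_⟩
  rw [← hMev, ← hp₀e, hx1]; rfl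

end CfsgLib.GeomClasses.UnitTensor
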