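import Cfsg.Agent.Lib.GeomClasses.UnitTensor.Line
import Cfsg.Agent.Lib.GeomClasses.UnitTensor.Zero

/-!
Without an extra element every member is a line, so every element respects the tensor decomposition.
-/

set_option autoImplicit false
set_option linter.unusedSectionVars false
set_option linter.unusedSimpArgs false

namespace CfsgLib.GeomClasses.UnitTensor

open Matrix Module TensorMax
open scoped Kronecker

variable {F : Type*} [Field F] [Fintype F] {a b : ℕ} {σ : F ≃+* F}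
  {f₁ : (Fin a → F) → (Fin a → F) → F} {f₂ : (Fin b → F) → (Fin b → F) → F}

attribute [-simp] Matrix.coe_units_inv

namespace Setting

variable {H : Subgroup (GL (Fin a × Fin b) F)} (S : Setting σ f₁ f₂ H)
include S

/-- A bound on the intersections of members with lines. -/
def Bound (k : ℕ) : Prop :=
  ∀ g ∈ H, ∀ v w : Fin b → F, v ≠ 0 → f₂ v v = 0 → w ≠ 0 → f₂ w w = 0 →
    S.K1 g v w ≠ ⊤ → finrank F (S.K1 g v w) ≤ k

theorem line_of_top {g : GL (Fin a × Fin b) F} {v w : Fin b → F} (hv : v ≠ 0) (h : S.K1 g v w = ⊤) :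
    S.IsLine g v :=
  ⟨w, S.range_eq_of_le hv fun _ => S.mem_K1.1 (h ▸ Submodule.mem_top)⟩

theorem K1_bot_of_line {g : GL (Fin a × Fin b) F} {v w : Fin b → F} (hv : v ≠ 0) (hl : S.IsLine g v)
    (h : S.K1 g v w ≠ ⊤) : S.K1 g v w = ⊥ := by
  obtain ⟨s, hs⟩ := hl
  rw [Submodule.eq_bot_iff]
  intro u hu
  obtain ⟨q, hq⟩ := S.mem_K1.1 hu
  obtain ⟨p, hp⟩ : S.xi g v u ∈ (L s : Submodule F (V2 F a b)) := hs ▸ LinearMap.mem_range_self _ u
  have hind : ∀ c : F, s ≠ c • w := by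
    rintro c rfl
    refine h (eq_top_iff.2 fun x _ => ?_)
    obtain ⟨r, hr⟩ : S.xi g v x ∈ (L (c • w) : Submodule F (V2 F a b)) := hs ▸ LinearMap.mem_range_self _ x
    exact ⟨c • r, by rw [map_smul, ← pl_smul', hr]⟩
  obtain ⟨θ, hθw, hθs⟩ := exists_perp_of_notMem hind
  have e := congrArg (C θ) (hp.trans hq.symm)
  rw [C_pl, C_pl, hθw, hθs, one_smul, zero_smul] at e
  exact S.xi_injective g hv (by rw [← hp, e, map_zero, map_zero])

theorem self_adjoint {g : GL (Fin a × Fin b) F} (hg : g ∈ H) (v w : Fin b → F) (u u' : Fin a → F) :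
    f₁ (Cv f₂ w (S.xi g v (S.co g v (pl w u)))) u' = f₁ u (Cv f₂ w (S.xi g v (S.co g v (pl w u')))) := by
  rw [S.adjPQ hg, S.adjPQ' hg]

variable (hno : ¬ S.HasExtra)
include hno

/-- The pairing of a member with a line at maximal intersection is zero or perfect. -/
theorem rank_dichotomy {k : ℕ} (hb : S.Bound k) {g : GL (Fin a × Fin b) F} (hg : g ∈ H) {v w : Fin b → F}
    (hv : f₂ v v = 0) (hw0 : w ≠ 0) (hw : f₂ w w = 0) (hk : finrank F (S.K1 g v w) = k) :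
    LinearMap.ker (Cv f₂ w ∘ₗ S.xi g v) = S.K1 g v w ∨ ∀ u, Cv f₂ w (S.xi g v u) = 0 := by
  refine or_iff_not_imp_right.2 fun hne => ?_
  push Not at hne
  obtain ⟨u₁, hu₁⟩ := hne
  set P := Cv f₂ w ∘ₗ S.xi g v with hP
  have hle : S.K1 g v w ≤ LinearMap.ker P := fun u hu => by
    obtain ⟨r, hr⟩ := S.mem_K1.1 hu
    rw [LinearMap.mem_ker, hP, LinearMap.comp_apply, ← hr, S.Cv_pl, hw, zero_smul]
  refine (Submodule.eq_of_le_of_finrank_le hle ?_).symm
  by_contra hlt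
  push Not at hlt
  set Q₁ : (Fin a → F) →ₗ[F] (Fin a → F) := S.co g v ∘ₗ pl w with hQ₁
  have hker : Unit.perp S.u₁ (LinearMap.range P) ≤ LinearMap.ker Q₁ := fun u hu => by
    rw [LinearMap.mem_ker]
    refine S.eq_of_left fun u' => ?_
    rw [Unit.zero_left S.u₁, hQ₁, LinearMap.comp_apply, S.adjPQ' hg]
    exact (Unit.mem_perp S.u₁).1 hu _ ⟨u', rfl⟩
  have hd : k < finrank F (LinearMap.ker Q₁) := by
    have h1 := Unit.finrank_perp S.u₁ (LinearMap.range P)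
    have h2 := LinearMap.finrank_range_add_finrank_ker P
    have h3 := Submodule.finrank_mono hker
    rw [Fintype.card_fin] at h1
    rw [Module.finrank_fintype_fun_eq_card, Fintype.card_fin] at h2
    omega
  obtain ⟨c, hc0, hc⟩ := Unit.exists_skew S.u₂.ne_refl S.u₂.involutive
  obtain ⟨t, ht, htx, -⟩ := S.root_mem hg hv hc
  have hsub : LinearMap.ker Q₁ ≤ S.K1 t w w := fun u hu => by
    rw [LinearMap.mem_ker] at hu
    rw [mem_K1, xi_apply, htx, show S.co g v (pl w u) = Q₁ u from rfl, hu, map_zero, smul_zero, add_zero]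
    exact pl_mem_L _ _
  have htop : S.K1 t w w = ⊤ := by
    by_contra hne
    have h1 := hb t ht w w hw0 hw hw0 hw hne
    have h2 := Submodule.finrank_mono hsub
    omega
  refine S.stab_false hno hg hv hw0 hw (u₀ := ?_) ?_ fun u => ?_
  · exact Classical.choose (show ∃ u₀, S.co g v (pl w u₀) ≠ 0 by
      by_contra hc'
      push Not at hc'
      exact hu₁ (S.eq_of_left fun u' => by rw [S.adjPQ hg, hc', Unit.zero_right S.u₁, Unit.zero_left S.u₁]))
  · exact Classical.choose_spec (show ∃ u₀, S.co g v (pl w u₀) ≠ 0 by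
      by_contra hc'
      push Not at hc'
      exact hu₁ (S.eq_of_left fun u' => by rw [S.adjPQ hg, hc', Unit.zero_right S.u₁, Unit.zero_left S.u₁]))
  · have h1 : (t : M2 F a b) *ᵥ pl w u ∈ (L w : Submodule F (V2 F a b)) := S.mem_K1.1 (htop ▸ Submodule.mem_top)
    rw [htx, Submodule.add_mem_iff_right _ (pl_mem_L _ _)] at h1
    exact (Submodule.smul_mem_iff _ hc0).1 h1

/-- No conjugate of a member by a Siegel element is perpendicular to it. -/
theorem kernel_false (hb : S.Bound 0) {g : GL (Fin a × Fin b) F} (hg : g ∈ H) {v w : Fin b → F} (hv0 : v ≠ 0)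
    (hv : f₂ v v = 0) (hw0 : w ≠ 0) (hw : f₂ w w = 0) (hnl : ¬ S.IsLine g v) {y : Fin b → F}
    (hy : f₂ y w = 0) (hyy : f₂ y y = 0) {d : F} (hd : d + σ d = 0)
    (hne : (∀ c : F, y ≠ c • w) ∨ (y = 0 ∧ d ≠ 0)) {n : GL (Fin a × Fin b) F} (hn : n ∈ H)
    (hnx : ∀ x, (n : M2 F a b) *ᵥ x = x + pl y (Cv f₂ w x) + (d • pl w (Cv f₂ w x) - pl w (Cv f₂ y x)))
    (hN : ∀ u, S.co g v ((n : M2 F a b) *ᵥ S.xi g v u) = 0) : False := by
  have ha := S.two_le
  set P := Cv f₂ w ∘ₗ S.xi g v with hP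
  have hPi : Function.Injective P := by
    rw [← LinearMap.ker_eq_bot]
    have hbot : S.K1 g v w = ⊥ :=
      Submodule.finrank_eq_zero.1 (Nat.le_zero.1 (hb g hg v w hv0 hv hw0 hw fun h => hnl (S.line_of_top hv0 h)))
    rcases S.rank_dichotomy hno hb hg hv hw0 hw (by rw [hbot, finrank_bot]) with h | h
    · rw [h, hbot]
    · exact absurd (S.line_of_perp hno hg hv0 hv hw0 hw h) hnl
  set Q₁ : (Fin a → F) →ₗ[F] (Fin a → F) := S.co g v ∘ₗ pl w with hQ₁
  have hQi : Function.Injective Q₁ := fun u u' h => by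
    refine S.eq_of_left fun r => ?_
    obtain ⟨p, rfl⟩ := LinearMap.injective_iff_surjective.1 hPi r
    rw [hP, LinearMap.comp_apply, ← S.adjPQ' hg, ← S.adjPQ' hg, show S.co g v (pl w u) = Q₁ u from rfl, h]
    rfl
  have hnw : ∀ u, (n : M2 F a b) *ᵥ pl w u = pl w u := fun u => by
    rw [hnx, S.Cv_pl, S.Cv_pl, hw, Unit.eq_zero_comm S.u₂ hy]
    simp
  have hnξ : ∀ u, (n : M2 F a b) *ᵥ S.xi g v u =
      S.xi g v u + pl y (P u) + (d • pl w (P u) - pl w (Cv f₂ y (S.xi g v u))) := fun u => hnx _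
  rcases hne with hyw | ⟨hy0, hd0⟩
  swap
  · set e : Fin a → F := Pi.single ⟨0, by omega⟩ 1
    have h1 := hN e
    rw [hnξ, hy0, S.Cv_zero, pl_zero', map_zero, add_zero, sub_zero, map_add, S.co_xi g hv, zero_add, map_smul,
      smul_eq_zero] at h1
    have h2 : P e = 0 := hQi (by rw [map_zero]; exact h1.resolve_left hd0)
    have h3 : e = 0 := hPi (by rw [h2, map_zero])
    simpa [e] using congrFun h3 ⟨0, by omega⟩
  obtain ⟨c, hc0, hc⟩ := Unit.exists_skew S.u₂.ne_refl S.u₂.involutive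
  obtain ⟨t, ht, htx, -⟩ := S.root_mem hg hv hc
  obtain ⟨t', ht', htx', -⟩ := S.root_mem (H.mul_mem hn hg) hv (c := -c) (by rw [map_neg]; linear_combination -hc)
  have hxi' : ∀ u, S.xi (n * g) v u = (n : M2 F a b) *ᵥ S.xi g v u := fun u => by
    rw [xi_apply, xi_apply, gl_mul_mulVec]
  have hco' : ∀ x, S.co (n * g) v x = S.co g v (((n⁻¹ : GL (Fin a × Fin b) F) : M2 F a b) *ᵥ x) := fun x => by
    rw [co_apply, co_apply, _root_.mul_inv_rev, gl_mul_mulVec]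
  set A₀ : (Fin a → F) →ₗ[F] (Fin a → F) := P ∘ₗ Q₁ with hA₀
  set e := t * t' with he
  have he' : e ∈ H := H.mul_mem ht ht'
  have hew : ∀ u, (e : M2 F a b) *ᵥ pl w u =
      pl w (u + c • (Cv f₂ y (S.xi g v (Q₁ u)) - d • A₀ u)) - c • pl y (A₀ u) := fun u => by
    rw [he, gl_mul_mulVec, htx', htx, hco', S.fix_inv hnw, hxi', show S.co g v (pl w u) = Q₁ u from rfl, map_add,
      map_smul (S.co g v), hN, smul_zero, add_zero, show S.co g v (pl w u) = Q₁ u from rfl, hnξ]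
    rw [show P (Q₁ u) = A₀ u from rfl, map_add, map_smul, map_sub, map_smul]
    module
  obtain ⟨w', -, hw'⟩ := S.exists_partner hw0 hw
  obtain ⟨z₀, hz₀, hyz₀⟩ : ∃ z, f₂ z w = 0 ∧ f₂ y z ≠ 0 := by
    by_contra hc'
    push Not at hc'
    obtain ⟨r, hr⟩ := S.mem_line_of_perp hw0 hc'
    exact hyw r hr
  set z := σ (f₂ y z₀)⁻¹ • z₀ with hzdef
  have hz : f₂ z w = 0 := by rw [hzdef, Unit.smul_left S.u₂, hz₀, mul_zero]
  have hyz : f₂ y z = 1 := by rw [hzdef, Unit.smul_right S.u₂, S.u₂.involutive, inv_mul_cancel₀ hyz₀]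
  have hwz : f₂ w z = 0 := Unit.eq_zero_comm S.u₂ hz
  have hwy : f₂ w y = 0 := Unit.eq_zero_comm S.u₂ hy
  have hA0i : Function.Injective A₀ := hPi.comp hQi
  obtain ⟨s₀, hs₀⟩ := S.line_of_perp hno he' hw0 hw hw0 hw fun u => by
    rw [xi_apply, hew, map_sub, map_smul, S.Cv_pl, S.Cv_pl, hw, hy]
    simp
  have hs₀' : ∀ u, ∃ q, (e : M2 F a b) *ᵥ pl w u = pl s₀ q := fun u => by
    obtain ⟨q, hq⟩ : (e : M2 F a b) *ᵥ pl w u ∈ (L s₀ : Submodule F (V2 F a b)) :=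
      hs₀ ▸ LinearMap.mem_range_self (S.xi e w) u
    exact ⟨q, hq.symm⟩
  choose B hB using hs₀'
  have hBz : ∀ u, f₂ s₀ z • B u = -(c • A₀ u) := fun u => by
    have h1 := congrArg (Cv f₂ z) ((hB u).symm.trans (hew u))
    rw [map_sub, map_smul, S.Cv_pl, S.Cv_pl, S.Cv_pl, hwz, hyz, zero_smul, one_smul, zero_sub] at h1
    exact h1
  have hBw : ∀ u, f₂ s₀ w' • B u = u + c • (Cv f₂ y (S.xi g v (Q₁ u)) - d • A₀ u) - c • (f₂ y w' • A₀ u) :=
    fun u => by
    have h1 := congrArg (Cv f₂ w') ((hB u).symm.trans (hew u))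
    rw [map_sub, map_smul, S.Cv_pl, S.Cv_pl, S.Cv_pl,
      show f₂ w w' = 1 by rw [← Unit.conj_form S.u₂, hw', map_one], one_smul] at h1
    exact h1
  have hsz : f₂ s₀ z ≠ 0 := fun h0 => by
    set e₀ : Fin a → F := Pi.single ⟨0, by omega⟩ 1
    have h1 := hBz e₀
    rw [h0, zero_smul, eq_comm, neg_eq_zero, smul_eq_zero] at h1
    have h3 : e₀ = 0 := hA0i (by rw [h1.resolve_left hc0, map_zero])
    simpa [e₀] using congrFun h3 ⟨0, by omega⟩
  set κ := c * f₂ y w' - c * (f₂ s₀ w' / f₂ s₀ z) with hκ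
  have hR : ∀ u, u + c • (Cv f₂ y (S.xi g v (Q₁ u)) - d • A₀ u) = κ • A₀ u := fun u => by
    have e1 : f₂ s₀ w' • B u = (f₂ s₀ w' / f₂ s₀ z) • -(c • A₀ u) := by
      rw [← hBz, smul_smul, div_mul_cancel₀ _ hsz]
    have h2 := hBw u
    rw [e1] at h2
    rw [hκ, sub_smul, mul_smul, mul_smul, smul_comm c (f₂ s₀ w' / f₂ s₀ z)]
    rw [smul_neg, eq_comm, sub_eq_iff_eq_add] at h2
    rw [h2]
    abel
  set s := κ • w - c • y with hs
  have hes : ∀ u, (e : M2 F a b) *ᵥ pl w u = pl s (A₀ u) := fun u => by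
    rw [hew, hR, hs, pl_sub', pl_smul', pl_smul', map_smul]
  have hs0 : s ≠ 0 := fun h0 => by
    rw [hs, sub_eq_zero] at h0
    exact hyw (c⁻¹ * κ) (by rw [mul_smul, h0, inv_smul_smul₀ hc0])
  have hss : f₂ s s = 0 := by
    rw [hs]
    simp [Unit.sub_left S.u₂, Unit.sub_right S.u₂, Unit.smul_left S.u₂, Unit.smul_right S.u₂, hw, hyy, hwy, hy]
  have hA0adj : ∀ u u', f₁ (A₀ u) u' = f₁ u (A₀ u') := S.self_adjoint hg v w
  have hCs : ∀ x, Cv f₂ w (((e⁻¹ : GL (Fin a × Fin b) F) : M2 F a b) *ᵥ x) = A₀ (Cv f₂ s x) := fun x =>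
    S.eq_of_left fun u' => by rw [hA0adj, ← S.adj, ← S.iso e he', gl_mulVec_inv_mulVec, hes, S.adj]
  obtain ⟨δ, hδ0, hδ⟩ := Unit.exists_skew S.u₂.ne_refl S.u₂.involutive
  obtain ⟨lam, hlam⟩ := S.scalar_of_mem hno hs0 hss (P := δ • (A₀ ∘ₗ A₀)) (by
    have h1 : e * eW f₂ (δ • LinearMap.id) w * e⁻¹ = eW f₂ (δ • (A₀ ∘ₗ A₀)) s := gl_ext fun x => by
      rw [gl_mul_mulVec, gl_mul_mulVec, eW_mulVec S.toForms _ hw, eW_mulVec S.toForms _ hss, mulVec_add,
        gl_mulVec_inv_mulVec, hCs, hes, LinearMap.smul_apply, LinearMap.id_apply, LinearMap.smul_apply,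
        LinearMap.comp_apply, map_smul]
      simp only [hA₀, LinearMap.comp_apply, map_smul]
    rw [← h1]
    exact H.mul_mem (H.mul_mem he' (S.tW_mem hw hδ)) (H.inv_mem he'))
  set lam' := lam / δ with hlam'
  have hAA : ∀ u, A₀ (A₀ u) = lam' • u := fun u => by
    have h1 := hlam u
    rw [LinearMap.smul_apply, LinearMap.comp_apply] at h1
    rw [← inv_smul_smul₀ hδ0 (A₀ (A₀ u)), h1, smul_smul, inv_mul_eq_div]
  have hfix : σ lam' = lam' := by
    set e₀ : Fin a → F := Pi.single ⟨0, by omega⟩ 1 with he₀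
    obtain ⟨u', hu'⟩ := (S.u₁.nondegenerate e₀ (by simp [he₀])).2
    have h1 : f₁ (A₀ (A₀ e₀)) u' = f₁ e₀ (A₀ (A₀ u')) := by rw [hA0adj, hA0adj]
    rw [hAA, hAA, Unit.smul_left S.u₁, Unit.smul_right S.u₁] at h1
    exact (mul_right_cancel₀ hu' h1).symm
  obtain ⟨μ, hμ⟩ := S.sqrt lam' hfix
  obtain ⟨v₀, μ', hv₀, hev⟩ : ∃ (v₀ : Fin a → F) (μ' : F), v₀ ≠ 0 ∧ A₀ v₀ = μ' • v₀ := by
    set e₀ : Fin a → F := Pi.single ⟨0, by omega⟩ 1 with he₀
    by_cases h0 : A₀ e₀ + μ • e₀ = 0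
    · exact ⟨e₀, -μ, by simp [he₀], by rw [neg_smul]; exact eq_neg_of_add_eq_zero_left h0⟩
    · exact ⟨_, μ, h0, by rw [map_add, map_smul, hAA, ← hμ, smul_add, smul_smul]; abel⟩
  have hμ'0 : μ' ≠ 0 := fun h0 => hv₀ (hA0i (by rw [hev, h0, zero_smul, map_zero]))
  set u₁ := Q₁ v₀ with hu₁
  have hu₁0 : u₁ ≠ 0 := fun h0 => hv₀ (hQi (by rw [← hu₁, h0, map_zero]))
  set ρ := c⁻¹ * (κ * μ' - 1) + d * μ' with hρ
  have hCy : Cv f₂ y (S.xi g v u₁) = ρ • v₀ := by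
    have h1 := hR v₀
    rw [hev, ← hu₁] at h1
    have h2 : c • Cv f₂ y (S.xi g v u₁) = c • (ρ • v₀) := by
      rw [hρ, smul_smul, mul_add, ← mul_assoc, mul_inv_cancel₀ hc0, one_mul]
      rw [smul_sub, smul_smul, smul_smul, smul_smul] at h1
      rw [eq_sub_of_add_eq' (show v₀ + (c • Cv f₂ y (S.xi g v u₁) - (c * d * μ') • v₀) = (κ * μ') • v₀ from h1)
        |> eq_add_of_sub_eq]
      module
    exact smul_right_injective _ hc0 h2
  set s' := y - σ (ρ / μ') • w with hs'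
  have hs'0 : s' ≠ 0 := fun h0 => hyw _ (sub_eq_zero.1 h0)
  have hs's' : f₂ s' s' = 0 := by
    rw [hs']
    simp [Unit.sub_left S.u₂, Unit.sub_right S.u₂, Unit.smul_left S.u₂, Unit.smul_right S.u₂, hw, hyy, hwy, hy]
  have hCs' : Cv f₂ s' (S.xi g v u₁) = 0 := by
    rw [hs', S.Cv_sub, S.Cv_smul, S.u₂.involutive, hCy, show Cv f₂ w (S.xi g v u₁) = A₀ v₀ from rfl, hev,
      smul_smul, div_mul_cancel₀ _ hμ'0, sub_self]
  have hbot : S.K1 g v s' = ⊥ :=
    Submodule.finrank_eq_zero.1 (Nat.le_zero.1 (hb g hg v s' hv0 hv hs'0 hs's' fun h => hnl (S.line_of_top hv0 h)))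
  rcases S.rank_dichotomy hno hb hg hv hs'0 hs's' (by rw [hbot, finrank_bot]) with h | h
  · have : u₁ ∈ LinearMap.ker (Cv f₂ s' ∘ₗ S.xi g v) := LinearMap.mem_ker.2 hCs'
    rw [h, hbot, Submodule.mem_bot] at this
    exact hu₁0 this
  · exact hnl (S.line_of_perp hno hg hv0 hv hs'0 hs's' h)

/-- A Siegel element pairing a member singularly with itself at maximal intersection. -/
theorem siegel_false {k : ℕ} (hb : S.Bound k) {g₀ : GL (Fin a × Fin b) F} (hg : g₀ ∈ H) {v₀ w₀ : Fin b → F}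
    (hv0 : v₀ ≠ 0) (hv : f₂ v₀ v₀ = 0) (hw0 : w₀ ≠ 0) (hw : f₂ w₀ w₀ = 0)
    (hk : finrank F (S.K1 g₀ v₀ w₀) = k) (hnl : ¬ S.IsLine g₀ v₀) {y : Fin b → F} (hyw : f₂ y w₀ = 0)
    (hyy : f₂ y y = 0) {d : F} (hd : d + σ d = 0) (hne : (∀ c : F, y ≠ c • w₀) ∨ (y = 0 ∧ d ≠ 0))
    {n : GL (Fin a × Fin b) F} (hn : n ∈ H)
    (hnx : ∀ x, (n : M2 F a b) *ᵥ x = x + pl y (Cv f₂ w₀ x) + (d • pl w₀ (Cv f₂ w₀ x) - pl w₀ (Cv f₂ y x)))
    {u₀ : Fin a → F} (hu₀K : u₀ ∉ S.K1 g₀ v₀ w₀)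
    (hNu : S.co g₀ v₀ ((n : M2 F a b) *ᵥ S.xi g₀ v₀ u₀) = 0) : False := by
  classical
  set ξ := S.xi g₀ v₀ with hξ
  set P := Cv f₂ w₀ ∘ₗ ξ with hP
  have hK : LinearMap.ker P = S.K1 g₀ v₀ w₀ :=
    (S.rank_dichotomy hno hb hg hv hw0 hw hk).resolve_right fun h => hnl (S.line_of_perp hno hg hv0 hv hw0 hw h)
  have hwy : f₂ w₀ y = 0 := Unit.eq_zero_comm S.u₂ hyw
  have hnw : ∀ u, (n : M2 F a b) *ᵥ pl w₀ u = pl w₀ u := fun u => by
    rw [hnx, S.Cv_pl, S.Cv_pl, hw, hwy]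
    simp
  set N : (Fin a → F) →ₗ[F] (Fin a → F) := S.co g₀ v₀ ∘ₗ Matrix.mulVecLin (n : M2 F a b) ∘ₗ ξ with hN
  replace hNu : N u₀ = 0 := hNu
  set g' := g₀⁻¹ * n * g₀ with hg'def
  have hg' : g' ∈ H := H.mul_mem (H.mul_mem (H.inv_mem hg) hn) hg
  have hxi' : ∀ u, S.xi g' v₀ u = ((g₀⁻¹ : GL (Fin a × Fin b) F) : M2 F a b) *ᵥ ((n : M2 F a b) *ᵥ ξ u) :=
    fun u => by
      show (g' : M2 F a b) *ᵥ pl v₀ u = _
      rw [hg'def, gl_mul_mulVec, gl_mul_mulVec]
      rfl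
  have hle' : S.K1 g₀ v₀ w₀ ≤ S.K1 g' v₀ v₀ := fun u hu => by
    obtain ⟨r, hr⟩ := S.mem_K1.1 hu
    rw [mem_K1, hxi', show ξ u = pl w₀ r from hr.symm, hnw, hr, S.xi_apply, gl_inv_mulVec_mulVec]
    exact pl_mem_L _ _
  have hNP : ∀ u, Cv f₂ v₀ (S.xi g' v₀ u) = N u := fun u => by rw [hxi']; rfl
  by_cases htop : S.K1 g' v₀ v₀ = ⊤
  · -- the element stabilises the member
    have hstab : ∀ u, ∃ r, (n : M2 F a b) *ᵥ ξ u = ξ r := fun u => by
      obtain ⟨r, hr⟩ : S.xi g' v₀ u ∈ (L v₀ : Submodule F (V2 F a b)) := S.mem_K1.1 (htop ▸ Submodule.mem_top)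
      exact ⟨r, by
        show _ = (g₀ : M2 F a b) *ᵥ pl v₀ r
        rw [hr, hxi', gl_mulVec_inv_mulVec]⟩
    have hdiff : ∀ u, ∃ r ∈ S.K1 g₀ v₀ w₀, (n : M2 F a b) *ᵥ ξ u - ξ u = ξ r := fun u => by
      obtain ⟨r, hr⟩ := hstab u
      refine ⟨r - u, ?_, by rw [map_sub, hr]⟩
      rw [← hK, LinearMap.mem_ker, hP, LinearMap.comp_apply, map_sub, map_sub, ← hr, S.Cv_fix hn hnw,
        sub_self]
    have hyline : ∃ τ : F, y = τ • w₀ := by
      refine S.mem_line_of_perp hw0 fun z hz => ?_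
      obtain ⟨u, hu⟩ : ∃ u, P u ≠ 0 := by
        by_contra hc
        push Not at hc
        exact hnl (S.line_of_perp hno hg hv0 hv hw0 hw hc)
      obtain ⟨r, hr, hre⟩ := hdiff u
      obtain ⟨q, hq⟩ := S.mem_K1.1 hr
      rw [hnx, show Cv f₂ w₀ (ξ u) = P u from rfl] at hre
      have h1 := congrArg (Cv f₂ z) hre
      change pl w₀ q = ξ r at hq
      rw [← hq, map_sub, map_add, map_add, map_sub, map_smul, S.Cv_pl, S.Cv_pl, S.Cv_pl, S.Cv_pl,
        Unit.eq_zero_comm S.u₂ hz] at h1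
      simp only [zero_smul, smul_zero, sub_zero, add_zero, add_sub_cancel_left, smul_eq_zero] at h1
      exact h1.resolve_right hu
    obtain ⟨hy0, hd0⟩ := hne.resolve_left fun hc => hyline.elim fun τ hτ => hc τ hτ
    obtain ⟨u, hu⟩ : ∃ u, P u ≠ 0 := by
      by_contra hc
      push Not at hc
      exact hnl (S.line_of_perp hno hg hv0 hv hw0 hw hc)
    have hwP : ∀ u, ∃ r, pl w₀ (P u) = ξ r := fun u => by
      obtain ⟨r, -, hre⟩ := hdiff u
      rw [hnx, hy0, pl_zero', add_zero, S.Cv_zero, map_zero, sub_zero,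
        show Cv f₂ w₀ (ξ u) = P u from rfl, add_sub_cancel_left] at hre
      exact ⟨d⁻¹ • r, by rw [map_smul, ← hre, inv_smul_smul₀ hd0]⟩
    have hsw : ∀ u, S.co g₀⁻¹ w₀ (pl v₀ u) = P u := fun u => by rw [co_apply, inv_inv]; rfl
    refine S.stab_false hno (H.inv_mem hg) hw hv0 hv (u₀ := u) (by rwa [hsw]) fun u' => ?_
    obtain ⟨r, hr⟩ := hwP u'
    rw [hsw, xi_apply, hr, hξ, xi_apply, gl_inv_mulVec_mulVec]
    exact pl_mem_L _ _
  · have h1 := hb g' hg' v₀ v₀ hv0 hv hv0 hv htop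
    have hK' : S.K1 g₀ v₀ w₀ = S.K1 g' v₀ v₀ := Submodule.eq_of_le_of_finrank_le hle' (by rw [hk]; exact h1)
    rcases S.rank_dichotomy hno hb hg' hv hv0 hv (by rw [← hK', hk]) with h | h
    · refine hu₀K ?_
      rw [hK', ← h, LinearMap.mem_ker, LinearMap.comp_apply, hNP, hNu]
    · have hline := S.line_of_perp hno hg' hv0 hv hv0 hv h
      have hk0 : k = 0 := by rw [← hk, hK', S.K1_bot_of_line hv0 hline htop, finrank_bot]
      subst hk0
      refine S.kernel_false hno hb hg hv0 hv hw0 hw hnl hyw hyy hd hne hn hnx fun u => ?_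
      have := h u
      rwa [hNP] at this

/-- For `3 ⊗ 4`: transvections of a totally isotropic plane give a singular pairing. -/
theorem plane_false (hb : S.Bound 0) {g : GL (Fin a × Fin b) F} (hg : g ∈ H) {v w : Fin b → F} (hv0 : v ≠ 0)
    (hv : f₂ v v = 0) (hw0 : w ≠ 0) (hw : f₂ w w = 0) (hnl : ¬ S.IsLine g v) (ha3 : a = 3) (hb4 : b = 4) :
    False := by
  classical
  obtain ⟨Yc, hYc⟩ := Submodule.exists_isCompl (Submodule.span F {w})
  obtain ⟨y, hyY, hy0, hyy⟩ := UnitCentres.exists_iso_any S.u₂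
    (X := Yc ⊓ Unit.perp S.u₂ (Submodule.span F {w})) (by
      have h1 := Submodule.finrank_sup_add_finrank_inf_eq Yc (Unit.perp S.u₂ (Submodule.span F {w}))
      have h2 := Submodule.finrank_le (Yc ⊔ Unit.perp S.u₂ (Submodule.span F {w}))
      have h3 := S.finrank_perp1 hw0
      have h4 := Submodule.finrank_add_eq_of_isCompl hYc
      rw [finrank_span_singleton hw0, Module.finrank_fintype_fun_eq_card, Fintype.card_fin] at h4
      rw [Module.finrank_fintype_fun_eq_card, Fintype.card_fin] at h2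
      omega)
  have hyw : f₂ y w = 0 := S.mem_perp1.1 hyY.2
  have hwy : f₂ w y = 0 := Unit.eq_zero_comm S.u₂ hyw
  have hind : ∀ c : F, y ≠ c • w := fun c hc => hy0 ((Submodule.disjoint_def.1 hYc.disjoint) y
    (hc ▸ Submodule.smul_mem _ _ (Submodule.mem_span_singleton_self w)) hyY.1)
  obtain ⟨ω, hω⟩ := Unit.exists_moved S.u₂.ne_refl
  obtain ⟨δ, hδ0, hδ⟩ := Unit.exists_skew S.u₂.ne_refl S.u₂.involutive
  let sv : Fin 4 → (Fin b → F) := ![w, y, w + y, w + ω • y]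
  have hsvv : ∀ i j, f₂ (sv i) (sv j) = 0 := fun i j => by
    fin_cases i <;> fin_cases j <;>
      simp [sv, Unit.add_left S.u₂, Unit.add_right S.u₂, Unit.smul_left S.u₂, Unit.smul_right S.u₂, hw, hyy, hyw, hwy]
  set ξ := S.xi g v with hξ
  let A : Fin 4 → Matrix (Fin a) (Fin a) F := fun i r s =>
    f₁ (Cv f₂ (sv i) (ξ (Pi.single r 1))) (Cv f₂ (sv i) (ξ (Pi.single s 1)))
  obtain ⟨x, hx0, hxfix, hdet⟩ := exists_singular_det S.u₂.ne_refl S.u₂.involutive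
    (show 0 < a by omega) (by rw [Fintype.card_fin]; omega) A fun i r s => Unit.conj_form S.u₁ _ _
  obtain ⟨z, hz0, hz⟩ := Matrix.exists_vecMul_eq_zero_iff.2 hdet
  -- the element of the unipotent radical
  obtain ⟨n, hn, hnx⟩ : ∃ n ∈ H, ∀ p, (n : M2 F a b) *ᵥ p = p + ∑ i, (δ * x i) • pl (sv i) (Cv f₂ (sv i) p) := by
    have hd : ∀ i, δ * x i + σ (δ * x i) = 0 := fun i => by rw [map_mul, hxfix, ← add_mul, hδ, zero_mul]
    refine ⟨eW f₂ ((δ * x 0) • LinearMap.id) (sv 0) * eW f₂ ((δ * x 1) • LinearMap.id) (sv 1) *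
      eW f₂ ((δ * x 2) • LinearMap.id) (sv 2) * eW f₂ ((δ * x 3) • LinearMap.id) (sv 3),
      H.mul_mem (H.mul_mem (H.mul_mem (S.tW_mem (hsvv 0 0) (hd 0)) (S.tW_mem (hsvv 1 1) (hd 1)))
        (S.tW_mem (hsvv 2 2) (hd 2))) (S.tW_mem (hsvv 3 3) (hd 3)), fun p => ?_⟩
    simp only [gl_mul_mulVec, eW_mulVec S.toForms _ (hsvv 0 0), eW_mulVec S.toForms _ (hsvv 1 1),
      eW_mulVec S.toForms _ (hsvv 2 2), eW_mulVec S.toForms _ (hsvv 3 3), Fin.sum_univ_four, LinearMap.smul_apply,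
      LinearMap.id_apply, map_add, map_smul, S.Cv_pl, hsvv, zero_smul, smul_zero, add_zero]
    abel
  have hNu : S.co g v ((n : M2 F a b) *ᵥ ξ z) = 0 := by
    refine S.eq_of_left fun u' => ?_
    rw [Unit.zero_left S.u₁, ← S.adj_xi hg, hnx, ← hξ, (hV_sesq f₁ f₂).add_left, (hV_sesq f₁ f₂).sum_left,
      show hV σ f₁ f₂ (ξ z) (ξ u') = 0 by rw [hξ, S.adj_xi hg, S.co_xi g hv, Unit.zero_left S.u₁], zero_add]
    simp only [(hV_sesq f₁ f₂).smul_left, S.adj']
    have hzs : z = ∑ r, z r • (Pi.single r 1 : Fin a → F) := pi_eq_sum_univ' z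
    have hus : u' = ∑ s, u' s • (Pi.single s 1 : Fin a → F) := pi_eq_sum_univ' u'
    rw [hzs, hus]
    simp only [map_sum, map_smul, (Unit.sesq S.u₁).sum_left, (Unit.sesq S.u₁).sum_right, Unit.smul_left S.u₁,
      Unit.smul_right S.u₁, Finset.mul_sum]
    have h1 : ∀ s, ∑ r, ∑ i, z r * (x i * A i r s) = 0 := fun s => by
      have := congrFun hz s
      simp only [Matrix.vecMul, dotProduct, Matrix.sum_apply, Matrix.smul_apply, Pi.zero_apply, smul_eq_mul,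
        Finset.mul_sum] at this
      exact this
    calc _ = ∑ s, (δ * σ (u' s)) * ∑ r, ∑ i, z r * (x i * A i r s) := by
          simp only [Finset.mul_sum]
          rw [Finset.sum_comm]
          conv_lhs => enter [2, r]; rw [Finset.sum_comm]
          rw [Finset.sum_comm]
          exact Finset.sum_congr rfl fun s _ => Finset.sum_congr rfl fun r _ => Finset.sum_congr rfl fun i _ => by
            simp only [A]; ring
      _ = 0 := by simp [h1]
  -- the element is a Siegel element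
  set a00 := δ * (x 0 + x 2 + x 3) with h00
  set a01 := δ * (x 2 + σ ω * x 3) with h01
  set a10 := δ * (x 2 + ω * x 3) with h10
  set a11 := δ * (x 1 + x 2 + ω * σ ω * x 3) with h11
  have hσδ : σ δ = -δ := eq_neg_of_add_eq_zero_right hδ
  have hσ01 : σ a01 = -a10 := by rw [h01, h10, map_mul, map_add, map_mul, hxfix, hxfix, S.u₂.involutive, hσδ]; ring
  have hσ10 : σ a10 = -a01 := by rw [h01, h10, map_mul, map_add, map_mul, hxfix, hxfix, hσδ]; ring
  have hσ00 : σ a00 = -a00 := by rw [h00, map_mul, map_add, map_add, hxfix, hxfix, hxfix, hσδ]; ring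
  have hσ11 : σ a11 = -a11 := by
    rw [h11, map_mul, map_add, map_add, map_mul, map_mul, hxfix, hxfix, hxfix, S.u₂.involutive, hσδ]; ring
  have hne : a00 ≠ 0 ∨ a10 ≠ 0 ∨ a11 ≠ 0 := by
    by_contra hc
    push Not at hc
    obtain ⟨h0, h1, h2⟩ := hc
    rw [h00, mul_eq_zero, or_iff_right hδ0] at h0
    rw [h10, mul_eq_zero, or_iff_right hδ0] at h1
    rw [h11, mul_eq_zero, or_iff_right hδ0] at h2
    have h3 : x 3 = 0 := by
      have h4 := congrArg σ h1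
      rw [map_add, map_mul, hxfix, hxfix, map_zero] at h4
      exact (mul_eq_zero.1 (show (σ ω - ω) * x 3 = 0 by linear_combination h4 - h1)).resolve_left (sub_ne_zero.2 hω)
    rw [h3, mul_zero, add_zero] at h1 h2
    rw [h1, h3, add_zero, add_zero] at h0
    rw [h1, add_zero] at h2
    exact hx0 (funext fun i => by fin_cases i <;> assumption)
  have hnx' : ∀ p, (n : M2 F a b) *ᵥ p = p + (a00 • pl w (Cv f₂ w p) + a01 • pl w (Cv f₂ y p) +
      a10 • pl y (Cv f₂ w p) + a11 • pl y (Cv f₂ y p)) := fun p => by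
    rw [hnx, Fin.sum_univ_four]
    simp only [sv, Matrix.cons_val_zero, Matrix.cons_val_one, Matrix.cons_val, h00, h01, h10, h11, pl_add', pl_smul',
      S.Cv_add, S.Cv_smul, map_add, map_smul]
    module
  clear_value a00 a01 a10 a11
  have finish : ∀ (w' y' : Fin b → F) (d : F), w' ≠ 0 → f₂ w' w' = 0 → f₂ y' w' = 0 → f₂ y' y' = 0 → d + σ d = 0 →
      ((∀ c : F, y' ≠ c • w') ∨ (y' = 0 ∧ d ≠ 0)) →
      (∀ p, (n : M2 F a b) *ᵥ p = p + pl y' (Cv f₂ w' p) + (d • pl w' (Cv f₂ w' p) - pl w' (Cv f₂ y' p))) →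
      False := by
    intro w' y' d hw'0 hw' hyw' hyy' hd hne' hn'
    have hbot : S.K1 g v w' = ⊥ :=
      Submodule.finrank_eq_zero.1 (Nat.le_zero.1 (hb g hg v w' hv0 hv hw'0 hw' fun h => hnl (S.line_of_top hv0 h)))
    refine S.siegel_false hno hb hg hv0 hv hw'0 hw' (by rw [hbot, finrank_bot]) hnl hyw' hyy' hd hne' hn hn'
      (u₀ := z) ?_ hNu
    rwa [hbot, Submodule.mem_bot]
  by_cases ha11 : a11 = 0
  · refine finish w (a10 • y) a00 hw0 hw ?_ ?_ (by rw [hσ00, add_neg_cancel]) ?_ fun p => ?_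
    · rw [Unit.smul_left S.u₂, hyw, mul_zero]
    · rw [Unit.smul_left S.u₂, Unit.smul_right S.u₂, hyy, mul_zero, mul_zero]
    · by_cases ha10 : a10 = 0
      · exact Or.inr ⟨by rw [ha10, zero_smul], hne.resolve_right fun h => h.elim (fun h => h ha10) fun h => h ha11⟩
      · exact Or.inl fun c hc => hind (a10⁻¹ * c) (by rw [mul_smul, ← hc, inv_smul_smul₀ ha10])
    · rw [hnx', ha11, S.Cv_smul, hσ10, pl_smul', map_smul]
      module
  obtain ⟨ρ, hρ⟩ := Unit.exists_norm S.u₂.ne_refl S.u₂.involutive (b := -(a00 + a01 * σ a01 / a11) / a11) (by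
    simp only [map_div₀, map_neg, map_add, map_mul, hσ00, hσ11, S.u₂.involutive]
    field_simp
    ring)
  set r := a01 / a11 + ρ with hr
  set lam := a01 - a11 * r with hlam
  clear_value r lam
  have hw'0 : y + r • w ≠ 0 := fun h => hind (-r) (by rw [neg_smul]; exact eq_neg_of_add_eq_zero_left h)
  have hσlam : σ lam = -a10 + a11 * σ r := by rw [hlam, map_sub, map_mul, hσ01, hσ11]; ring
  refine finish (y + r • w) (lam • w) a11 hw'0 ?_ ?_ ?_ (by rw [hσ11, add_neg_cancel]) ?_ fun p => ?_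
  · simp [Unit.add_left S.u₂, Unit.add_right S.u₂, Unit.smul_left S.u₂, Unit.smul_right S.u₂, hw, hyy, hyw, hwy]
  · simp [Unit.add_right S.u₂, Unit.smul_left S.u₂, Unit.smul_right S.u₂, hw, hwy]
  · simp [Unit.smul_left S.u₂, Unit.smul_right S.u₂, hw]
  · by_cases hl : lam = 0
    · exact Or.inr ⟨by rw [hl, zero_smul], ha11⟩
    · refine Or.inl fun c hc => ?_
      rcases eq_or_ne c 0 with rfl | hc0
      · rw [zero_smul, smul_eq_zero] at hc
        exact hc.elim hl hw0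
      · exact hind (c⁻¹ * lam - r) (by rw [sub_smul, mul_smul, hc, inv_smul_smul₀ hc0, add_sub_cancel_right])
  · have h00' : a00 = lam * σ r + a11 * (r * σ r) - r * σ lam := by
      rw [hlam, map_sub, map_mul, hσ11, hr, map_add, map_div₀, hσ01, hσ11]
      rw [hσ01, eq_div_iff ha11] at hρ
      field_simp at hρ ⊢
      linear_combination hρ
    simp only [hnx', S.Cv_add, S.Cv_smul, pl_add', pl_smul']
    rw [h00', hσlam, show a01 = lam + a11 * r by rw [hlam]; ring]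
    simp only [map_add, map_smul, smul_add, smul_smul]
    module

/-- Every member is a line. -/
theorem all_lines (hb4 : 4 ≤ b) {g : GL (Fin a × Fin b) F} (hg : g ∈ H) {v : Fin b → F} (hv0 : v ≠ 0) (hv : f₂ v v = 0) :
    S.IsLine g v := by
  classical
  by_contra hnl
  haveI : Fintype (GL (Fin a × Fin b) F) := Fintype.ofFinite _
  have hb5 := hb4
  obtain ⟨⟨g₀, v₀, w₀⟩, hp, hmax⟩ := Finset.exists_max_image
    (Finset.univ.filter fun p : GL (Fin a × Fin b) F × (Fin b → F) × (Fin b → F) =>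
      p.1 ∈ H ∧ (p.2.1 ≠ 0 ∧ f₂ p.2.1 p.2.1 = 0) ∧ (p.2.2 ≠ 0 ∧ f₂ p.2.2 p.2.2 = 0) ∧ ¬ S.IsLine p.1 p.2.1)
    (fun p => finrank F (S.K1 p.1 p.2.1 p.2.2)) ⟨(g, v, v), by simp [hg, hv0, hv, hnl]⟩
  simp only [Finset.mem_filter, Finset.mem_univ, true_and] at hp hmax
  clear hnl hv hv0 hg g v
  obtain ⟨hg, ⟨hv0, hv⟩, ⟨hw0, hw⟩, hnl⟩ := hp
  revert hmax
  generalize hk : finrank F (S.K1 g₀ v₀ w₀) = k
  intro hmax
  have hb : S.Bound k := by
    intro g hg v w hv0 hv hw0 hw htop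
    by_cases hl : S.IsLine g v
    · rw [S.K1_bot_of_line hv0 hl htop, finrank_bot]; exact Nat.zero_le _
    · exact hmax (g, v, w) ⟨hg, ⟨hv0, hv⟩, ⟨hw0, hw⟩, hl⟩
  set P := Cv f₂ w₀ ∘ₗ S.xi g₀ v₀ with hP
  have hK : LinearMap.ker P = S.K1 g₀ v₀ w₀ :=
    (S.rank_dichotomy hno hb hg hv hw0 hw hk).resolve_right fun h => hnl (S.line_of_perp hno hg hv0 hv hw0 hw h)
  obtain ⟨M₀, hM₀⟩ := Submodule.exists_isCompl (S.K1 g₀ v₀ w₀)
  have hm : finrank F M₀ + k = a := by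
    have := Submodule.finrank_add_eq_of_isCompl hM₀
    rw [hk, Module.finrank_fintype_fun_eq_card, Fintype.card_fin] at this
    omega
  have hm0 : 0 < finrank F M₀ := by
    by_contra h0
    refine hnl (S.line_of_top hv0 (w := w₀) (Submodule.eq_top_of_finrank_eq ?_))
    rw [hk, Module.finrank_fintype_fun_eq_card, Fintype.card_fin]
    omega
  obtain ⟨Yc, hYc⟩ := Submodule.exists_isCompl (Submodule.span F {w₀})
  set Y := Yc ⊓ Unit.perp S.u₂ (Submodule.span F {w₀}) with hY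
  have hYd : b - 2 ≤ finrank F Y := by
    have h1 := Submodule.finrank_sup_add_finrank_inf_eq Yc (Unit.perp S.u₂ (Submodule.span F {w₀}))
    have h2 := Submodule.finrank_le (Yc ⊔ Unit.perp S.u₂ (Submodule.span F {w₀}))
    have h3 := S.finrank_perp1 hw0
    have h4 := Submodule.finrank_add_eq_of_isCompl hYc
    rw [finrank_span_singleton hw0, Module.finrank_fintype_fun_eq_card, Fintype.card_fin] at h4
    rw [Module.finrank_fintype_fun_eq_card, Fintype.card_fin] at h2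
    rw [← hY] at h1
    omega
  by_cases hsp : b ≤ finrank F M₀ + 1 ∧ b = 4
  · exact S.plane_false hno (by rwa [show k = 0 by have := S.lt; omega] at hb) hg hv0 hv hw0 hw hnl
      (by have := S.lt; omega) hsp.2
  let bY := Module.finBasis F Y
  let bM := Module.finBasis F M₀
  obtain ⟨ω, hω⟩ := Unit.exists_moved S.u₂.ne_refl
  obtain ⟨δ, hδ0, hδ⟩ := Unit.exists_skew S.u₂.ne_refl S.u₂.involutive
  let κ := (Fin (finrank F Y) × Fin 2) ⊕ PUnit.{1}
  let vv : κ → (Fin b → F) := Sum.elim (fun p => ((![1, ω] : Fin 2 → F) p.2) • (bY p.1 : Fin b → F)) fun _ => 0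
  let dd : κ → F := Sum.elim (fun _ => 0) fun _ => δ
  have hdd : ∀ i, dd i + σ (dd i) = 0 := fun i => by rcases i with p | p <;> simp [dd, hδ]
  let G : (Fin b → F) → F → (Fin a → F) → (Fin a → F) → F := fun y d u u' =>
    f₁ (P u) (Cv f₂ y (S.xi g₀ v₀ u')) - f₁ (Cv f₂ y (S.xi g₀ v₀ u)) (P u') + d * f₁ (P u) (P u')
  let A : κ → Matrix (Fin (finrank F M₀)) (Fin (finrank F M₀)) F :=
    fun i r s => δ * G (vv i) (dd i) (bM r : Fin a → F) (bM s : Fin a → F)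
  have hA : ∀ i r s, σ (A i r s) = A i s r := fun i r s => by
    simp only [A, G, map_mul, map_add, map_sub, Unit.conj_form S.u₁, eq_neg_of_add_eq_zero_right hδ,
      eq_neg_of_add_eq_zero_right (hdd i)]
    ring
  let Qf : κ → κ → F := fun i j => f₂ (vv i) (vv j)
  have hQval : ∀ x : κ → F, (∀ i, σ (x i) = x i) →
      f₂ (∑ i, x i • vv i) (∑ j, x j • vv j) = ∑ i, ∑ j, x i * x j * Qf i j := fun x hx => by
    rw [(Unit.sesq S.u₂).sum_left]
    refine Finset.sum_congr rfl fun i _ => ?_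
    rw [Unit.smul_left S.u₂, (Unit.sesq S.u₂).sum_right, Finset.mul_sum]
    refine Finset.sum_congr rfl fun j _ => ?_
    rw [Unit.smul_right S.u₂, hx]
    ring
  obtain ⟨x, hx0, hxfix, hdet, hq⟩ := exists_singular S.u₂.ne_refl S.u₂.involutive hm0
    (by simp only [κ, Fintype.card_sum, Fintype.card_prod, Fintype.card_fin, Fintype.card_punit]
        have := S.lt; omega)
    A hA Qf (fun x hx => by rw [← hQval x hx, Unit.self_fixed S.u₂])
  set y := ∑ i, x i • vv i with hy_def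
  set d := ∑ i, x i * dd i with hd_def
  have hd : d + σ d = 0 := by
    rw [hd_def, map_sum, ← Finset.sum_add_distrib]
    refine Finset.sum_eq_zero fun i _ => ?_
    rw [map_mul, hxfix, ← mul_add, hdd, mul_zero]
  have hyY : y ∈ Y := Submodule.sum_mem _ fun i _ => Submodule.smul_mem _ _ (by
    rcases i with p | p
    · exact Submodule.smul_mem _ _ (bY p.1).2
    · exact Submodule.zero_mem _)
  have hyw : f₂ y w₀ = 0 := S.mem_perp1.1 hyY.2
  have hyy : f₂ y y = 0 := by rw [hy_def, hQval x hxfix, hq]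
  have hwy : f₂ w₀ y = 0 := Unit.eq_zero_comm S.u₂ hyw
  obtain ⟨n, hn, hnx⟩ := S.exists_siegel hw hyw (c := d) (by rw [hyy, neg_zero, hd])
  have hnw : ∀ u, (n : M2 F a b) *ᵥ pl w₀ u = pl w₀ u := fun u => by
    rw [hnx, S.Cv_pl, S.Cv_pl, hw, hwy]
    simp
  set ξ := S.xi g₀ v₀ with hξ
  set N : (Fin a → F) →ₗ[F] (Fin a → F) := S.co g₀ v₀ ∘ₗ Matrix.mulVecLin (n : M2 F a b) ∘ₗ ξ with hN
  have hform : ∀ u u', f₁ (N u) u' = G y d u u' := fun u u' => by
    rw [hN, LinearMap.comp_apply, LinearMap.comp_apply, Matrix.mulVecLin_apply, ← S.adj_xi hg, hnx, ← hξ,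
      (hV_sesq f₁ f₂).add_left, (hV_sesq f₁ f₂).add_left, (hV_sesq f₁ f₂).sub_left, (hV_sesq f₁ f₂).smul_left,
      S.adj', S.adj', S.adj']
    rw [show hV σ f₁ f₂ (ξ u) (ξ u') = 0 by rw [hξ, S.adj_xi hg, S.co_xi g₀ hv, Unit.zero_left S.u₁]]
    simp only [G, hP, LinearMap.comp_apply, hξ]
    ring
  have hGlin : ∀ u u', G y d u u' = ∑ i, x i * G (vv i) (dd i) u u' := fun u u' => by
    have e1 : ∀ p, Cv f₂ y p = ∑ i, x i • Cv f₂ (vv i) p := fun p => by
      let L' : (Fin b → F) →+ (Fin a → F) :=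
        AddMonoidHom.mk' (fun z => Cv f₂ z p) fun z z' => S.Cv_add z z' p
      show L' y = _
      rw [hy_def, map_sum]
      refine Finset.sum_congr rfl fun i _ => ?_
      show Cv f₂ (x i • vv i) p = _
      rw [S.Cv_smul, hxfix]
    simp only [G, e1, (Unit.sesq S.u₁).sum_left, (Unit.sesq S.u₁).sum_right, Unit.smul_left S.u₁,
      Unit.smul_right S.u₁, hxfix, hd_def, Finset.sum_mul, ← Finset.sum_sub_distrib, ← Finset.sum_add_distrib]
    exact Finset.sum_congr rfl fun i _ => by ring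
  obtain ⟨z, hz0, hz⟩ := Matrix.exists_vecMul_eq_zero_iff.2 hdet
  set u₀ : M₀ := ∑ r, z r • bM r with hu₀
  have hu₀0 : (u₀ : Fin a → F) ≠ 0 := fun h0 => hz0 (funext fun r => by
    have := congrArg (fun q => bM.repr q r) (show u₀ = 0 from Subtype.ext h0)
    simpa [hu₀, map_sum, Finsupp.single_apply, Finset.sum_apply'] using this)
  have hNu : N u₀ = 0 := by
    refine S.eq_of_left fun u' => ?_
    rw [Unit.zero_left S.u₁]
    have hle : S.K1 g₀ v₀ w₀ ⊔ M₀ ≤ Unit.perp S.u₁ (Submodule.span F {N u₀}) := by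
      have hmem : ∀ q, f₁ (N u₀) q = 0 → q ∈ Unit.perp S.u₁ (Submodule.span F {N u₀}) := fun q hq => by
        rw [Unit.mem_perp' S.u₁]
        intro p hp
        obtain ⟨r, rfl⟩ := Submodule.mem_span_singleton.1 hp
        rw [Unit.smul_left S.u₁, hq, mul_zero]
      refine sup_le (fun q hq => hmem q ?_) ?_
      · obtain ⟨r, hr⟩ := S.mem_K1.1 hq
        rw [hform]
        simp only [G, show P q = 0 from LinearMap.mem_ker.1 (hK.symm ▸ hq), ← hξ]
        rw [show ξ q = pl w₀ r from hr.symm, S.Cv_pl, hwy]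
        simp [Unit.zero_right S.u₁]
      · intro q hq
        have hq' : (∑ s, bM.repr ⟨q, hq⟩ s • (bM s : Fin a → F)) = q := by
          have := congrArg Subtype.val (bM.sum_repr ⟨q, hq⟩)
          simp only [Submodule.coe_sum, Submodule.coe_smul] at this
          exact this
        rw [← hq']
        refine Submodule.sum_mem _ fun s _ => Submodule.smul_mem _ _ (hmem _ ?_)
        rw [hform, hGlin]
        have h1 := congrFun hz s
        simp only [Matrix.vecMul, dotProduct, Matrix.sum_apply, Matrix.smul_apply, Pi.smul_apply, smul_eq_mul, A, Pi.zero_apply] at h1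
        have hu : (u₀ : Fin a → F) = ∑ r, z r • (bM r : Fin a → F) := by simp [hu₀]
        refine mul_left_cancel₀ hδ0 ?_
        rw [mul_zero, ← h1, hu, Finset.mul_sum]
        simp only [G, map_sum, map_smul, (Unit.sesq S.u₁).sum_left, Unit.smul_left S.u₁, Finset.mul_sum,
          Finset.sum_mul, ← Finset.sum_sub_distrib, ← Finset.sum_add_distrib]
        rw [Finset.sum_comm]
        exact Finset.sum_congr rfl fun r _ => Finset.sum_congr rfl fun i _ => by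
          show _ = z r * (x i * (_ : F))
          ring
    have h1 : u' ∈ S.K1 g₀ v₀ w₀ ⊔ M₀ := hM₀.sup_eq_top ▸ Submodule.mem_top
    exact (Unit.mem_perp' S.u₁).1 (hle h1) _ (Submodule.mem_span_singleton_self _)
  have hu₀K : (u₀ : Fin a → F) ∉ S.K1 g₀ v₀ w₀ := fun h =>
    hu₀0 ((Submodule.disjoint_def.1 hM₀.disjoint) _ h u₀.2)
  refine S.siegel_false hno hb hg hv0 hv hw0 hw hk hnl hyw hyy hd ?_ hn hnx hu₀K hNu
  by_cases hc : ∀ c : F, y ≠ c • w₀
  · exact Or.inl hc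
  push Not at hc
  obtain ⟨τ, hτ⟩ := hc
  have hy0 : y = 0 := (Submodule.disjoint_def.1 hYc.disjoint) y
    (hτ ▸ Submodule.smul_mem _ _ (Submodule.mem_span_singleton_self w₀)) hyY.1
  refine Or.inr ⟨hy0, fun hd0 => ?_⟩
  have hcomb : ∀ i, x (Sum.inl (i, 0)) + ω * x (Sum.inl (i, 1)) = 0 := by
    have h1 : (∑ i, (x (Sum.inl (i, 0)) + ω * x (Sum.inl (i, 1))) • bY i) = 0 := Subtype.ext (by
      rw [Submodule.coe_zero, ← hy0, hy_def]
      simp [κ, vv, Fintype.sum_sum_type, Fintype.sum_prod_type, add_smul, smul_smul, mul_comm])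
    exact fun i => Fintype.linearIndependent_iff.1 bY.linearIndependent _ h1 i
  refine hx0 (funext fun j => ?_)
  have hx1 : ∀ i, x (Sum.inl (i, 1)) = 0 := fun i => by
    have h1 := hcomb i
    have h2 := congrArg σ h1
    rw [map_add, map_mul, hxfix, hxfix, map_zero] at h2
    have h3 : (σ ω - ω) * x (Sum.inl (i, 1)) = 0 := by linear_combination h2 - h1
    exact (mul_eq_zero.1 h3).resolve_left (sub_ne_zero.2 hω)
  rcases j with ⟨i, l⟩ | ⟨⟩
  · fin_cases l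
    · have h1 := hcomb i
      rwa [hx1, mul_zero, add_zero] at h1
    · exact hx1 i
  · have h1 := hd0
    rw [hd_def, Fintype.sum_sum_type] at h1
    simpa [dd, hδ0] using h1

/-- Without an extra element every element respects the decomposition. -/
theorem tensor (hb4 : 4 ≤ b) {g : GL (Fin a × Fin b) F} (hg : g ∈ H) :
    ∃ (E : (Fin a → F) →ₗ[F] (Fin a → F)) (G : (Fin b → F) →ₗ[F] (Fin b → F)),
      Function.Injective E ∧ Function.Injective G ∧ ∀ u w, (g : M2 F a b) *ᵥ pl w u = pl (G w) (E u) := by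
  classical
  have ha := S.two_le
  have hw : ∀ z, z ≠ 0 ∧ f₂ z z = 0 → ∃ w, ∀ p, ∃ y, (g : M2 F a b) *ᵥ pl z p = pl w y := fun z hz => by
    obtain ⟨s, hs⟩ := S.all_lines hno hb4 hg hz.1 hz.2
    refine ⟨s, fun p => ?_⟩
    obtain ⟨y, hy⟩ : S.xi g z p ∈ (L s : Submodule F (V2 F a b)) := hs ▸ LinearMap.mem_range_self _ p
    exact ⟨y, hy.symm⟩
  choose! ω hω using hw
  have inj0 : ∀ {z : Fin b → F}, z ≠ 0 → ∀ {p : Fin a → F}, (g : M2 F a b) *ᵥ pl z p = 0 → p = 0 :=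
    fun hz p h0 => S.xi_injective g hz (by rw [xi_apply, h0, map_zero])
  set e : Fin a → F := Pi.single ⟨0, by omega⟩ 1 with he
  have he0 : e ≠ 0 := by simp [he]
  have hω0 : ∀ z, z ≠ 0 ∧ f₂ z z = 0 → ω z ≠ 0 := fun z hz h0 => by
    obtain ⟨y, hy⟩ := hω z hz e
    exact he0 (inj0 hz.1 (by rw [hy, h0, pl_zero']))
  have hE : ∀ z, z ≠ 0 ∧ f₂ z z = 0 → ∃ E : (Fin a → F) →ₗ[F] (Fin a → F), Function.Injective E ∧
      ∀ p, (g : M2 F a b) *ᵥ pl z p = pl (ω z) (E p) := fun z hz => by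
    obtain ⟨θ, hθ⟩ := exists_dot_eq_one (hω0 z hz)
    set E := C θ ∘ₗ Matrix.mulVecLin (g : M2 F a b) ∘ₗ pl z
    have hEp : ∀ p, (g : M2 F a b) *ᵥ pl z p = pl (ω z) (E p) := fun p => by
      obtain ⟨y, hy⟩ := hω z hz p
      simp [E, hy, C_pl, hθ]
    refine ⟨E, fun p p' h => sub_eq_zero.1 (inj0 hz.1 ?_), hEp⟩
    rw [map_sub, mulVec_sub, hEp, hEp, h, sub_self]
  obtain ⟨z₀, hz₀0, hz₀⟩ := Unit.exists_isotropic S.u₂ (by rw [Fintype.card_fin]; have := S.three_le; omega)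
  obtain ⟨E, hEi, hE0⟩ := hE z₀ ⟨hz₀0, hz₀⟩
  have hEs : Function.Surjective E := LinearMap.injective_iff_surjective.1 hEi
  have main : ∀ z, f₂ z z = 0 → ∃ w, ∀ p, (g : M2 F a b) *ᵥ pl z p = pl w (E p) := by
    intro z hz
    by_cases hd : ∃ c : F, z = c • z₀
    · obtain ⟨c, rfl⟩ := hd
      exact ⟨c • ω z₀, fun p => by rw [pl_smul', mulVec_smul, hE0, pl_smul']⟩
    push Not at hd
    have hz0 : z ≠ 0 := fun h => hd 0 (by rw [h, zero_smul])
    obtain ⟨τ, hτ, hiso⟩ := exists_iso_combination S.u₂ hz₀ hz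
    have hzz : z₀ + τ • z ≠ 0 := fun h => hd (-τ⁻¹) (by
      rw [neg_smul, eq_comm, neg_eq_iff_eq_neg, ← inv_smul_smul₀ hτ (-z), smul_neg,
        eq_neg_of_add_eq_zero_left h])
    obtain ⟨E₁, hE₁i, hE₁⟩ := hE z ⟨hz0, hz⟩
    obtain ⟨E₂, hE₂i, hE₂⟩ := hE (z₀ + τ • z) ⟨hzz, hiso⟩
    have hwd : ∀ c : F, ω z ≠ c • ω z₀ := fun c hc => by
      obtain ⟨p₀, hp₀⟩ := hEs (c • E₁ e)
      have h1 : (g : M2 F a b) *ᵥ (pl z e - pl z₀ p₀) = 0 := by
        rw [mulVec_sub, hE₁, hE0, hp₀, hc, pl_smul', map_smul, sub_self]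
      rw [← mulVec_zero (g : M2 F a b)] at h1
      have h2 := gl_mulVec_injective g h1
      rw [sub_eq_zero] at h2
      obtain ⟨θ, hθ, hθ'⟩ := exists_perp_of_notMem hd
      have h3 := congrArg (C θ) h2
      rw [C_pl, C_pl, hθ, hθ', one_smul, zero_smul] at h3
      exact he0 h3
    have hsum : ∀ p, pl (ω z₀) (E p) + τ • pl (ω z) (E₁ p) = pl (ω (z₀ + τ • z)) (E₂ p) := fun p => by
      rw [← hE0, ← hE₁, ← hE₂, ← mulVec_smul, ← mulVec_add, pl_add', pl_smul']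
    obtain ⟨θ₁, h1a, h1b⟩ := exists_perp_of_notMem hwd
    obtain ⟨θ₀, h0a, h0b⟩ := exists_perp_of_notMem (indep_symm (hω0 z₀ ⟨hz₀0, hz₀⟩) hwd)
    have c1 : ∀ p, τ • E₁ p = (θ₁ ⬝ᵥ ω (z₀ + τ • z)) • E₂ p := fun p => by
      simpa [map_add, C_pl, h1a, h1b] using congrArg (C θ₁) (hsum p)
    have c0 : ∀ p, E p = (θ₀ ⬝ᵥ ω (z₀ + τ • z)) • E₂ p := fun p => by
      simpa [map_add, C_pl, h0a, h0b] using congrArg (C θ₀) (hsum p)
    have hne : θ₀ ⬝ᵥ ω (z₀ + τ • z) ≠ 0 := fun h => he0 (hEi (by rw [c0, h, zero_smul, map_zero]))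
    refine ⟨((θ₁ ⬝ᵥ ω (z₀ + τ • z)) / (θ₀ ⬝ᵥ ω (z₀ + τ • z)) * τ⁻¹) • ω z, fun p => ?_⟩
    rw [hE₁, c0, pl_smul', ← map_smul, smul_smul]
    congr 1
    rw [← inv_smul_smul₀ hτ (E₁ p), c1, smul_smul]
    congr 1
    field_simp
  choose! G₀ hG₀ using main
  obtain ⟨p, hp⟩ := hEs e
  obtain ⟨q, hq⟩ : ∃ q : Fin a → F, q ⬝ᵥ e = 1 := exists_dot_eq_one he0
  set G : (Fin b → F) →ₗ[F] (Fin b → F) := D q ∘ₗ Matrix.mulVecLin (g : M2 F a b) ∘ₗ pr p with hG
  have hGz : ∀ z, f₂ z z = 0 → G z = G₀ z := fun z hz => by simp [hG, pr_eq, hG₀ z hz, D_pl, hp, hq]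
  have hall : ∀ z u, (g : M2 F a b) *ᵥ pl z u = pl (G z) (E u) := by
    intro z u
    have htop := Unit.span_isotropic S.u₂ (by rw [Fintype.card_fin]; have := S.three_le; omega)
      (W := LinearMap.ker (Matrix.mulVecLin (g : M2 F a b) ∘ₗ pr u - pr (E u) ∘ₗ G)) fun r hr => by
        rw [LinearMap.mem_ker, LinearMap.sub_apply, LinearMap.comp_apply, LinearMap.comp_apply, pr_eq, pr_eq,
          Matrix.mulVecLin_apply, hG₀ r hr, hGz r hr, sub_self]
    have h1 : z ∈ (⊤ : Submodule F (Fin b → F)) := Submodule.mem_top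
    rw [← htop, LinearMap.mem_ker, LinearMap.sub_apply, LinearMap.comp_apply, LinearMap.comp_apply, pr_eq, pr_eq,
      Matrix.mulVecLin_apply, sub_eq_zero] at h1
    exact h1
  refine ⟨E, G, hEi, ?_, fun u w => hall w u⟩
  rw [← LinearMap.ker_eq_bot, Submodule.eq_bot_iff]
  intro z hz
  rw [LinearMap.mem_ker] at hz
  by_contra hz0
  exact he0 (inj0 hz0 (by rw [hall, hz, pl_zero']))

end Setting

end CfsgLib.GeomClasses.UnitTensor
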